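import Cfsg.Agent.Lib.FourFrob.FourSix
import Cfsg.Agent.S3331
import Cfsg.Agent.Lib.ThreeCC.Local

/-!
Blocks of four points: the alternating group of degree eight.
-/

set_option autoImplicit false
set_option linter.unusedSectionVars false
set_option linter.style.haveILetI false

namespace CfsgLib.FourFrob

open Finset
open CfsgSharpTrans (D4 fixed mem_fixed)

universe u

variable {α : Type u} [Fintype α] [DecidableEq α]

variable {G : Subgroup (Equiv.Perm α)} {m : ℕ} {q : Finset α} {C : Subgroup (Equiv.Perm α)}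
  {c : Equiv.Perm α} {T : Finset α} {d : α}

namespace K4

variable (S : K4 G m) (X : Ctx3 G m q C c)
include S

omit S in
theorem move_point (hG : Trans4 G) {T : Finset α} (hT : T.card = 3) {d z : α} (hd : d ∉ T) (hz : z ∉ T) :
    ∃ g ∈ fixG G T, g d = z := by
  obtain ⟨a, b, x, hab, hax, hbx, rfl⟩ := card_eq_three.1 hT
  simp only [mem_insert, mem_singleton, not_or] at hd hz
  obtain ⟨g, hg, e1, e2, e3, e4⟩ := hG a b x d a b x z
    ⟨hab, hax, Ne.symm hd.1, hbx, Ne.symm hd.2.1, Ne.symm hd.2.2⟩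
    ⟨hab, hax, Ne.symm hz.1, hbx, Ne.symm hz.2.1, Ne.symm hz.2.2⟩
  refine ⟨g, ⟨hg, fun y hy => ?_⟩, e4⟩
  simp only [mem_insert, mem_singleton] at hy
  rcases hy with rfl | rfl | rfl <;> assumption

include X

/-- Nothing outside its cyclic group centralises `c` in the three-point stabiliser. -/
theorem cent_T (hl : (fixed c).card = 5) (hT : T.card = 3) (hd : d ∉ T) (hq : q = insert d T) :
    ∀ g ∈ fixG G T, Commute g c → g ∈ Subgroup.zpowers c := by
  classical
  have hC := (compl_three S X).2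
  have hTF : T ⊆ fixed c := (subset_insert d T).trans (hq ▸ X.sub)
  have hdF : d ∈ fixed c := X.sub (hq ▸ mem_insert_self d T)
  obtain ⟨e, he⟩ := card_eq_one.1 (show ((fixed c \ T).erase d).card = 1 by
    rw [card_erase_of_mem (mem_sdiff.2 ⟨hdF, hd⟩), card_sdiff_of_subset hTF, hT, hl])
  have hed : e ≠ d := ne_of_mem_erase (show e ∈ (fixed c \ T).erase d from he ▸ mem_singleton_self e)
  have hpts : ∀ g ∈ fixG G T, g ∈ NG G c → g d = d ∨ g d = e := fun g hg hgn => by
    by_cases h : g d = d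
    · exact .inl h
    right
    have h1 : g d ∈ fixed c := image_fixed_of_mem_NG hgn ▸ mem_image_of_mem g hdF
    have h2 : g d ∉ T := fun h' => hd (g.injective (hg.2 _ h') ▸ h')
    have := mem_erase.2 ⟨h, mem_sdiff.2 ⟨h1, h2⟩⟩
    rwa [he, mem_singleton] at this
  have hfix : ∀ g ∈ fixG G T, g ∈ NG G c → g d = d → g ∈ Subgroup.zpowers c := fun g hg hgn hgd => by
    rw [← hC]
    refine norm_mem S X.hC X.mem (elt_ne X.ec) ⟨hg.1, fun z hz => ?_⟩ (mem_NG.1 hgn).2
    rw [hq] at hz
    rcases mem_insert.1 hz with rfl | h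
    · exact hgd
    · exact hg.2 z h
  have hzc : ∀ g ∈ Subgroup.zpowers c, Commute g c := fun g hg => by
    obtain ⟨i, rfl⟩ := Subgroup.mem_zpowers_iff.1 hg
    exact (Commute.refl c).zpow_left i
  have hno : ∀ t ∈ fixG G T, ∀ i : ℕ, t ^ 2 ^ i = 1 → Commute t c → t = 1 := by
    intro t ht i hti htc
    by_contra ht1
    refine transfer_kill S hT le_rfl (fun g hg _ _ => hg) X.ec
      (fixG_anti (hq ▸ subset_insert d T) (X.hC.le X.mem)) (by rw [hl]; norm_num) (fun g hg hgc _ => ?_) ht ht1 hti htc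
    have hgn : g ∈ NG G c := mem_NG.2 ⟨hg.1, hgc⟩
    have htn : t ∈ NG G c := cent_le_NG ht.1 htc
    rcases hpts g hg hgn with h | h
    · exact hzc g (hfix g hg hgn h)
    have htd : t d = e := (hpts t ht htn).resolve_left fun h' => by
      refine ht1 (eq_one_of_coprime_pow hti (pow_orderOf_eq_one t) ((Nat.coprime_two_left.2 ?_).pow_left i))
      exact odd_order S X (hC ▸ hfix t ht htn h')
    have h1 := hzc _ (hfix (t⁻¹ * g) (mul_mem (inv_mem ht) hg) ((NG G c).mul_mem ((NG G c).inv_mem htn) hgn)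
      (by rw [Equiv.Perm.mul_apply, h, Equiv.Perm.inv_def, Equiv.symm_apply_eq, htd]))
    have h2 : Commute (t * (t⁻¹ * g)) c := htc.mul_left h1
    rwa [mul_inv_cancel_left] at h2
  intro g hg hgc
  have hgn : g ∈ NG G c := cent_le_NG hg.1 hgc
  rcases hpts g hg hgn with h | h
  · exact hfix g hg hgn h
  exfalso
  have hge : g e = d := by
    have heF : e ∈ fixed c \ T := mem_of_mem_erase (show e ∈ (fixed c \ T).erase d from he ▸ mem_singleton_self e)
    have h1 : g e ∈ fixed c := image_fixed_of_mem_NG hgn ▸ mem_image_of_mem g (mem_sdiff.1 heF).1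
    have h2 : g e ∉ T := fun h' => (mem_sdiff.1 heF).2 (g.injective (hg.2 _ h') ▸ h')
    by_contra h3
    have := mem_erase.2 ⟨h3, mem_sdiff.2 ⟨h1, h2⟩⟩
    rw [he, mem_singleton] at this
    exact hed (g.injective (this.trans h.symm))
  have hev : 2 ∣ orderOf g := by
    by_contra hodd
    obtain ⟨j, hj⟩ := exists_pow_eq_self_of_coprime ((Nat.prime_two.coprime_iff_not_dvd).2 hodd)
    have h2 : (g ^ 2) d = d := by rw [sq, Equiv.Perm.mul_apply, h, hge]
    have h3 := Equiv.Perm.pow_apply_eq_self_of_apply_eq_self h2 j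
    rw [hj, h] at h3
    exact hed h3
  obtain ⟨j, i, -, hji, hj1⟩ := exists_two_power hev
  exact hj1 (hno _ (pow_mem hg j) i hji (hgc.pow_left j))

/-- The two-part is a fixed-point-free module of the element of order three. -/
theorem PP_fpf : ∀ w ∈ PP G q, Commute w c → w = 1 := fun w hw hwc => by
  by_contra hw1
  obtain ⟨l, hl⟩ := S.set.two q X.hq ⟨w, hw⟩
  exact not_commute S X.hq (X.hC.le X.mem) X.ec.prime X.ec.order X.ec.dvd (twoPart_le _ hw) hw1
    (congrArg Subtype.val hl) hwc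

theorem PP_conj : ∀ w ∈ PP G q, c * w * c⁻¹ ∈ PP G q := fun w hw => by
  have h := map_PP X.ec.mem q
  rw [(image_congr fun z hz => mem_fixed.1 (X.sub hz)).trans image_id] at h
  exact h ▸ ⟨w, hw, rfl⟩

theorem PP_mod : Nat.card (PP G q) ≡ 1 [MOD 3] := by
  classical
  haveI := Fact.mk Nat.prime_three
  let W := PP G q
  let A : Subgroup (Equiv.Perm α) := Subgroup.zpowers c
  have hA : IsPGroup 3 A := IsPGroup.of_card (n := 1) (by rw [Nat.card_zpowers, X.ec.order, pow_one])
  have hpw : ∀ a ∈ A, ∀ w ∈ W, a * w * a⁻¹ ∈ W := fun a ha w hw =>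
    (Subgroup.mem_normalizer_iff.1
      ((Subgroup.zpowers_le.2 (mem_normalizer_of_forall (PP_conj S X))) ha) w).1 hw
  letI : MulAction A W :=
    { smul := fun a w => ⟨a * w * (a : Equiv.Perm α)⁻¹, hpw a a.2 _ w.2⟩
      one_smul := fun w => Subtype.ext (by
        show (1 : Equiv.Perm α) * w * (1 : Equiv.Perm α)⁻¹ = w
        group)
      mul_smul := fun a b w => Subtype.ext (by
        show ((a * b : A) : Equiv.Perm α) * w * ((a * b : A) : Equiv.Perm α)⁻¹ =
          a * (b * w * (b : Equiv.Perm α)⁻¹) * (a : Equiv.Perm α)⁻¹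
        rw [Subgroup.coe_mul]; group) }
  have h := hA.card_modEq_card_fixedPoints W
  have e : MulAction.fixedPoints A W = {1} := by
    ext w
    refine ⟨fun hw => ?_, ?_⟩
    · have h1 : c * w * c⁻¹ = w := congrArg Subtype.val (hw ⟨c, Subgroup.mem_zpowers c⟩)
      exact Subtype.ext (PP_fpf S X w w.2 (mul_inv_eq_iff_eq_mul.1 h1).symm)
    · rintro rfl
      intro a
      exact Subtype.ext (show (a : Equiv.Perm α) * 1 * (a : Equiv.Perm α)⁻¹ = 1 by group)
  rwa [e, Nat.card_coe_set_eq, Set.ncard_singleton] at h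

/-- Every element of the two-part is a commutator with `c`. -/
theorem PP_comm : ∀ w ∈ PP G q, ∃ v ∈ PP G q, v⁻¹ * (c * v * c⁻¹) = w := by
  classical
  let φ : PP G q → PP G q := fun v => ⟨_, mul_mem (inv_mem v.2) (PP_conj S X v v.2)⟩
  have hinj : Function.Injective φ := fun u v h => by
    have h1 : (u : Equiv.Perm α)⁻¹ * (c * u * c⁻¹) = (v : Equiv.Perm α)⁻¹ * (c * v * c⁻¹) := congrArg Subtype.val h
    have h2 : Commute ((v : Equiv.Perm α) * (u : Equiv.Perm α)⁻¹) c := by
      show _ = _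
      calc (v : Equiv.Perm α) * (u : Equiv.Perm α)⁻¹ * c
          = v * ((u : Equiv.Perm α)⁻¹ * (c * u * c⁻¹)) * c * (u : Equiv.Perm α)⁻¹ := by group
        _ = v * ((v : Equiv.Perm α)⁻¹ * (c * v * c⁻¹)) * c * (u : Equiv.Perm α)⁻¹ := by rw [h1]
        _ = c * (v * (u : Equiv.Perm α)⁻¹) := by group
    exact (Subtype.ext (mul_inv_eq_one.1 (PP_fpf S X _ (mul_mem v.2 (inv_mem u.2)) h2))).symm
  intro w hw
  obtain ⟨v, hv⟩ := Finite.surjective_of_injective hinj ⟨w, hw⟩
  exact ⟨v, v.2, congrArg Subtype.val hv⟩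

theorem five (hl : (fixed c).card = 5) : Fintype.card α = 8 ∧ G = alternatingGroup α := by
  classical
  haveI := Fact.mk Nat.prime_two
  obtain ⟨d, hd⟩ := card_pos.1 (show 0 < q.card by rw [X.hq]; norm_num)
  set T := q.erase d
  have hT : T.card = 3 := by rw [card_erase_of_mem hd, X.hq]
  have hdT : d ∉ T := notMem_erase d q
  have hq : q = insert d T := (insert_erase hd).symm
  obtain ⟨hm, hC⟩ := compl_three S X
  set M := fixG G T with hMdef
  have hcM : c ∈ M := fixG_anti (erase_subset d q) (X.hC.le X.mem)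
  have hM := S.set.trans.card_three hT hdT
  rw [← hq] at hM
  have hn4 := gt_four S
  have hev := Nat.even_iff.1 S.even
  -- two-powers dividing the order of the stabiliser
  have htwo : ∀ j : ℕ, 2 ^ j ∣ Nat.card M → 2 ^ j ∣ Nat.card (PP G q) := fun j hj => by
    rw [hM] at hj
    have hj' : 2 ^ j ∣ Nat.card (fixG G q) :=
      ((Nat.prime_two.coprime_iff_not_dvd.2 (by omega : ¬ 2 ∣ Fintype.card α - 3)).pow_left j).dvd_of_dvd_mul_left hj
    obtain ⟨K, hK⟩ := Sylow.exists_subgroup_card_pow_prime 2 hj'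
    have hle : K.map (fixG G q).subtype ≤ PP G q := le_twoPart
      ((IsPGroup.of_card hK).map _) (Subgroup.map_subtype_le _)
    rw [← hK, ← Subgroup.card_map_of_injective (fixG G q).subtype_injective]
    exact Subgroup.card_dvd_of_le hle
  have hPPM : PP G q ≤ M := (twoPart_le _).trans (fixG_anti (erase_subset d q))
  have hPdvd : Nat.card (PP G q) ∣ Nat.card M := Subgroup.card_dvd_of_le hPPM
  have hmod := PP_mod S X
  set X₀ : Subgroup M := Subgroup.zpowers ⟨c, hcM⟩
  have hX₀ : Nat.card X₀ = 3 := by rw [Nat.card_zpowers, Subgroup.orderOf_mk, X.ec.order]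
  have hcen : Subgroup.centralizer (X₀ : Set M) = X₀ := by
    ext ⟨g, hg⟩
    rw [Subgroup.mem_centralizer_iff]
    constructor
    · intro h
      have h1 : Commute g c := (congrArg Subtype.val (h ⟨c, hcM⟩ (Subgroup.mem_zpowers _))).symm
      obtain ⟨i, hi⟩ := Subgroup.mem_zpowers_iff.1 (cent_T S X hl hT hdT hq g hg h1)
      exact Subgroup.mem_zpowers_iff.2 ⟨i, Subtype.ext hi⟩
    · intro h u hu
      obtain ⟨i, hi⟩ := Subgroup.mem_zpowers_iff.1 h
      obtain ⟨j, rfl⟩ := Subgroup.mem_zpowers_iff.1 hu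
      rw [← hi, ← zpow_add, ← zpow_add, add_comm]
  rcases Cfsg.Agent.S3331.result X₀ hX₀ hcen with ⟨N, hN, hnil, -, hquot⟩ | ⟨N, hN, hNab, hN2, ⟨e⟩⟩ | ⟨⟨e⟩⟩
  · -- all two-elements lie in the nilpotent normal subgroup
    exfalso
    haveI := hN
    haveI := hnil
    have hcube : ∀ u v : M ⧸ N, (u⁻¹ * (v * u * v⁻¹)) ^ 3 = 1 := fun u v => by
      rcases hquot with h | ⟨⟨e⟩⟩
      · rw [← h]; exact pow_card_eq_one'
      · apply e.injective
        have key : ∀ p : Equiv.Perm (Fin 3), Equiv.Perm.sign p = 1 → p ^ 3 = 1 := by decide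
        rw [map_pow, map_one]
        refine key _ ?_
        simp only [map_mul, map_inv]
        rw [mul_comm (Equiv.Perm.sign (e v)) (Equiv.Perm.sign (e u)), mul_inv_cancel_right, inv_mul_cancel]
    have hPN : ∀ w : M, (w : Equiv.Perm α) ∈ PP G q → w ∈ N := fun w hw => by
      obtain ⟨v, hv, hvw⟩ := PP_comm S X w hw
      have hwv : w = (⟨v, hPPM hv⟩ : M)⁻¹ * (⟨c, hcM⟩ * ⟨v, hPPM hv⟩ * (⟨c, hcM⟩ : M)⁻¹) := Subtype.ext hvw.symm
      rw [← QuotientGroup.eq_one_iff]
      obtain ⟨i, hi⟩ := S.set.two q X.hq ⟨w, hw⟩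
      refine eq_one_of_coprime_pow (a := 2 ^ i) ?_ (b := 3) ?_ ((by norm_num : Nat.Coprime 2 3).pow_left i)
      · rw [← QuotientGroup.mk_pow, show w ^ 2 ^ i = 1 from Subtype.ext (by simpa using congrArg Subtype.val hi)]
        rfl
      · rw [hwv, QuotientGroup.mk_mul, QuotientGroup.mk_inv, QuotientGroup.mk_mul, QuotientGroup.mk_mul,
          QuotientGroup.mk_inv]
        exact hcube _ _
    have hall : ∀ z ∉ T, ∀ w : M, (w : Equiv.Perm α) ∈ PP G (insert z T) → w ∈ N := fun z hz w hw => by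
      obtain ⟨g, hg, hgz⟩ := move_point S.set.trans hT hdT hz
      have himg : q.image g = insert z T := by
        rw [hq, image_insert, hgz, (image_congr (g := id) fun y hy => hg.2 y hy).trans image_id]
      rw [← himg, ← map_PP hg.1] at hw
      obtain ⟨v, hv, hvw⟩ := hw
      have hwv : w = ⟨g, hg⟩ * ⟨v, hPPM hv⟩ * (⟨g, hg⟩ : M)⁻¹ := Subtype.ext hvw.symm
      exact hwv ▸ hN.conj_mem _ (hPN ⟨v, hPPM hv⟩ hv) _
    refine not_two S hT (((default : Sylow 2 N).isPGroup'.map (M.subtype.comp N.subtype)).to_le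
      ((Subgroup.closure_le _).2 ?_))
    rintro w ⟨hw, i, hi⟩
    obtain ⟨l, -, hl⟩ := (Nat.dvd_prime_pow Nat.prime_two).1 (orderOf_dvd_of_pow_eq_one hi)
    obtain ⟨z, hz, hzw⟩ := exists_pt S hT (IsPGroup.of_card (n := l) (by rw [Nat.card_zpowers, hl]) :
      IsPGroup 2 (Subgroup.zpowers w)) (Subgroup.zpowers_le.2 hw)
    have hwN := hall z hz ⟨w, hw⟩ (hzw (Subgroup.mem_zpowers w))
    obtain ⟨P, hP⟩ := (IsPGroup.of_card (n := l)
      (by rw [Nat.card_zpowers, Subgroup.orderOf_mk, Subgroup.orderOf_mk, hl]) :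
      IsPGroup 2 (Subgroup.zpowers (⟨⟨w, hw⟩, hwN⟩ : N))).exists_le_sylow
    haveI := Sylow.unique_of_normal (default : Sylow 2 N) inferInstance
    rw [Subsingleton.elim (default : Sylow 2 N) P]
    exact ⟨_, hP (Subgroup.mem_zpowers _), rfl⟩
  · -- the elementary abelian normal subgroup is trivial
    have hNp : IsPGroup 2 (N.map M.subtype) :=
      (show IsPGroup 2 N from fun n => ⟨1, Subtype.ext (by simpa using hN2 n n.2)⟩).map _
    obtain ⟨z, hz, hzN⟩ := exists_pt S hT hNp (Subgroup.map_subtype_le _)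
    have hfix : ∀ n ∈ N, ∀ y, ((n : M) : Equiv.Perm α) y = y := fun n hn y => by
      by_cases hy : y ∈ T
      · exact n.2.2 y hy
      obtain ⟨g, hg, hgy⟩ := move_point S.set.trans hT hz hy
      have h1 : (⟨g, hg⟩ : M)⁻¹ * n * ⟨g, hg⟩ ∈ N := by
        simpa using hN.conj_mem n hn (⟨g, hg⟩ : M)⁻¹
      have h2 : g⁻¹ ((n : Equiv.Perm α) (g z)) = z :=
        (twoPart_le _ (hzN ⟨_, h1, rfl⟩)).2 z (mem_insert_self z T)
      rw [← hgy]
      rwa [Equiv.Perm.inv_def, Equiv.symm_apply_eq] at h2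
    have hbot : N = ⊥ := (Subgroup.eq_bot_iff_forall _).2 fun n hn => Subtype.ext (Equiv.ext (hfix n hn))
    have h60 : Nat.card M = 60 := by
      rw [Subgroup.card_eq_card_quotient_mul_card_subgroup N, Nat.card_congr e.toEquiv, hbot, Subgroup.card_bot,
        mul_one, nat_card_alternatingGroup, Nat.card_fin]
      rfl
    have h3 : 3 ∣ Nat.card (fixG G q) := by
      rw [← X.ec.order, ← Subgroup.orderOf_mk c (X.hC.le X.mem)]; exact orderOf_dvd_natCard _
    have h4 : 4 ∣ Nat.card (fixG G q) :=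
      (htwo 2 (by rw [h60]; norm_num)).trans (Subgroup.card_dvd_of_le (twoPart_le _))
    have h12 := (show Nat.Coprime 3 4 by norm_num).mul_dvd_of_dvd_of_dvd h3 h4
    rw [h60] at hM
    have hn : Fintype.card α = 8 := by
      obtain ⟨k, hk⟩ := h12
      rw [hk] at hM
      have h5 : (Fintype.card α - 3) * k = 5 := by nlinarith
      rcases (Nat.dvd_prime (by norm_num : Nat.Prime 5)).1 ⟨k, h5.symm⟩ with h | h <;> omega
    refine ⟨hn, ?_⟩
    haveI : Nontrivial α := Fintype.one_lt_card_iff_nontrivial.1 (by omega)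
    refine Equiv.Perm.eq_alternatingGroup_of_index_eq_two ?_
    have hG := S.set.trans.card X.hq
    have hH : Nat.card (fixG G q) = 12 := by rw [hn] at hM; omega
    rw [hn, hH] at hG
    have hidx := Subgroup.index_mul_card G
    rw [Nat.card_eq_fintype_card (α := Equiv.Perm α), Fintype.card_perm, hn, hG,
      show Nat.factorial 8 = 40320 from rfl, show (8 : ℕ).descFactorial 4 * 12 = 20160 by decide] at hidx
    omega
  · exfalso
    have h168 : Nat.card M = 168 := (Nat.card_congr e.toEquiv).trans CfsgLib.ThreeCC.card_psl_two_seven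
    obtain ⟨k, hk⟩ := (S.set.two q X.hq).exists_card_eq
    have h8 := htwo 3 (by rw [h168]; norm_num)
    rw [hk] at h8 hmod hPdvd
    rw [h168] at hPdvd
    have hk3 : 3 ≤ k := (Nat.pow_dvd_pow_iff_le_right (by norm_num)).1 h8
    have hk4 : k < 4 := by
      by_contra h
      exact absurd ((pow_dvd_pow 2 (not_lt.1 h)).trans hPdvd) (by norm_num)
    rw [show k = 3 by omega] at hmod
    exact absurd hmod (by decide)

omit X in
/-- Blocks of four points with complements of odd order: the alternating group of degree eight. -/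
theorem alt : Fintype.card α = 8 ∧ G = alternatingGroup α := by
  classical
  obtain ⟨q, -, hq⟩ := exists_subset_card_eq (show 4 ≤ (univ : Finset α).card by rw [card_univ]; exact S.four)
  obtain ⟨C, c, X⟩ := ctx3_exists S hq
  rcases three_small S X with h | h
  · exact five S X h
  · exact (six_false S X h).elim

end K4

end CfsgLib.FourFrob
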