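import Cfsg.Agent.Lib.FourFrob.EvenMain
import Cfsg.Agent.Lib.FourFrob.FourMain
import Cfsg.Agent.S4221

/-!
Four-fold transitive groups whose four-point stabilisers are Frobenius groups.
-/

set_option autoImplicit false
set_option linter.unusedSectionVars false
set_option linter.style.haveILetI false

namespace CfsgLib.FourFrob

open Finset
open scoped Pointwise
open CfsgSharpTrans (D4 fixed mem_fixed)

universe u v

/-- Transport of Frobenius complements between universes. -/
theorem frob_map_equiv' {A : Type u} {B : Type v} [Group A] [Group B] {C : Subgroup A}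
    (hC : Cfsg.IsFrobeniusComplement C) (e : A ≃* B) : Cfsg.IsFrobeniusComplement (C.map e.toMonoidHom) := by
  have hinj : Function.Injective e.toMonoidHom := e.injective
  refine ⟨fun hb => hC.1 ((Subgroup.map_eq_bot_iff_of_injective _ hinj).1 hb), fun ht => hC.2.1 ?_,
    fun g hg => ?_⟩
  · rw [← Subgroup.comap_map_eq_self_of_injective hinj C, ht, Subgroup.comap_top]
  · obtain ⟨g, rfl⟩ := e.surjective g
    have h : g ∉ C := fun h => hg ⟨g, h, rfl⟩
    rw [Subgroup.eq_bot_iff_forall]
    intro x hx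
    obtain ⟨⟨x, hxC, rfl⟩, hxg⟩ := Subgroup.mem_inf.1 hx
    rw [CfsgLib.mem_conj_smul_iff] at hxg
    obtain ⟨y, hy, hyx⟩ := hxg
    have hyx' : y = g⁻¹ * x * g := e.injective (by rw [map_mul, map_mul, map_inv]; exact hyx)
    have hxy : x ∈ MulAut.conj g • C := CfsgLib.mem_conj_smul_iff.2 (hyx' ▸ hy)
    have h1 := Subgroup.mem_inf.2 ⟨(hxC : x ∈ C), hxy⟩
    rw [hC.2.2 g h, Subgroup.mem_bot] at h1
    rw [h1, map_one]

variable {α : Type u} [Fintype α] [DecidableEq α] {G : Subgroup (Equiv.Perm α)}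

theorem IsCompl.map_conj {q : Finset α} {C : Subgroup (Equiv.Perm α)} (h : IsCompl (fixG G q) C)
    {g : Equiv.Perm α} (hg : g ∈ G) :
    IsCompl (fixG G (q.image g)) (C.map (cjm g)) ∧ Nat.card (C.map (cjm g)) = Nat.card C := by
  have hinj : Function.Injective (cjm g) := (MulAut.conj g).injective
  refine ⟨?_, (Nat.card_congr (C.equivMapOfInjective _ hinj).toEquiv).symm⟩
  rw [← map_fixG hg]
  refine ⟨Subgroup.map_mono h.le, ?_⟩
  have e : (C.map (cjm g)).subgroupOf ((fixG G q).map (cjm g)) =
      (C.subgroupOf (fixG G q)).map ((fixG G q).equivMapOfInjective (cjm g) hinj).toMonoidHom := by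
    ext y
    simp only [Subgroup.mem_subgroupOf, Subgroup.mem_map]
    constructor
    · rintro ⟨z, hz, he⟩
      exact ⟨⟨z, h.le hz⟩, hz, Subtype.ext he⟩
    · rintro ⟨z, hz, he⟩
      exact ⟨z, hz, congrArg Subtype.val he⟩
  rw [e]
  exact frob_map_equiv h.2 _

/-- The three groups. -/
theorem frobenius_cases (hT : Trans4 G) (hn : 4 ≤ Fintype.card α) {q₀ : Finset α} (hq₀ : q₀.card = 4)
    {C₀ : Subgroup (Equiv.Perm α)} (hC₀ : IsCompl (fixG G q₀) C₀) :
    (Fintype.card α = 7 ∧ G = ⊤) ∨ (Fintype.card α = 8 ∧ G = alternatingGroup α) ∨ Cfsg.IsM23 G := by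
  classical
  set m := Nat.card C₀
  have hcompl : ∀ q : Finset α, q.card = 4 → ∃ C, IsCompl (fixG G q) C ∧ Nat.card C = m := fun q hq => by
    obtain ⟨g, hg, rfl⟩ := hT.exists_image hq₀ hq
    exact ⟨_, hC₀.map_conj hg⟩
  obtain ⟨K₀, hK₀, hmul, -, -, -, -, -⟩ := hC₀.kernel_mul
  have hcardq : ∀ q : Finset α, q.card = 4 → Nat.card (fixG G q) = Nat.card (fixG G q₀) := fun q hq => by
    obtain ⟨g, hg, rfl⟩ := hT.exists_image hq₀ hq
    rw [← map_fixG hg]
    exact Subgroup.card_map_of_injective (MulAut.conj g).injective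
  rcases Nat.even_or_odd m with hm | hm
  · exact .inl (E4.seven (κ := Nat.card K₀) ⟨hT, hm, hcompl, fun q hq => (hcardq q hq).trans hmul.symm⟩ hn)
  right
  rcases Nat.even_or_odd (Nat.card (fixG G q₀)) with hH | hH
  swap
  · -- stabilisers of odd order
    exfalso
    have hodd : ∀ p ∈ G, ∀ a b c d : α, D4 a b c d → p a = a → p b = b → p c = c → p d = d → Odd (orderOf p) := by
      intro p hp a b c d hd ha hb hc hd'
      have hpq : p ∈ fixG G {a, b, c, d} := ⟨hp, fun z hz => by
        simp only [mem_insert, mem_singleton] at hz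
        rcases hz with rfl | rfl | rfl | rfl <;> assumption⟩
      rw [← Subgroup.orderOf_mk p hpq]
      exact ((hcardq _ (card_quad hd)).symm ▸ hH).of_dvd_nat (orderOf_dvd_natCard _)
    have hcases := odd_stab_cases G hT hn hodd
    have hG := hT.card hq₀
    set h := Nat.card (fixG G q₀) with hh
    have hh3 : h = 1 ∨ h = 3 := by
      have htop : G = ⊤ → Nat.card G = (Fintype.card α).factorial := fun e => by
        rw [e, Subgroup.card_top, Nat.card_eq_fintype_card, Fintype.card_perm]
      have halt : G = alternatingGroup α → 2 ≤ Fintype.card α → 2 * Nat.card G = (Fintype.card α).factorial :=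
        fun e h2 => by
        haveI : Nontrivial α := Fintype.one_lt_card_iff_nontrivial.1 h2
        rw [e, two_mul_nat_card_alternatingGroup, Nat.card_eq_fintype_card, Fintype.card_perm]
      rcases hcases with ⟨hn', e⟩ | ⟨hn', e⟩ | ⟨hn', e⟩
      · have h1 := htop e
        rcases hn' with hn' | hn' <;> rw [hn'] at h1 hG <;>
          simp only [Nat.descFactorial, Nat.factorial] at h1 hG <;> omega
      · have h1 := halt e (by omega)
        rcases hn' with hn' | hn' <;> rw [hn'] at h1 hG <;>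
          simp only [Nat.descFactorial, Nat.factorial] at h1 hG <;> omega
      · rw [hn', e] at hG
        simp only [Nat.descFactorial] at hG
        omega
    have hm1 := hC₀.card_ne_one
    have hdvd : m ∣ h := Subgroup.card_dvd_of_le hC₀.le
    rcases hh3 with h1 | h3
    · rw [h1] at hdvd
      exact hm1 (Nat.dvd_one.1 hdvd)
    · rw [h3] at hdvd
      have hm3 : m = 3 := ((Nat.dvd_prime Nat.prime_three).1 hdvd).resolve_left hm1
      exact hC₀.2.2.1 (Subgroup.eq_top_of_card_eq _ (by rw [hC₀.card_subgroupOf]; exact hm3.trans h3.symm))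
  -- complements of odd order and stabilisers of even order
  have hne : ∀ q : Finset α, q.card = 4 → twoPart (fixG G q) ≠ ⊥ := fun q hq hbot => by
    haveI := Fact.mk Nat.prime_two
    obtain ⟨⟨t, ht⟩, hto⟩ := exists_prime_orderOf_dvd_card' (G := fixG G q) 2 ((hcardq q hq).symm ▸ hH.two_dvd)
    rw [Subgroup.orderOf_mk] at hto
    have h : t ∈ twoPart (fixG G q) := Subgroup.subset_closure ⟨ht, 1, by rw [pow_one, ← hto, pow_orderOf_eq_one]⟩
    rw [hbot, Subgroup.mem_bot] at h
    rw [h, orderOf_one] at hto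
    norm_num at hto
  have htwo : ∀ q : Finset α, q.card = 4 → IsPGroup 2 (twoPart (fixG G q)) := fun q hq => by
    haveI := Fact.mk Nat.prime_two
    obtain ⟨C, hC, hCm⟩ := hcompl q hq
    obtain ⟨K, -, -, hnil, -, hmem, -⟩ := hC.kernel
    haveI := hnil
    refine ((default : Sylow 2 K).isPGroup'.map K.subtype).to_le ((Subgroup.closure_le _).2 ?_)
    rintro t ⟨ht, i, hi⟩
    obtain ⟨l, -, hl⟩ := (Nat.dvd_prime_pow Nat.prime_two).1 (orderOf_dvd_of_pow_eq_one hi)
    have htK : t ∈ K := hmem t ht (coprime_of_pow_eq_one Nat.prime_two hi (by rw [hCm]; exact hm.not_two_dvd_nat))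
    obtain ⟨P, hP⟩ := (IsPGroup.of_card (n := l) (by rw [Nat.card_zpowers, Subgroup.orderOf_mk, hl]) :
      IsPGroup 2 (Subgroup.zpowers (⟨t, htK⟩ : K))).exists_le_sylow
    haveI : (default : Sylow 2 K).Normal := inferInstance
    haveI := Sylow.unique_of_normal (default : Sylow 2 K) inferInstance
    rw [Subsingleton.elim (default : Sylow 2 K) P]
    exact ⟨_, hP (Subgroup.mem_zpowers _), rfl⟩
  have S : TwoSet G := ⟨hT, htwo, hne⟩
  rcases S.dichotomy hn with h4 | ⟨h23, h7⟩
  · left
    refine K4.alt (m := m) ⟨S, hn, fun q hq => ?_, hm, hcompl⟩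
    exact (eq_of_subset_of_card_le (subset_blk G q) (by rw [h4 q hq, hq])).symm
  · exact .inr (S.isM23 h23 h7)

end CfsgLib.FourFrob
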