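import Cfsg.Agent.Lib.SharpTrans.Four
import Mathlib

/-!
Four-fold transitive permutation groups: pointwise stabilisers, two-parts and their fixed sets.
-/

set_option autoImplicit false
set_option linter.unusedSectionVars false

namespace CfsgLib.FourFrob

open Finset
open CfsgSharpTrans (D4 fixed mem_fixed)

universe u

variable {α : Type u} [Fintype α] [DecidableEq α]

/-- The pointwise stabiliser of a finite set. -/
def fixG (G : Subgroup (Equiv.Perm α)) (s : Finset α) : Subgroup (Equiv.Perm α) where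
  carrier := {g | g ∈ G ∧ ∀ x ∈ s, g x = x}
  one_mem' := ⟨one_mem G, fun _ _ => rfl⟩
  mul_mem' := fun {g h} hg hh => ⟨mul_mem hg.1 hh.1, fun x hx => by rw [Equiv.Perm.mul_apply, hh.2 x hx, hg.2 x hx]⟩
  inv_mem' := fun {g} hg => ⟨inv_mem hg.1, fun x hx => g.symm_apply_eq.2 (hg.2 x hx).symm⟩

theorem mem_fixG {G : Subgroup (Equiv.Perm α)} {s : Finset α} {g : Equiv.Perm α} :
    g ∈ fixG G s ↔ g ∈ G ∧ ∀ x ∈ s, g x = x := Iff.rfl

theorem fixG_le (G : Subgroup (Equiv.Perm α)) (s : Finset α) : fixG G s ≤ G := fun _ h => h.1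

theorem fixG_anti {G : Subgroup (Equiv.Perm α)} {s t : Finset α} (h : s ⊆ t) : fixG G t ≤ fixG G s :=
  fun _ hg => ⟨hg.1, fun x hx => hg.2 x (h hx)⟩

open Classical in
/-- The common fixed points. -/
noncomputable def fixS (R : Subgroup (Equiv.Perm α)) : Finset α :=
  univ.filter fun x => ∀ g ∈ R, g x = x

theorem mem_fixS {R : Subgroup (Equiv.Perm α)} {x : α} : x ∈ fixS R ↔ ∀ g ∈ R, g x = x := by
  simp [fixS]

theorem fixS_anti {R S : Subgroup (Equiv.Perm α)} (h : R ≤ S) : fixS S ⊆ fixS R :=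
  fun _ hx => mem_fixS.2 fun g hg => mem_fixS.1 hx g (h hg)

theorem subset_fixS_fixG (G : Subgroup (Equiv.Perm α)) (s : Finset α) : s ⊆ fixS (fixG G s) :=
  fun x hx => mem_fixS.2 fun _ hg => hg.2 x hx

theorem le_fixG_fixS {G R : Subgroup (Equiv.Perm α)} (h : R ≤ G) : R ≤ fixG G (fixS R) :=
  fun g hg => ⟨h hg, fun _ hx => mem_fixS.1 hx g hg⟩

/-- The subgroup generated by the elements of two-power order. -/
def twoPart (X : Subgroup (Equiv.Perm α)) : Subgroup (Equiv.Perm α) :=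
  Subgroup.closure {g | g ∈ X ∧ ∃ i, g ^ 2 ^ i = 1}

theorem twoPart_le (X : Subgroup (Equiv.Perm α)) : twoPart X ≤ X :=
  (Subgroup.closure_le _).2 fun _ h => h.1

theorem le_twoPart {X R : Subgroup (Equiv.Perm α)} (hR : IsPGroup 2 R) (h : R ≤ X) : R ≤ twoPart X := by
  intro g hg
  obtain ⟨i, hi⟩ := hR ⟨g, hg⟩
  exact Subgroup.subset_closure ⟨h hg, i, congrArg Subtype.val hi⟩

theorem twoPart_mono {X Y : Subgroup (Equiv.Perm α)} (h : X ≤ Y) : twoPart X ≤ twoPart Y :=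
  Subgroup.closure_mono fun _ hg => ⟨h hg.1, hg.2⟩

/-- Conjugation. -/
abbrev cjm (g : Equiv.Perm α) : Equiv.Perm α →* Equiv.Perm α := (MulAut.conj g).toMonoidHom

theorem cjm_apply (g x : Equiv.Perm α) : cjm g x = g * x * g⁻¹ := rfl

theorem map_fixG {G : Subgroup (Equiv.Perm α)} {g : Equiv.Perm α} (hg : g ∈ G) (s : Finset α) :
    (fixG G s).map (cjm g) = fixG G (s.image g) := by
  ext h
  constructor
  · rintro ⟨x, hx, rfl⟩
    refine ⟨mul_mem (mul_mem hg hx.1) (inv_mem hg), fun y hy => ?_⟩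
    obtain ⟨z, hz, rfl⟩ := mem_image.1 hy
    rw [cjm_apply, CfsgSharpTrans.conj_at g x rfl, hx.2 z hz]
  · intro hh
    refine ⟨g⁻¹ * h * g, ⟨mul_mem (mul_mem (inv_mem hg) hh.1) hg, fun y hy => ?_⟩, ?_⟩
    · rw [Equiv.Perm.mul_apply, Equiv.Perm.mul_apply, hh.2 _ (mem_image_of_mem g hy)]
      exact g.symm_apply_apply y
    · rw [cjm_apply]; group

theorem map_twoPart (g : Equiv.Perm α) (X : Subgroup (Equiv.Perm α)) :
    (twoPart X).map (cjm g) = twoPart (X.map (cjm g)) := by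
  rw [twoPart, MonoidHom.map_closure]
  congr 1
  ext h
  constructor
  · rintro ⟨x, ⟨hx, i, hi⟩, rfl⟩
    exact ⟨⟨x, hx, rfl⟩, i, by rw [← map_pow, hi, map_one]⟩
  · rintro ⟨⟨x, hx, rfl⟩, i, hi⟩
    refine ⟨x, ⟨hx, i, ?_⟩, rfl⟩
    rw [← map_pow] at hi
    exact (MulEquiv.map_eq_one_iff (MulAut.conj g)).1 hi

theorem map_fixS (g : Equiv.Perm α) (R : Subgroup (Equiv.Perm α)) : fixS (R.map (cjm g)) = (fixS R).image g := by
  ext x
  obtain ⟨y, rfl⟩ := g.surjective x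
  rw [g.injective.mem_finset_image]
  simp only [mem_fixS, Subgroup.mem_map, forall_exists_index, and_imp, forall_apply_eq_imp_iff₂, cjm_apply]
  exact forall₂_congr fun h _ => by rw [CfsgSharpTrans.conj_at g h rfl, g.injective.eq_iff]

theorem card_four {s : Finset α} (h : s.card = 4) : ∃ a b c d, D4 a b c d ∧ s = {a, b, c, d} := by
  obtain ⟨a, b, c, d, h1, h2, h3, h4, h5, h6, e⟩ := card_eq_four.mp h
  exact ⟨a, b, c, d, ⟨h1, h2, h3, h4, h5, h6⟩, e⟩

theorem card_quad {a b c d : α} (h : D4 a b c d) : ({a, b, c, d} : Finset α).card = 4 := by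
  obtain ⟨h1, h2, h3, h4, h5, h6⟩ := h
  simp [h1, h2, h3, h4, h5, h6]

/-- Transitivity on ordered quadruples of distinct points. -/
def Trans4 (G : Subgroup (Equiv.Perm α)) : Prop :=
  ∀ a b c d a' b' c' d' : α, D4 a b c d → D4 a' b' c' d' →
    ∃ g ∈ G, g a = a' ∧ g b = b' ∧ g c = c' ∧ g d = d'

theorem Trans4.exists_image {G : Subgroup (Equiv.Perm α)} (hG : Trans4 G) {q q' : Finset α} (hq : q.card = 4)
    (hq' : q'.card = 4) : ∃ g ∈ G, q.image g = q' := by
  obtain ⟨a, b, c, d, hd, rfl⟩ := card_four hq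
  obtain ⟨a', b', c', d', hd', rfl⟩ := card_four hq'
  obtain ⟨g, hg, e1, e2, e3, e4⟩ := hG a b c d a' b' c' d' hd hd'
  exact ⟨g, hg, by simp [image_insert, e1, e2, e3, e4]⟩

end CfsgLib.FourFrob
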