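import Cfsg.Agent.Lib.FourFrob.Basic
import Cfsg.Agent.S4221
import Cfsg.Agent.Lib.FourTransOdd.Count

/-!
The fixed sets of the normal Sylow two-subgroups of four-point stabilisers form blocks.
-/

set_option autoImplicit false
set_option linter.unusedSectionVars false

namespace CfsgLib.FourFrob

open Finset
open CfsgSharpTrans (D4 fixed mem_fixed)

universe u

variable {α : Type u} [Fintype α] [DecidableEq α]

/-- Four-fold transitive, the four-point stabilisers having non-trivial normal Sylow two-subgroups. -/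
structure TwoSet (G : Subgroup (Equiv.Perm α)) : Prop where
  trans : Trans4 G
  two : ∀ q : Finset α, q.card = 4 → IsPGroup 2 (twoPart (fixG G q))
  ne : ∀ q : Finset α, q.card = 4 → twoPart (fixG G q) ≠ ⊥

/-- The two-part of the stabiliser. -/
abbrev PP (G : Subgroup (Equiv.Perm α)) (q : Finset α) : Subgroup (Equiv.Perm α) := twoPart (fixG G q)

/-- The fixed set of the two-part. -/
noncomputable def Blk (G : Subgroup (Equiv.Perm α)) (q : Finset α) : Finset α := fixS (PP G q)

theorem PP_le (G : Subgroup (Equiv.Perm α)) (q : Finset α) : PP G q ≤ G := (twoPart_le _).trans (fixG_le G q)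

theorem subset_blk (G : Subgroup (Equiv.Perm α)) (q : Finset α) : q ⊆ Blk G q :=
  (subset_fixS_fixG G q).trans (fixS_anti (twoPart_le _))

theorem map_PP {G : Subgroup (Equiv.Perm α)} {g : Equiv.Perm α} (hg : g ∈ G) (q : Finset α) :
    (PP G q).map (cjm g) = PP G (q.image g) := by
  rw [PP, map_twoPart, map_fixG hg]

theorem blk_image {G : Subgroup (Equiv.Perm α)} {g : Equiv.Perm α} (hg : g ∈ G) (q : Finset α) :
    Blk G (q.image g) = (Blk G q).image g := by
  rw [Blk, Blk, ← map_PP hg, map_fixS]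

variable {G : Subgroup (Equiv.Perm α)} (S : TwoSet G)
include S

theorem TwoSet.card_PP {q q' : Finset α} (hq : q.card = 4) (hq' : q'.card = 4) :
    Nat.card (PP G q) = Nat.card (PP G q') := by
  obtain ⟨g, hg, rfl⟩ := S.trans.exists_image hq hq'
  rw [← map_PP hg]
  exact (Nat.card_congr ((PP G q).equivMapOfInjective _ (MulAut.conj g).injective).toEquiv)

theorem TwoSet.card_blk {q q' : Finset α} (hq : q.card = 4) (hq' : q'.card = 4) :
    (Blk G q).card = (Blk G q').card := by
  obtain ⟨g, hg, rfl⟩ := S.trans.exists_image hq hq'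
  rw [blk_image hg, card_image_of_injective _ g.injective]

theorem TwoSet.le_PP {R : Subgroup (Equiv.Perm α)} (hR : IsPGroup 2 R) (hRG : R ≤ G) {q : Finset α}
    (hqR : q ⊆ fixS R) : R ≤ PP G q :=
  le_twoPart hR ((le_fixG_fixS hRG).trans (fixG_anti hqR))

theorem TwoSet.blk_subset {R : Subgroup (Equiv.Perm α)} (hR : IsPGroup 2 R) (hRG : R ≤ G) {q : Finset α}
    (hqR : q ⊆ fixS R) : Blk G q ⊆ fixS R :=
  fixS_anti (S.le_PP hR hRG hqR)

theorem TwoSet.blk_eq {q q' : Finset α} (hq : q.card = 4) (hq' : q'.card = 4) (h : q' ⊆ Blk G q) :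
    Blk G q' = Blk G q := by
  have hle := S.le_PP (S.two q hq) (PP_le G q) h
  rw [Blk, Blk, Subgroup.eq_of_le_of_card_ge (show PP G q ≤ PP G q' from hle) (S.card_PP hq hq').ge]

theorem TwoSet.blk_invariant {q : Finset α} {g : Equiv.Perm α} (hg : g ∈ G) (h : q.image g = q) :
    (Blk G q).image g = Blk G q := by rw [← blk_image hg, h]

omit S in
/-- The group induced on a set by its stabiliser. -/
def indG (G : Subgroup (Equiv.Perm α)) (B : Finset α) : Subgroup (Equiv.Perm B) where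
  carrier := {p | ∃ g ∈ G, ∀ x : B, g x = p x}
  one_mem' := ⟨1, one_mem G, fun _ => rfl⟩
  mul_mem' := by
    rintro p q ⟨g, hg, eg⟩ ⟨h, hh, eh⟩
    exact ⟨g * h, mul_mem hg hh, fun x => by rw [Equiv.Perm.mul_apply, eh, eg]; rfl⟩
  inv_mem' := by
    rintro p ⟨g, hg, eg⟩
    refine ⟨g⁻¹, inv_mem hg, fun x => g.symm_apply_eq.2 ?_⟩
    have := eg (p⁻¹ x)
    rw [Equiv.Perm.inv_def, Equiv.apply_symm_apply] at this
    exact this.symm

omit S in
theorem indG_pow {B : Finset α} {g : Equiv.Perm α} {p : Equiv.Perm B} (e : ∀ x : B, g x = p x) :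
    ∀ (n : ℕ) (x : B), (g ^ n) x = (p ^ n) x
  | 0, _ => rfl
  | n + 1, x => by
    rw [pow_succ', pow_succ', Equiv.Perm.mul_apply, Equiv.Perm.mul_apply, indG_pow e n, e]

omit S in
theorem exists_perm {B : Finset α} {g : Equiv.Perm α} (hg : g ∈ G) (h : B.image g = B) :
    ∃ p ∈ indG G B, ∀ x : B, g x = p x :=
  ⟨g.subtypePerm (fun x => by
    conv_lhs => rw [← h]
    exact g.injective.mem_finset_image), ⟨g, hg, fun _ => rfl⟩, fun _ => rfl⟩

theorem TwoSet.ind_trans {q : Finset α} (hq : q.card = 4) : Trans4 (indG G (Blk G q)) := by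
  intro a b c d a' b' c' d' hd hd'
  have h2 : ∀ {a b c d : Blk G q}, D4 a b c d → D4 (a : α) b c d := fun {a b c d} hd => by
    obtain ⟨h1, h2, h3, h4, h5, h6⟩ := hd
    exact ⟨Subtype.coe_ne_coe.2 h1, Subtype.coe_ne_coe.2 h2, Subtype.coe_ne_coe.2 h3, Subtype.coe_ne_coe.2 h4,
      Subtype.coe_ne_coe.2 h5, Subtype.coe_ne_coe.2 h6⟩
  obtain ⟨g, hg, e1, e2, e3, e4⟩ := S.trans a b c d a' b' c' d' (h2 hd) (h2 hd')
  have hs : ∀ a b c d : Blk G q, ({(a : α), (b : α), (c : α), (d : α)} : Finset α) ⊆ Blk G q := fun a b c d => by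
    simp [insert_subset_iff]
  have hB : (Blk G q).image g = Blk G q :=
    calc (Blk G q).image g = (Blk G {(a : α), (b : α), (c : α), (d : α)}).image g :=
          congrArg (Finset.image g) (S.blk_eq hq (card_quad (h2 hd)) (hs a b c d)).symm
      _ = Blk G {(a' : α), (b' : α), (c' : α), (d' : α)} := by
          rw [← blk_image hg]; simp [image_insert, e1, e2, e3, e4]
      _ = Blk G q := S.blk_eq hq (card_quad (h2 hd')) (hs a' b' c' d')
  obtain ⟨p, hp, e⟩ := exists_perm hg hB
  exact ⟨p, hp, Subtype.ext ((e a).symm.trans e1), Subtype.ext ((e b).symm.trans e2),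
    Subtype.ext ((e c).symm.trans e3), Subtype.ext ((e d).symm.trans e4)⟩

theorem TwoSet.ind_odd {q : Finset α} (hq : q.card = 4) {p : Equiv.Perm (Blk G q)} (hp : p ∈ indG G (Blk G q))
    {a b c d : Blk G q} (hd : D4 a b c d) (ha : p a = a) (hb : p b = b) (hc : p c = c) (hd' : p d = d) :
    Odd (orderOf p) := by
  obtain ⟨g, hg, e⟩ := hp
  have h2 : D4 (a : α) b c d := by
    obtain ⟨h1, h2, h3, h4, h5, h6⟩ := hd
    exact ⟨Subtype.coe_ne_coe.2 h1, Subtype.coe_ne_coe.2 h2, Subtype.coe_ne_coe.2 h3, Subtype.coe_ne_coe.2 h4,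
      Subtype.coe_ne_coe.2 h5, Subtype.coe_ne_coe.2 h6⟩
  have hsub : ({(a : α), (b : α), (c : α), (d : α)} : Finset α) ⊆ Blk G q := by simp [insert_subset_iff]
  have hfix : g ∈ fixG G {(a : α), (b : α), (c : α), (d : α)} := by
    refine ⟨hg, fun x hx => ?_⟩
    simp only [mem_insert, mem_singleton] at hx
    rcases hx with rfl | rfl | rfl | rfl
    exacts [by rw [e, ha], by rw [e, hb], by rw [e, hc], by rw [e, hd']]
  obtain ⟨i, j, hj, ho⟩ := Nat.exists_eq_two_pow_mul_odd (orderOf_pos g).ne'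
  have hgj : g ^ j ∈ PP G {(a : α), (b : α), (c : α), (d : α)} :=
    Subgroup.subset_closure ⟨pow_mem hfix j, i, by rw [← pow_mul, mul_comm, ← ho, pow_orderOf_eq_one]⟩
  have hpj : p ^ j = 1 := Equiv.ext fun x => Subtype.ext <| by
    rw [← indG_pow e j x, Equiv.Perm.one_apply]
    have hx : (x : α) ∈ Blk G {(a : α), (b : α), (c : α), (d : α)} := by
      rw [S.blk_eq hq (card_quad h2) hsub]; exact x.2
    exact mem_fixS.1 hx _ hgj
  exact hj.of_dvd_nat (orderOf_dvd_of_pow_eq_one hpj)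

theorem TwoSet.ind_setting {q : Finset α} (hq : q.card = 4) : CfsgFourTransOdd.Setting (indG G (Blk G q)) :=
  ⟨S.ind_trans hq, fun _ hp _ _ _ _ hd ha hb hc hd' => S.ind_odd hq hp hd ha hb hc hd'⟩

theorem TwoSet.ind_cases {q : Finset α} (hq : q.card = 4) :
    (Blk G q).card ∈ ({4, 5, 6, 7, 11} : Finset ℕ) ∧
      ((Blk G q).card = 6 ∨ (Blk G q).card = 7 → indG G (Blk G q) = alternatingGroup (Blk G q)) := by
  classical
  obtain ⟨a, b, c, d, hd, rfl⟩ := card_four hq
  have hsub := subset_blk G ({a, b, c, d} : Finset α)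
  simp only [insert_subset_iff, singleton_subset_iff] at hsub
  obtain ⟨ha, hb, hc, hd'⟩ := hsub
  set B := Blk G ({a, b, c, d} : Finset α) with hB
  have inj : Function.Injective ![(⟨a, ha⟩ : B), ⟨b, hb⟩, ⟨c, hc⟩, ⟨d, hd'⟩] := by
    obtain ⟨h1, h2, h3, h4, h5, h6⟩ := hd
    intro i j e
    fin_cases i <;> fin_cases j <;> simp_all [Subtype.ext_iff]
  let x : Fin 4 ↪ B := ⟨_, inj⟩
  have hY := S.ind_setting hq
  have d4 : ∀ y : Fin 4 ↪ B, D4 (y 0) (y 1) (y 2) (y 3) := fun y => by
    refine ⟨?_, ?_, ?_, ?_, ?_, ?_⟩ <;> exact fun e => absurd (y.injective e) (by decide)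
  have hpre : MulAction.IsMultiplyPretransitive (indG G B) B 4 := by
    refine ⟨fun y z => ?_⟩
    obtain ⟨p, hp, e0, e1, e2, e3⟩ := hY.ex _ _ _ _ _ _ _ _ (d4 y) (d4 z)
    refine ⟨⟨p, hp⟩, Function.Embedding.ext fun i => ?_⟩
    fin_cases i <;> assumption
  have hodd : Odd (Nat.card (MulAction.stabilizer (indG G B) x)) := by
    rcases Nat.even_or_odd (Nat.card (MulAction.stabilizer (indG G B) x)) with h | h
    · exfalso
      obtain ⟨g, hg⟩ := exists_prime_orderOf_dvd_card' (G := MulAction.stabilizer (indG G B) x) 2 h.two_dvd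
      have e : ∀ i, ((g : indG G B) : Equiv.Perm B) (x i) = x i := fun i =>
        congrArg (fun f : Fin 4 ↪ B => f i) g.2
      have := S.ind_odd hq (g : indG G B).2 (d4 x) (e 0) (e 1) (e 2) (e 3)
      rw [Subgroup.orderOf_coe, Subgroup.orderOf_coe, hg] at this
      exact absurd this (by decide)
    · exact h
  have h := Cfsg.Agent.S4221.result (indG G B) hpre x hodd
  rw [Fintype.card_coe] at h
  rcases h with ⟨h1, -⟩ | ⟨h1, h2⟩ | ⟨h1, -⟩
  · exact ⟨by rcases h1 with h1 | h1 <;> simp [h1], by rintro (h | h) <;> omega⟩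
  · exact ⟨by rcases h1 with h1 | h1 <;> simp [h1], fun _ => h2⟩
  · exact ⟨by simp [h1], by rintro (h | h) <;> omega⟩

/-- How an involutive symmetry of a block of size six, seven or eleven moves its points. -/
theorem TwoSet.pattern {q : Finset α} (hq : q.card = 4) {g : Equiv.Perm α} (hg : g ∈ G)
    (hB : (Blk G q).image g = Blk G q) (h2 : ∀ x ∈ Blk G q, g (g x) = x) (h1 : ∃ x ∈ Blk G q, g x ≠ x) :
    ((Blk G q).card = 6 → ((Blk G q).filter fun x => g x = x).card = 2) ∧
      ((Blk G q).card = 7 ∨ (Blk G q).card = 11 → ((Blk G q).filter fun x => g x = x).card = 3) := by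
  classical
  set B := Blk G q with hBd
  obtain ⟨p, hp, e⟩ := exists_perm hg hB
  have hf : ((B.filter fun x => g x = x)).card = (fixed p).card := by
    refine (card_bij (fun (y : B) _ => (y : α)) (fun y hy => mem_filter.2 ⟨y.2, ?_⟩) (fun _ _ _ _ h => Subtype.ext h)
      (fun x hx => ⟨⟨x, (mem_filter.1 hx).1⟩, mem_fixed.2 (Subtype.ext ((e _).symm.trans (mem_filter.1 hx).2)), rfl⟩)).symm
    rw [e, mem_fixed.1 hy]
  have hp2 : p * p = 1 := Equiv.ext fun x => Subtype.ext <| by
    rw [Equiv.Perm.mul_apply, Equiv.Perm.one_apply, ← e, ← e, h2 x x.2]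
  have hp1 : p ≠ 1 := fun hpe => by
    obtain ⟨x, hx, hgx⟩ := h1
    exact hgx ((e ⟨x, hx⟩).trans (by rw [hpe]; rfl))
  have hY := S.ind_setting hq
  have hle := hY.fixed_le hp hp2 hp1
  have hord : orderOf p = 2 := orderOf_eq_prime (by rw [sq, hp2]) hp1
  obtain ⟨n, hn⟩ := Equiv.Perm.cycleType_prime_order (σ := p) (by rw [hord]; exact Nat.prime_two)
  rw [hord] at hn
  have hsupp : p.support.card = 2 * (n + 1) := by
    rw [← Equiv.Perm.sum_cycleType, hn, Multiset.sum_replicate, smul_eq_mul, mul_comm]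
  have hfs : fixed p = p.supportᶜ := by ext y; simp [mem_fixed]
  have hcard : (fixed p).card = B.card - 2 * (n + 1) := by rw [hfs, card_compl, hsupp, Fintype.card_coe]
  have hsle : 2 * (n + 1) ≤ B.card := by
    rw [← hsupp, ← Fintype.card_coe B]; exact p.support.card_le_univ
  have hsign : B.card = 6 ∨ B.card = 7 → n ≠ 2 := by
    intro h hn2
    have := (S.ind_cases hq).2 h ▸ hp
    rw [Equiv.Perm.mem_alternatingGroup, Equiv.Perm.sign_of_cycleType, hn, hn2] at this
    simp at this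
    exact absurd this (by decide)
  rw [hf]
  refine ⟨fun h => ?_, fun h => ?_⟩
  · have := hsign (.inl h); omega
  · rcases h with h | h
    · have := hsign (.inr h); omega
    · obtain ⟨f, hf23, hall⟩ := hY.exists_f (by rw [Fintype.card_coe, h]; norm_num)
      have := hall p hp hp2 hp1
      omega

end CfsgLib.FourFrob
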