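import Cfsg.Agent.Lib.FourFrob.Design
import Cfsg.Agent.Lib.GolayUnique.Model
import Cfsg.Agent.Lib.SmallOrder

/-!
Blocks of size seven in degree twenty-three give the Mathieu group.
-/

set_option autoImplicit false
set_option linter.unusedSectionVars false

namespace CfsgLib.FourFrob

open Finset
open CfsgSharpTrans (D4 fixed mem_fixed)

universe u

variable {α : Type u} [Fintype α] [DecidableEq α] {G : Subgroup (Equiv.Perm α)}

/-- The order of a four-fold transitive group. -/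
theorem Trans4.card (hG : Trans4 G) {q : Finset α} (hq : q.card = 4) :
    Nat.card G = (Fintype.card α).descFactorial 4 * Nat.card (fixG G q) := by
  classical
  obtain ⟨a, b, c, d, hd, rfl⟩ := card_four hq
  have inj : Function.Injective ![a, b, c, d] := by
    obtain ⟨h1, h2, h3, h4, h5, h6⟩ := hd
    intro i j e
    fin_cases i <;> fin_cases j <;> simp_all
  let x : Fin 4 ↪ α := ⟨_, inj⟩
  have d4 : ∀ y : Fin 4 ↪ α, D4 (y 0) (y 1) (y 2) (y 3) := fun y => by
    refine ⟨?_, ?_, ?_, ?_, ?_, ?_⟩ <;> exact fun e => absurd (y.injective e) (by decide)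
  haveI : MulAction.IsPretransitive G (Fin 4 ↪ α) := ⟨fun y z => by
    obtain ⟨g, hg, e0, e1, e2, e3⟩ := hG _ _ _ _ _ _ _ _ (d4 y) (d4 z)
    refine ⟨⟨g, hg⟩, Function.Embedding.ext fun i => ?_⟩
    fin_cases i <;> assumption⟩
  have h1 := Subgroup.index_mul_card (MulAction.stabilizer G x)
  rw [@MulAction.index_stabilizer_of_transitive G (Fin 4 ↪ α) _ _ x this, Nat.card_eq_fintype_card (α := Fin 4 ↪ α),
    Fintype.card_embedding_eq, Fintype.card_fin] at h1
  rw [← h1]
  congr 1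
  refine Nat.card_congr
    { toFun := fun g => ⟨(g.1 : Equiv.Perm α), g.1.2, fun y hy => ?_⟩
      invFun := fun h => ⟨⟨h.1, h.2.1⟩, Function.Embedding.ext fun i => ?_⟩
      left_inv := fun _ => rfl
      right_inv := fun _ => rfl }
  · have e : ∀ i, ((g.1 : G) : Equiv.Perm α) (x i) = x i := fun i => congrArg (fun f : Fin 4 ↪ α => f i) g.2
    simp only [mem_insert, mem_singleton] at hy
    rcases hy with rfl | rfl | rfl | rfl
    exacts [e 0, e 1, e 2, e 3]
  · fin_cases i <;> exact h.2.2 _ (by simp [x])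

theorem TwoSet.three_dvd (S : TwoSet G) {q : Finset α} (hq : q.card = 4) (h7 : (Blk G q).card = 7) :
    3 ∣ Nat.card (fixG G q) := by
  classical
  have hr : (Blk G q \ q).card = 3 := by rw [card_sdiff_of_subset (subset_blk G q), h7, hq]
  obtain ⟨r, s, t, hrs, hrt, hst, e⟩ := card_eq_three.1 hr
  have hmem : ∀ z ∈ ({r, s, t} : Finset α), z ∈ Blk G q ∧ z ∉ q := fun z hz => by
    rw [← e] at hz; exact mem_sdiff.1 hz
  let R : Blk G q := ⟨r, (hmem r (by simp)).1⟩
  let T : Blk G q := ⟨t, (hmem t (by simp)).1⟩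
  let U : Blk G q := ⟨s, (hmem s (by simp)).1⟩
  set p := Equiv.swap R U * Equiv.swap R T with hp
  have hRU : R ≠ U := Subtype.coe_ne_coe.1 hrs
  have hRT : R ≠ T := Subtype.coe_ne_coe.1 hrt
  have hUT : U ≠ T := Subtype.coe_ne_coe.1 hst
  have h3 : p.IsThreeCycle := Equiv.Perm.isThreeCycle_swap_mul_swap_same hRU hRT hUT
  have hpA : p ∈ indG G (Blk G q) := by
    rw [(S.ind_cases hq).2 (.inr h7)]
    exact h3.mem_alternatingGroup
  obtain ⟨g, hg, he⟩ := hpA
  have hgH : g ∈ fixG G q := by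
    refine ⟨hg, fun x hx => ?_⟩
    have hxB := subset_blk G q hx
    have hne : ∀ z, z ∈ ({r, s, t} : Finset α) → x ≠ z := fun z hz hxz => (hmem z hz).2 (hxz ▸ hx)
    rw [show g x = g ((⟨x, hxB⟩ : Blk G q) : α) from rfl, he]
    have e1 : (⟨x, hxB⟩ : Blk G q) ≠ R := fun h => hne r (by simp) (congrArg Subtype.val h)
    have e2 : (⟨x, hxB⟩ : Blk G q) ≠ U := fun h => hne s (by simp) (congrArg Subtype.val h)
    have e3 : (⟨x, hxB⟩ : Blk G q) ≠ T := fun h => hne t (by simp) (congrArg Subtype.val h)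
    rw [hp, Equiv.Perm.mul_apply, Equiv.swap_apply_of_ne_of_ne e1 e3, Equiv.swap_apply_of_ne_of_ne e1 e2]
  have hpn : p ^ orderOf g = 1 := Equiv.ext fun x => Subtype.ext <| by
    rw [← indG_pow he, pow_orderOf_eq_one]; rfl
  refine (h3.orderOf ▸ orderOf_dvd_of_pow_eq_one hpn).trans ?_
  rw [← Subgroup.orderOf_mk _ hgH]
  exact orderOf_dvd_natCard _

theorem TwoSet.isM23 (S : TwoSet G) (hn : Fintype.card α = 23)
    (h7 : ∀ q : Finset α, q.card = 4 → (Blk G q).card = 7) : Cfsg.IsM23 G := by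
  classical
  set B : Set (Finset α) := {b | ∃ q : Finset α, q.card = 4 ∧ Blk G q = b} with hB
  have hSS : Cfsg.IsSteinerSystem 4 7 B := by
    refine ⟨fun b ⟨q, hq, e⟩ => e ▸ h7 q hq, fun s hs => ⟨Blk G s, ⟨⟨s, hs, rfl⟩, subset_blk G s⟩, ?_⟩⟩
    rintro b ⟨⟨q, hq, rfl⟩, hsb⟩
    exact (S.blk_eq hq hs hsb).symm
  obtain ⟨⟨hsimple, hcard⟩, -⟩ := CfsgCode.aut_23 hn hSS
  have hle : G ≤ Cfsg.setSystemAut B := fun g hg => by
    show (fun b : Finset α => b.image g) '' B = B
    ext b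
    constructor
    · rintro ⟨_, ⟨q, hq, rfl⟩, rfl⟩
      exact ⟨q.image g, by rw [card_image_of_injective _ g.injective, hq], blk_image hg q⟩
    · rintro ⟨q, hq, rfl⟩
      have hq' : (q.image ⇑g⁻¹).card = 4 := by rw [card_image_of_injective _ g⁻¹.injective, hq]
      refine ⟨Blk G (q.image ⇑g⁻¹), ⟨_, hq', rfl⟩, ?_⟩
      show (Blk G (q.image ⇑g⁻¹)).image g = Blk G q
      rw [← blk_image hg, image_image]
      congr 1
      ext z
      simp
  obtain ⟨q₀, -, hq₀⟩ := exists_subset_card_eq (show 4 ≤ (univ : Finset α).card by rw [card_univ, hn]; norm_num)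
  have h6 : 6 ∣ Nat.card (fixG G q₀) := by
    refine (show Nat.Coprime 2 3 by norm_num).mul_dvd_of_dvd_of_dvd ?_ (S.three_dvd hq₀ (h7 q₀ hq₀))
    haveI := (Subgroup.nontrivial_iff_ne_bot _).2 (S.ne q₀ hq₀)
    obtain ⟨x, hx⟩ := exists_ne (1 : PP G q₀)
    obtain ⟨m, hm, hc⟩ := (S.two q₀ hq₀).nontrivial_iff_card.1 inferInstance
    exact (dvd_pow_self 2 hm.ne').trans (hc ▸ Subgroup.card_dvd_of_le (twoPart_le _))
  have hdvd : 1275120 ∣ Nat.card G := by
    rw [S.trans.card hq₀, hn]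
    exact (show 1275120 ∣ (23 : ℕ).descFactorial 4 * 6 by decide).trans (mul_dvd_mul_left _ h6)
  set A := Cfsg.setSystemAut B with hA
  have hidx : (G.subgroupOf A).index ∣ 8 := by
    obtain ⟨c, hc⟩ := hdvd
    have := Subgroup.index_mul_card (G.subgroupOf A)
    rw [Nat.card_congr (Subgroup.subgroupOfEquivOfLe hle).toEquiv, hcard, hc] at this
    exact ⟨c, Nat.eq_of_mul_eq_mul_left (by norm_num : 0 < 1275120) (by linarith)⟩
  have h1 : (G.subgroupOf A).index = 1 := by
    by_contra hne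
    haveI : IsSimpleGroup A := hsimple
    have hrest := CfsgLib.SmallOrder.card_dvd_factorial_index (H := G.subgroupOf A) (by rw [ne_eq, ← Subgroup.index_eq_one]; exact hne)
    rw [hcard] at hrest
    have := hrest.trans (Nat.factorial_dvd_factorial (Nat.le_of_dvd (by norm_num) hidx))
    exact absurd this (by decide)
  have heq : G = A := le_antisymm hle (Subgroup.subgroupOf_eq_top.1 (Subgroup.index_eq_one.1 h1))
  rw [heq]
  exact ⟨hsimple, hcard⟩

end CfsgLib.FourFrob
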