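import Cfsg.Agent.Lib.FourFrob.Blocks

/-!
Fixed sets of two-subgroups are closed under blocks; counting with an involution leaves blocks of size four, or of size
seven in degree twenty-three.
-/

set_option autoImplicit false
set_option linter.unusedSectionVars false

namespace CfsgLib.FourFrob

open Finset
open CfsgSharpTrans (D4 fixed mem_fixed)

universe u

variable {α : Type u} [Fintype α] [DecidableEq α]

/-- A fixed set of a two-subgroup, with at least four points. -/
def Closed (G : Subgroup (Equiv.Perm α)) (F : Finset α) : Prop :=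
  ∃ R ≤ G, IsPGroup 2 R ∧ fixS R = F ∧ 4 ≤ F.card

theorem closed_univ (G : Subgroup (Equiv.Perm α)) (h : 4 ≤ Fintype.card α) : Closed G univ :=
  ⟨⊥, bot_le, IsPGroup.of_bot, eq_univ_of_forall fun x => mem_fixS.2 fun g hg => by rw [Subgroup.mem_bot.1 hg]; rfl,
    by rwa [card_univ]⟩

/-- An element inducing an involution on a closed set, fixing a smaller closed set pointwise. -/
structure Step (G : Subgroup (Equiv.Perm α)) (F : Finset α) (g : Equiv.Perm α) : Prop where
  mem : g ∈ G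
  maps : ∀ x ∈ F, g x ∈ F
  invol : ∀ x ∈ F, g (g x) = x
  moves : ∃ x ∈ F, g x ≠ x
  closed : Closed G (F.filter fun x => g x = x)

variable {G : Subgroup (Equiv.Perm α)} {F : Finset α} {g : Equiv.Perm α}

theorem Closed.blk_subset (S : TwoSet G) (hF : Closed G F) {q : Finset α} (hq : q ⊆ F) : Blk G q ⊆ F := by
  obtain ⟨R, hRG, hR, rfl, -⟩ := hF
  exact S.blk_subset hR hRG hq

theorem Closed.exists_quad (hF : Closed G F) : ∃ q ⊆ F, q.card = 4 := by
  obtain ⟨R, -, -, -, h⟩ := hF
  exact exists_subset_card_eq h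

theorem exists_step (S : TwoSet G) (hF : Closed G F) {q : Finset α} (hq4 : q.card = 4) (hq : q ⊆ F)
    (hne : Blk G q ≠ F) : ∃ g, Step G F g := by
  classical
  obtain ⟨R₀, hR₀G, hR₀, hR₀F, h4⟩ := hF
  let R : Subgroup (Equiv.Perm α) := PP G q ⊓ fixG G F
  have hRP : R ≤ PP G q := inf_le_left
  have hP := S.two q hq4
  have hRF : fixS R = F := by
    refine Subset.antisymm ?_ ((subset_fixS_fixG G F).trans (fixS_anti inf_le_right))
    conv_rhs => rw [← hR₀F]
    refine fixS_anti (le_inf (S.le_PP hR₀ hR₀G (by rwa [hR₀F])) ?_)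
    rw [← hR₀F]
    exact le_fixG_fixS hR₀G
  have hlt : R.subgroupOf (PP G q) < ⊤ := by
    refine lt_top_iff_ne_top.2 fun h => hne ?_
    rw [Subgroup.subgroupOf_eq_top] at h
    rw [Blk, show PP G q = R from le_antisymm h hRP, hRF]
  haveI : Group.IsNilpotent (PP G q) := hP.isNilpotent
  obtain ⟨y, hyN, hyR⟩ := SetLike.exists_of_lt (Group.normalizerCondition_of_isNilpotent _ hlt)
  obtain ⟨i, hi⟩ := hP y
  have hex : ∃ i, y ^ 2 ^ i ∈ R.subgroupOf (PP G q) := ⟨i, by rw [hi]; exact one_mem _⟩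
  have hmin := Nat.find_spec hex
  obtain ⟨j, hj⟩ : ∃ j, Nat.find hex = j + 1 := Nat.exists_eq_succ_of_ne_zero fun h0 => hyR <| by
    rwa [h0, pow_zero, pow_one] at hmin
  set z := y ^ 2 ^ j with hz
  have hzR : z ∉ R.subgroupOf (PP G q) := Nat.find_min hex (by omega)
  have hz2 : ((z : Equiv.Perm α) * z) ∈ R := by
    have h2 : z * z ∈ R.subgroupOf (PP G q) := by
      rw [hz, ← pow_add, ← mul_two, ← pow_succ, ← hj]; exact hmin
    exact h2
  have hzN : z ∈ Subgroup.normalizer (R.subgroupOf (PP G q) : Set (PP G q)) := pow_mem hyN _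
  have hzG : (z : Equiv.Perm α) ∈ G := PP_le G q z.2
  have hzfix : ∀ x ∈ q, (z : Equiv.Perm α) x = x := fun x hx => mem_fixS.1 (subset_blk G q hx) _ z.2
  refine ⟨z, hzG, fun x hx => ?_, fun x hx => ?_, ?_, ?_⟩
  · rw [← hRF, mem_fixS] at hx ⊢
    intro h hh
    have hmem : (⟨h, hRP hh⟩ : PP G q) ∈ R.subgroupOf (PP G q) := hh
    have := (Subgroup.mem_normalizer_iff''.1 hzN _).1 hmem
    have h1 : ((z : Equiv.Perm α)⁻¹ * h * z) ∈ R := this
    have h2 := hx _ h1
    rw [Equiv.Perm.mul_apply, Equiv.Perm.mul_apply, Equiv.Perm.inv_def, Equiv.symm_apply_eq] at h2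
    exact h2
  · rw [← hRF, mem_fixS] at hx
    exact hx _ hz2
  · by_contra hcon
    push_neg at hcon
    exact hzR (Subgroup.mem_inf.2 ⟨z.2, hzG, hcon⟩)
  · refine ⟨R ⊔ Subgroup.zpowers (z : Equiv.Perm α), sup_le (hRP.trans (PP_le G q)) ((Subgroup.zpowers_le).2 hzG),
      hP.to_le (sup_le hRP ((Subgroup.zpowers_le).2 z.2)), ?_, ?_⟩
    · ext x
      rw [mem_filter, mem_fixS]
      refine ⟨fun h => ⟨?_, h _ (Subgroup.mem_sup_right (Subgroup.mem_zpowers _))⟩, fun ⟨hx, hzx⟩ h hh => ?_⟩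
      · rw [← hRF, mem_fixS]
        exact fun h' hh' => h h' (Subgroup.mem_sup_left hh')
      · rw [← hRF, mem_fixS] at hx
        have hle : R ⊔ Subgroup.zpowers (z : Equiv.Perm α) ≤ MulAction.stabilizer (Equiv.Perm α) x :=
          sup_le (fun r hr => hx r hr) ((Subgroup.zpowers_le).2 hzx)
        exact hle hh
    · exact hq4 ▸ card_le_card fun x hx => mem_filter.2 ⟨hq hx, hzfix x hx⟩

theorem Step.lt (st : Step G F g) : (F.filter fun x => g x = x).card < F.card :=
  card_lt_card (filter_ssubset.2 st.moves)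

theorem Step.block (S : TwoSet G) (st : Step G F g) (hF : Closed G F) {q : Finset α}
    (hqF : q ⊆ F) (hqi : q.image g = q) :
    Blk G q ⊆ F ∧ (Blk G q).image g = Blk G q :=
  ⟨hF.blk_subset S hqF, S.blk_invariant st.mem hqi⟩

theorem image_quad (a b c d : α) (g : Equiv.Perm α) :
    ({a, b, c, d} : Finset α).image g = {g a, g b, g c, g d} := by simp [image_insert]

/-- Double counting with a step, for blocks in which every invariant one has the same number of fixed points. -/
theorem Step.count (S : TwoSet G) (st : Step G F g) (hF : Closed G F) {k j : ℕ}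
    (hk : ∀ q : Finset α, q.card = 4 → (Blk G q).card = k)
    (hj : ∀ q : Finset α, q.card = 4 → q ⊆ F → q.image g = q → (∃ x ∈ q, g x ≠ x) →
      ((Blk G q).filter fun x => g x = x).card = j) :
    (F.filter fun x => g x = x).card * ((F.filter fun x => g x = x).card - 1) * (k - j - 2) =
      (F.card - (F.filter fun x => g x = x).card - 2) * (j * (j - 1)) := by
  classical
  set F' := F.filter fun x => g x = x with hF'
  obtain ⟨x, hx, hgx⟩ := st.moves
  set M := ((F \ F').erase x).erase (g x) with hM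
  have hxx : g (g x) = x := st.invol x hx
  have hgxF : g x ∈ F := st.maps x hx
  have hMc : M.card = F.card - F'.card - 2 := by
    have h1 : x ∈ F \ F' := mem_sdiff.2 ⟨hx, fun h => hgx (mem_filter.1 h).2⟩
    have h2 : g x ∈ (F \ F').erase x :=
      mem_erase.2 ⟨hgx, mem_sdiff.2 ⟨hgxF, fun h => hgx ((mem_filter.1 h).2.symm.trans hxx).symm.symm⟩⟩
    rw [hM, card_erase_of_mem h2, card_erase_of_mem h1, card_sdiff_of_subset (show F' ⊆ F from filter_subset _ _)]
    omega
  have hM' : ∀ y ∈ M, y ∈ F ∧ g y ≠ y ∧ y ≠ x ∧ y ≠ g x := fun y hy => by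
    obtain ⟨h1, h2⟩ := mem_erase.1 hy
    obtain ⟨h3, h4⟩ := mem_erase.1 h2
    obtain ⟨h5, h6⟩ := mem_sdiff.1 h4
    exact ⟨h5, fun h => h6 (mem_filter.2 ⟨h5, h⟩), h3, h1⟩
  have hB : ∀ p ∈ F'.offDiag, ({p.1, p.2, x, g x} : Finset α).card = 4 ∧ ({p.1, p.2, x, g x} : Finset α) ⊆ F ∧
      ({p.1, p.2, x, g x} : Finset α).image g = {p.1, p.2, x, g x} := fun p hp => by
    obtain ⟨h1, h2, h3⟩ := mem_offDiag.1 hp
    obtain ⟨h1, h1'⟩ := mem_filter.1 h1
    obtain ⟨h2, h2'⟩ := mem_filter.1 h2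
    refine ⟨card_quad ⟨h3, fun e => hgx (e ▸ h1'), fun e => ?_, fun e => hgx (e ▸ h2'), fun e => ?_, Ne.symm hgx⟩,
      by simp [insert_subset_iff, h1, h2, hx, hgxF], ?_⟩
    · rw [e, hxx] at h1'; exact hgx h1'.symm
    · rw [e, hxx] at h2'; exact hgx h2'.symm
    · rw [image_quad, h1', h2', hxx, pair_comm (g x) x]
  have hC : ∀ y ∈ M, ({x, g x, y, g y} : Finset α).card = 4 ∧ ({x, g x, y, g y} : Finset α) ⊆ F ∧
      ({x, g x, y, g y} : Finset α).image g = {x, g x, y, g y} := fun y hy => by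
    obtain ⟨hyF, hgy, hyx, hyg⟩ := hM' y hy
    have hyy := st.invol y hyF
    refine ⟨card_quad ⟨Ne.symm hgx, Ne.symm hyx, fun e => ?_, Ne.symm hyg, fun e => hyx (g.injective e).symm,
      Ne.symm hgy⟩, by simp [insert_subset_iff, hx, hgxF, hyF, st.maps y hyF], ?_⟩
    · exact hyg (by rw [e, hyy])
    · rw [image_quad, hxx, hyy]; ext t; simp; tauto
  have e1 : ∀ p ∈ F'.offDiag, (M.filter fun y => y ∈ Blk G {p.1, p.2, x, g x}).card = k - j - 2 := fun p hp => by
    obtain ⟨h4, hsub, hinv⟩ := hB p hp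
    obtain ⟨hBF, -⟩ := st.block S hF hsub hinv
    have hxB : x ∈ Blk G {p.1, p.2, x, g x} := subset_blk G _ (by simp)
    have hgB : g x ∈ Blk G {p.1, p.2, x, g x} := subset_blk G _ (by simp)
    have := hj _ h4 hsub hinv ⟨x, by simp, hgx⟩
    have e : M.filter (fun y => y ∈ Blk G {p.1, p.2, x, g x}) =
        (((Blk G {p.1, p.2, x, g x}).filter fun y => ¬ g y = y).erase x).erase (g x) := by
      ext y
      simp only [hM, hF', mem_filter, mem_erase, mem_sdiff]
      exact ⟨fun ⟨⟨h1, h2, h3, h4⟩, h5⟩ => ⟨h1, h2, h5, fun h => h4 ⟨h3, h⟩⟩,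
        fun ⟨h1, h2, h3, h4⟩ => ⟨⟨h1, h2, hBF h3, fun h => h4 h.2⟩, h3⟩⟩
    have hx1 : x ∈ (Blk G {p.1, p.2, x, g x}).filter fun y => ¬ g y = y := mem_filter.2 ⟨hxB, hgx⟩
    have hx2 : g x ∈ ((Blk G {p.1, p.2, x, g x}).filter fun y => ¬ g y = y).erase x :=
      mem_erase.2 ⟨hgx, mem_filter.2 ⟨hgB, fun h => hgx (g.injective h)⟩⟩
    rw [e, card_erase_of_mem hx2, card_erase_of_mem hx1]
    have hs := card_filter_add_card_filter_not (s := Blk G {p.1, p.2, x, g x}) (fun y => g y = y)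
    rw [hk _ h4] at hs
    omega
  have e2 : ∀ y ∈ M, (F'.offDiag.filter fun p => y ∈ Blk G {p.1, p.2, x, g x}).card = j * (j - 1) := fun y hy => by
    obtain ⟨h4, hsub, hinv⟩ := hC y hy
    obtain ⟨hBF, hBi⟩ := st.block S hF hsub hinv
    set B := Blk G {x, g x, y, g y} with hBdef
    have e : F'.offDiag.filter (fun p => y ∈ Blk G {p.1, p.2, x, g x}) = (B.filter fun t => g t = t).offDiag := by
      ext p
      rw [mem_filter]
      constructor
      · rintro ⟨hp, hyB⟩
        obtain ⟨hq4, hqF, hqi⟩ := hB p hp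
        obtain ⟨-, hQi⟩ := st.block S hF hqF hqi
        set Q := Blk G {p.1, p.2, x, g x} with hQ
        have hgy : g y ∈ Q := hQi ▸ mem_image_of_mem g hyB
        have he : B = Q := S.blk_eq hq4 h4 (by
          simp only [insert_subset_iff, singleton_subset_iff]
          exact ⟨subset_blk G _ (by simp), subset_blk G _ (by simp), hyB, hgy⟩)
        obtain ⟨h1, h2, h3⟩ := mem_offDiag.1 hp
        exact mem_offDiag.2 ⟨mem_filter.2 ⟨he ▸ subset_blk G _ (by simp), (mem_filter.1 h1).2⟩,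
          mem_filter.2 ⟨he ▸ subset_blk G _ (by simp), (mem_filter.1 h2).2⟩, h3⟩
      · intro hp
        obtain ⟨h1, h2, h3⟩ := mem_offDiag.1 hp
        obtain ⟨h1, h1'⟩ := mem_filter.1 h1
        obtain ⟨h2, h2'⟩ := mem_filter.1 h2
        have hp' : p ∈ F'.offDiag := mem_offDiag.2 ⟨mem_filter.2 ⟨hBF h1, h1'⟩, mem_filter.2 ⟨hBF h2, h2'⟩, h3⟩
        refine ⟨hp', ?_⟩
        have hsub' : ({p.1, p.2, x, g x} : Finset α) ⊆ B := by
          simp only [insert_subset_iff, singleton_subset_iff]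
          exact ⟨h1, h2, subset_blk G _ (by simp), subset_blk G _ (by simp)⟩
        rw [S.blk_eq h4 (hB p hp').1 hsub']
        exact subset_blk G _ (by simp)
    rw [e, offDiag_card, hj _ h4 hsub hinv ⟨x, by simp, hgx⟩, Nat.mul_sub_one]
  have := sum_card_bipartiteAbove_eq_sum_card_bipartiteBelow (s := F'.offDiag) (t := M)
    (fun p y => y ∈ Blk G {p.1, p.2, x, g x})
  simp only [bipartiteAbove, bipartiteBelow] at this
  rw [sum_congr rfl e1, sum_congr rfl e2, sum_const, sum_const, offDiag_card, smul_eq_mul, smul_eq_mul, hMc] at this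
  rw [Nat.mul_sub_one]
  exact this

theorem dvd_card_fibres {β γ : Type*} [DecidableEq γ] (s : Finset β) (φ : β → γ) {c : ℕ}
    (h : ∀ x ∈ s, (s.filter fun y => φ y = φ x).card = c) : c ∣ s.card := by
  classical
  rw [card_eq_sum_card_image φ s]
  refine dvd_sum fun b hb => ?_
  obtain ⟨x, hx, rfl⟩ := mem_image.1 hb
  rw [h x hx]

theorem Closed.dvd_sub_three (S : TwoSet G) (hF : Closed G F) {k : ℕ}
    (hk : ∀ q : Finset α, q.card = 4 → (Blk G q).card = k) : k - 3 ∣ F.card - 3 := by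
  classical
  obtain ⟨q, hqF, hq⟩ := hF.exists_quad
  obtain ⟨T, hTq, hT⟩ := exists_subset_card_eq (show 3 ≤ q.card by omega)
  have hTF := hTq.trans hqF
  rw [show F.card - 3 = (F \ T).card by rw [card_sdiff_of_subset hTF, hT]]
  have h4 : ∀ x ∈ F \ T, (insert x T).card = 4 := fun x hx => by rw [card_insert_of_notMem (mem_sdiff.1 hx).2, hT]
  refine dvd_card_fibres _ (fun x => Blk G (insert x T)) fun x hx => ?_
  have hB := hF.blk_subset S (insert_subset (mem_sdiff.1 hx).1 hTF)
  have hTB : T ⊆ Blk G (insert x T) := (subset_insert x T).trans (subset_blk G _)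
  have e : (F \ T).filter (fun y => Blk G (insert y T) = Blk G (insert x T)) = Blk G (insert x T) \ T := by
    ext y
    simp only [mem_filter, mem_sdiff]
    refine ⟨fun ⟨⟨_, hyT⟩, he⟩ => ⟨he ▸ subset_blk G _ (mem_insert_self y T), hyT⟩, fun ⟨hy, hyT⟩ => ?_⟩
    exact ⟨⟨hB hy, hyT⟩, S.blk_eq (h4 x hx) (h4 y (mem_sdiff.2 ⟨hB hy, hyT⟩)) (insert_subset hy hTB)⟩
  rw [e, card_sdiff_of_subset hTB, hT, hk _ (h4 x hx)]

theorem Closed.dvd_sub_two (S : TwoSet G) (hF : Closed G F) {k : ℕ}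
    (hk : ∀ q : Finset α, q.card = 4 → (Blk G q).card = k) : (k - 2) * (k - 3) ∣ (F.card - 2) * (F.card - 3) := by
  classical
  obtain ⟨q, hqF, hq⟩ := hF.exists_quad
  obtain ⟨T, hTq, hT⟩ := exists_subset_card_eq (show 2 ≤ q.card by omega)
  have hTF := hTq.trans hqF
  have hcard : ∀ m : ℕ, m * m - m = m * (m - 1) := fun m => by rw [Nat.mul_sub_one]
  rw [show (F.card - 2) * (F.card - 3) = (F \ T).offDiag.card by
    rw [offDiag_card, hcard, card_sdiff_of_subset hTF, hT, Nat.sub_sub]]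
  have h4 : ∀ p ∈ (F \ T).offDiag, (insert p.1 (insert p.2 T)).card = 4 := fun p hp => by
    obtain ⟨h1, h2, h3⟩ := mem_offDiag.1 hp
    rw [card_insert_of_notMem (by simp [h3, (mem_sdiff.1 h1).2]), card_insert_of_notMem (mem_sdiff.1 h2).2, hT]
  refine dvd_card_fibres _ (fun p : α × α => Blk G (insert p.1 (insert p.2 T))) fun p hp => ?_
  obtain ⟨hp1, hp2, -⟩ := mem_offDiag.1 hp
  have hB := hF.blk_subset S (insert_subset (mem_sdiff.1 hp1).1 (insert_subset (mem_sdiff.1 hp2).1 hTF))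
  have hTB : T ⊆ Blk G (insert p.1 (insert p.2 T)) :=
    ((subset_insert _ T).trans (subset_insert _ _)).trans (subset_blk G _)
  have e : (F \ T).offDiag.filter (fun r => Blk G (insert r.1 (insert r.2 T)) = Blk G (insert p.1 (insert p.2 T))) =
      (Blk G (insert p.1 (insert p.2 T)) \ T).offDiag := by
    ext r
    simp only [mem_filter, mem_offDiag, mem_sdiff]
    refine ⟨fun ⟨⟨⟨_, h1⟩, ⟨_, h2⟩, h3⟩, he⟩ => ⟨⟨he ▸ subset_blk G _ (by simp), h1⟩,
      ⟨he ▸ subset_blk G _ (by simp), h2⟩, h3⟩, fun ⟨⟨hy, h1⟩, ⟨hz, h2⟩, h3⟩ => ?_⟩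
    refine ⟨⟨⟨hB hy, h1⟩, ⟨hB hz, h2⟩, h3⟩, S.blk_eq (h4 p hp) (h4 r ?_) (insert_subset hy (insert_subset hz hTB))⟩
    exact mem_offDiag.2 ⟨mem_sdiff.2 ⟨hB hy, h1⟩, mem_sdiff.2 ⟨hB hz, h2⟩, h3⟩
  rw [e, offDiag_card, hcard, card_sdiff_of_subset hTB, hT, hk _ (h4 p hp), Nat.sub_sub]

/-- Blocks of five points: through a two-cycle they split the pairs of fixed points into triangles. -/
theorem Step.five (S : TwoSet G) (st : Step G F g) (hF : Closed G F)
    (hk : ∀ q : Finset α, q.card = 4 → (Blk G q).card = 5)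
    (h5 : (F.filter fun x => g x = x).card = 5) : False := by
  classical
  set F' := F.filter fun x => g x = x with hF'
  obtain ⟨x, hx, hgx⟩ := st.moves
  have hxx : g (g x) = x := st.invol x hx
  have hB : ∀ p ∈ F'.offDiag, ({p.1, p.2, x, g x} : Finset α).card = 4 ∧ ({p.1, p.2, x, g x} : Finset α) ⊆ F ∧
      ({p.1, p.2, x, g x} : Finset α).image g = {p.1, p.2, x, g x} := fun p hp => by
    obtain ⟨h1, h2, h3⟩ := mem_offDiag.1 hp
    obtain ⟨h1, h1'⟩ := mem_filter.1 h1
    obtain ⟨h2, h2'⟩ := mem_filter.1 h2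
    refine ⟨card_quad ⟨h3, fun e => hgx (e ▸ h1'), fun e => ?_, fun e => hgx (e ▸ h2'), fun e => ?_, Ne.symm hgx⟩,
      by simp [insert_subset_iff, h1, h2, hx, st.maps x hx], ?_⟩
    · rw [e, hxx] at h1'; exact hgx h1'.symm
    · rw [e, hxx] at h2'; exact hgx h2'.symm
    · rw [image_quad, h1', h2', hxx, pair_comm (g x) x]
  have hdiv : 6 ∣ F'.offDiag.card := by
    refine dvd_card_fibres _ (fun p : α × α => Blk G {p.1, p.2, x, g x}) fun p hp => ?_
    obtain ⟨hq4, hqF, hqi⟩ := hB p hp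
    obtain ⟨hBF, hBi⟩ := st.block S hF hqF hqi
    set B := Blk G {p.1, p.2, x, g x} with hBd
    have hqB : ({p.1, p.2, x, g x} : Finset α) ⊆ B := subset_blk G _
    have hxB : x ∈ B := hqB (by simp)
    have hgB : g x ∈ B := hqB (by simp)
    obtain ⟨h1, h2, h3⟩ := mem_offDiag.1 hp
    have h1' := (mem_filter.1 h1).2
    have h2' := (mem_filter.1 h2).2
    have hfix : B.filter (fun t => g t = t) = B \ {x, g x} := by
      ext t
      simp only [mem_filter, mem_sdiff, mem_insert, mem_singleton]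
      refine ⟨fun ⟨ht, htg⟩ => ⟨ht, ?_⟩, fun ⟨ht, hne⟩ => ⟨ht, ?_⟩⟩
      · rintro (rfl | rfl)
        exacts [hgx htg, hgx (g.injective htg)]
      · by_contra htg
        push_neg at hne
        have htB : g t ∈ B := hBi ▸ mem_image_of_mem g ht
        have htt : g (g t) = t := st.invol t (hBF ht)
        have hins : insert t ({p.1, p.2, x, g x} : Finset α) = B := by
          refine eq_of_subset_of_card_le (insert_subset ht hqB) ?_
          rw [card_insert_of_notMem, hq4, hk _ hq4]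
          simp only [mem_insert, mem_singleton]
          rintro (e | e | e | e)
          exacts [htg (e ▸ h1'), htg (e ▸ h2'), hne.1 e, hne.2 e]
        rw [← hins] at htB
        simp only [mem_insert, mem_singleton] at htB
        rcases htB with e | e | e | e | e
        · exact htg e
        · exact htg (e.trans (htt.symm.trans ((congrArg g e).trans h1')).symm)
        · exact htg (e.trans (htt.symm.trans ((congrArg g e).trans h2')).symm)
        · exact hne.2 (by rw [← htt, e])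
        · exact hne.1 (g.injective e)
    have e : F'.offDiag.filter (fun r => Blk G {r.1, r.2, x, g x} = B) = (B.filter fun t => g t = t).offDiag := by
      ext r
      rw [mem_filter]
      constructor
      · rintro ⟨hr, he⟩
        obtain ⟨k1, k2, k3⟩ := mem_offDiag.1 hr
        exact mem_offDiag.2 ⟨mem_filter.2 ⟨he ▸ subset_blk G _ (by simp), (mem_filter.1 k1).2⟩,
          mem_filter.2 ⟨he ▸ subset_blk G _ (by simp), (mem_filter.1 k2).2⟩, k3⟩
      · intro hr
        obtain ⟨k1, k2, k3⟩ := mem_offDiag.1 hr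
        obtain ⟨k1, k1'⟩ := mem_filter.1 k1
        obtain ⟨k2, k2'⟩ := mem_filter.1 k2
        have hr' : r ∈ F'.offDiag := mem_offDiag.2 ⟨mem_filter.2 ⟨hBF k1, k1'⟩, mem_filter.2 ⟨hBF k2, k2'⟩, k3⟩
        refine ⟨hr', S.blk_eq hq4 (hB r hr').1 ?_⟩
        simp only [insert_subset_iff, singleton_subset_iff]
        exact ⟨k1, k2, hxB, hgB⟩
    have hc : (B.filter fun t => g t = t).card = 3 := by
      rw [hfix, card_sdiff_of_subset (by simp [insert_subset_iff, hxB, hgB]), hk _ hq4, card_pair (Ne.symm hgx)]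
    rw [e, offDiag_card, hc]
  rw [offDiag_card, h5] at hdiv
  omega

theorem Closed.card_eq (S : TwoSet G) {k : ℕ} (hk : ∀ q : Finset α, q.card = 4 → (Blk G q).card = k)
    (h : k = 5 ∨ k = 6 ∨ k = 7 ∨ k = 11) :
    ∀ n, ∀ F : Finset α, Closed G F → F.card = n → n = k ∨ k = 7 ∧ n = 23 := by
  classical
  intro n
  induction n using Nat.strong_induction_on with
  | _ n ih =>
    intro F hF hn
    obtain ⟨q, hqF, hq⟩ := hF.exists_quad
    have hle := card_le_card (hF.blk_subset S hqF)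
    rw [hk q hq, hn] at hle
    by_cases hnk : n = k
    · exact .inl hnk
    obtain ⟨g, st⟩ := exists_step S hF hq hqF fun e => hnk (by rw [← hn, ← e, hk q hq])
    have hlt := st.lt
    have hf := ih _ (hn ▸ hlt) _ st.closed rfl
    rcases h with rfl | rfl | rfl | rfl
    · rcases hf with hf | ⟨h7, -⟩
      · exact (st.five S hF hk hf).elim
      · omega
    all_goals
      have hp := fun (p : Finset α) (hp : p.card = 4) (hpF : p ⊆ F) (hpi : p.image g = p)
          (hm : ∃ x ∈ p, g x ≠ x) =>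
        S.pattern hp st.mem (st.block S hF hpF hpi).2 (fun x hx => st.invol x (hF.blk_subset S hpF hx))
          (hm.imp fun x hx => ⟨subset_blk G p hx.1, hx.2⟩)
    · have := st.count S hF hk fun p h1 h2 h3 h4 => (hp p h1 h2 h3 h4).1 (hk p h1)
      have := hF.dvd_sub_three S hk
      rcases hf with hf | ⟨h7, -⟩
      · simp only [hf, hn] at *; omega
      · omega
    · have := st.count S hF hk fun p h1 h2 h3 h4 => (hp p h1 h2 h3 h4).2 (.inl (hk p h1))
      rcases hf with hf | ⟨-, hf⟩ <;> (simp only [hf, hn, true_and] at *; omega)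
    · have := st.count S hF hk fun p h1 h2 h3 h4 => (hp p h1 h2 h3 h4).2 (.inr (hk p h1))
      have h72 := hF.dvd_sub_two S hk
      rcases hf with hf | ⟨h7, -⟩
      · simp only [hf, hn] at *
        rw [show n = 123 by omega] at h72
        exact absurd h72 (by decide)
      · omega

/-- The degree exceeds the block size. -/
theorem TwoSet.blk_ne_univ (S : TwoSet G) {q : Finset α} (hq : q.card = 4) : Blk G q ≠ univ := fun h =>
  S.ne q hq <| (Subgroup.eq_bot_iff_forall _).2 fun g hg => Equiv.ext fun x =>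
    mem_fixS.1 (h ▸ mem_univ x : x ∈ Blk G q) g hg

theorem TwoSet.dichotomy (S : TwoSet G) (hn : 4 ≤ Fintype.card α) :
    (∀ q : Finset α, q.card = 4 → (Blk G q).card = 4) ∨
      (Fintype.card α = 23 ∧ ∀ q : Finset α, q.card = 4 → (Blk G q).card = 7) := by
  obtain ⟨q₀, -, hq₀⟩ := exists_subset_card_eq (show 4 ≤ (univ : Finset α).card by rwa [card_univ])
  have hk : ∀ q : Finset α, q.card = 4 → (Blk G q).card = (Blk G q₀).card := fun q hq => S.card_blk hq hq₀
  have hc := (S.ind_cases hq₀).1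
  simp only [mem_insert, mem_singleton] at hc
  rcases hc with h4 | hrest
  · exact .inl fun q hq => (hk q hq).trans h4
  · have h := Closed.card_eq S hk hrest _ univ (closed_univ G hn) rfl
    rw [card_univ] at h
    rcases h with h | ⟨h7, hn⟩
    · exact absurd (eq_univ_of_card _ h.symm) (S.blk_ne_univ hq₀)
    · exact .inr ⟨hn, fun q hq => (hk q hq).trans h7⟩

end CfsgLib.FourFrob
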