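import Mathlib

/-!
The arithmetic of four-fold transitive groups whose four-point stabilisers have complements of even order.
-/

set_option autoImplicit false

namespace CfsgLib.FourFrob

/-- The shapes of a coset count `e`, coming from `j` centralising elements with centraliser orders in `V`. -/
def Shape (κ j e : ℕ) (V : Finset ℕ) : Prop :=
  (j = 0 ∧ e = 0) ∨ (j = 1 ∧ ∃ a ∈ V, a * e = κ) ∨ (j = 2 ∧ ∃ a ∈ V, ∃ b ∈ V, a * b = κ ∧ e = a + b) ∨
    (3 ≤ j ∧ ∃ r ∈ V, κ = r * r ∧ e = j * r ∧ j * (r - 1) + 1 ≤ κ)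

/-- The numerical conditions. -/
structure Num (l M κ j e j' e' : ℕ) (V V' : Finset ℕ) : Prop where
  hl : 4 ≤ l
  hM : 1 ≤ M
  hκ : 3 ≤ κ
  odd : Odd κ
  val : ∀ a ∈ V ∪ V', a ∣ κ ∧ a ≤ max 9 l
  E0 : l * (l - 1) * (l - 2) * (l - 3) * e = κ * ((2 * M) * (2 * M - 2))
  E1 : (l - 2) * (l - 3) * e' = κ * (2 * M)
  sh : Shape κ j e V
  sh' : Shape κ j' e' V'
  one : (1 ∈ V' ∨ κ ∈ V') → ∀ a ∈ V, a = 1 ∨ a = κ
  even : Even l → ∃ i ≤ j, 2 * i = (l - 4) * j'
  odd_eq : Odd l → ∃ i ≤ j, 6 * i = (l - 5) * j'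

/-- Count and centraliser product as a fraction. -/
def fNum : ℕ × ℕ × ℕ → ℕ
  | (j, a, b) => if j = 1 then 1 else if j = 2 then a + b else j

/-- The denominator. -/
def fDen : ℕ × ℕ × ℕ → ℕ
  | (j, a, b) => if j = 2 then a * b else a

/-- The kernel order, `0` if not determined. -/
def fKap : ℕ × ℕ × ℕ → ℕ
  | (j, a, b) => if j = 1 then 0 else a * b

/-- The candidates. -/
def opts (l : ℕ) : List (ℕ × ℕ × ℕ) :=
  let A := (List.range (max 9 l + 1)).filter fun a => a % 2 = 1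
  A.flatMap fun a => (1, a, a) :: (A.map fun b => (2, a, b)) ++ (List.range' 3 (a - 1)).map fun j => (j, a, a)

/-- The test of a pair of candidates. -/
def testPair (l M : ℕ) (o o' : ℕ × ℕ × ℕ) : Bool :=
  l * (l - 1) * (l - 2) * (l - 3) * fNum o == (2 * M) * (2 * M - 2) * fDen o &&
  (fKap o == 0 || fKap o' == 0 || fKap o == fKap o') &&
  (fKap o == 0 || decide (3 ≤ fKap o)) && (fKap o' == 0 || decide (3 ≤ fKap o')) &&
  (o.1 != 1 || fKap o' == 0 || fKap o' % o.2.1 == 0) &&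
  (o'.1 != 1 || fKap o == 0 || fKap o % o'.2.1 == 0) &&
  (if l % 2 == 0 then decide ((l - 4) * o'.1 ≤ 2 * o.1)
    else decide ((l - 5) * o'.1 ≤ 6 * o.1 ∧ (l - 5) * o'.1 % 6 = 0)) &&
  (!(o'.2.1 == 1 || o'.2.2 == 1) || max (fKap o) (fKap o') == 0 ||
    ((o.2.1 == 1 || o.2.1 == max (fKap o) (fKap o')) && (o.2.2 == 1 || o.2.2 == max (fKap o) (fKap o'))))

/-- The two survivors. -/
def goodPair (l M : ℕ) (o o' : ℕ × ℕ × ℕ) : Bool :=
  (l == 5 && M == 3 && o.1 == 1 && o.2.1 == 5 &&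
      ((o'.1 == 1 && o'.2.1 == 1) || (o'.1 == 5 && o'.2.1 == 5))) ||
    (l == 6 && M == 6 && o.1 == 1 && o.2.1 == 3 && o'.1 == 1 && o'.2.1 == 1)

/-- The number of moved pairs determined by a candidate, and the test. -/
def checkL (l : ℕ) : Bool :=
  (opts l).all fun o' =>
    let P := (l - 2) * (l - 3) * fNum o'
    let M := P / (2 * fDen o')
    !(P == 2 * M * fDen o' && decide (2 ≤ M)) || (opts l).all fun o => !testPair l M o o' || goodPair l M o o'

theorem checkL_all : ((List.range 18).all fun l => decide (l < 4) || checkL l) = true := by decide +kernel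

theorem mem_opts {l : ℕ} {o : ℕ × ℕ × ℕ} : o ∈ opts l ↔ Odd o.2.1 ∧ o.2.1 ≤ max 9 l ∧
    ((o.1 = 1 ∧ o.2.2 = o.2.1) ∨ (o.1 = 2 ∧ Odd o.2.2 ∧ o.2.2 ≤ max 9 l) ∨
      (3 ≤ o.1 ∧ o.1 < 3 + (o.2.1 - 1) ∧ o.2.2 = o.2.1)) := by
  obtain ⟨j, a, b⟩ := o
  simp only [opts, List.mem_flatMap, List.mem_filter, List.mem_range, List.cons_append, List.mem_cons,
    List.mem_append, List.mem_map, List.mem_range'_1, Prod.mk.injEq, decide_eq_true_eq, Nat.odd_iff]
  constructor
  · rintro ⟨a', ⟨ha, ha'⟩, ⟨rfl, rfl, rfl⟩ | ⟨b', ⟨hb, hb'⟩, rfl, rfl, rfl⟩ | ⟨j', ⟨hj, hj'⟩, rfl, rfl, rfl⟩⟩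
    · exact ⟨ha', by omega, .inl ⟨rfl, rfl⟩⟩
    · exact ⟨ha', by omega, .inr (.inl ⟨rfl, hb', by omega⟩)⟩
    · exact ⟨ha', by omega, .inr (.inr ⟨hj, hj', rfl⟩)⟩
  · rintro ⟨ha, ha', ⟨rfl, rfl⟩ | ⟨rfl, hb, hb'⟩ | ⟨hj, hj', rfl⟩⟩
    · exact ⟨b, ⟨by omega, ha⟩, .inl ⟨rfl, rfl, rfl⟩⟩
    · exact ⟨a, ⟨by omega, ha⟩, .inr (.inl ⟨b, ⟨by omega, hb⟩, rfl, rfl, rfl⟩)⟩
    · exact ⟨b, ⟨by omega, ha⟩, .inr (.inr ⟨j, ⟨hj, hj'⟩, rfl, rfl, rfl⟩)⟩

/-- A shape gives a candidate. -/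
theorem Shape.cand {l κ j e : ℕ} {V : Finset ℕ} (h : Shape κ j e V) (hj : 1 ≤ j) (hκ : 3 ≤ κ) (hodd : Odd κ)
    (hv : ∀ a ∈ V, a ∣ κ ∧ a ≤ max 9 l) :
    ∃ o ∈ opts l, o.1 = j ∧ o.2.1 ∈ V ∧ o.2.2 ∈ V ∧ o.2.1 ∣ κ ∧
      (fKap o = 0 ∨ fKap o = κ) ∧ κ * fNum o = e * fDen o ∧ 1 ≤ fDen o := by
  have hod : ∀ a ∈ V, Odd a ∧ 1 ≤ a := fun a ha => ⟨hodd.of_dvd_nat (hv a ha).1, (hodd.of_dvd_nat (hv a ha).1).pos⟩
  rcases h with ⟨rfl, -⟩ | ⟨rfl, a, ha, he⟩ | ⟨rfl, a, ha, b, hb, hab, he⟩ | ⟨h3, r, hr, hk, he, hle⟩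
  · omega
  · refine ⟨(1, a, a), mem_opts.2 ⟨(hod a ha).1, (hv a ha).2, .inl ⟨rfl, rfl⟩⟩, rfl, ha, ha, (hv a ha).1,
      .inl rfl, ?_, (hod a ha).2⟩
    simp [fNum, fDen, ← he, mul_comm]
  · refine ⟨(2, a, b), mem_opts.2 ⟨(hod a ha).1, (hv a ha).2, .inr (.inl ⟨rfl, (hod b hb).1, (hv b hb).2⟩)⟩,
      rfl, ha, hb, (hv a ha).1, .inr hab, ?_, Nat.one_le_iff_ne_zero.2 ?_⟩
    · simp [fNum, fDen, he, ← hab, mul_comm]
    · show a * b ≠ 0
      omega
  · have hr1 : 2 ≤ r := by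
      by_contra h
      interval_cases r <;> omega
    have hjr : j ≤ r + 1 := by
      by_contra h
      obtain ⟨i, rfl⟩ : ∃ i, r = i + 1 := ⟨r - 1, by omega⟩
      obtain ⟨t, rfl⟩ : ∃ t, j = i + 3 + t := ⟨j - (i + 3), by omega⟩
      rw [hk, Nat.add_sub_cancel] at hle
      nlinarith
    have e1 : fNum (j, r, r) = j := by simp only [fNum]; rw [if_neg (by omega), if_neg (by omega)]
    have e2 : fDen (j, r, r) = r := by simp only [fDen]; rw [if_neg (by omega)]
    have e3 : fKap (j, r, r) = r * r := by simp only [fKap]; rw [if_neg (by omega)]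
    refine ⟨(j, r, r), mem_opts.2 ⟨(hod r hr).1, (hv r hr).2, .inr (.inr ⟨h3, show j < 3 + (r - 1) by omega, rfl⟩)⟩, rfl, hr, hr,
      (hv r hr).1, .inr (e3.trans hk.symm), ?_, ?_⟩
    · rw [e1, e2, he, hk]; ring
    · rw [e2]; omega

namespace Num

variable {l M κ j e j' e' : ℕ} {V V' : Finset ℕ} (N : Num l M κ j e j' e' V V')
include N

theorem Ppos : 2 ≤ (l - 2) * (l - 3) :=
  le_trans (show 2 ≤ 2 * 1 by norm_num) (Nat.mul_le_mul (by have := N.hl; omega) (by have := N.hl; omega))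

theorem epos' : 1 ≤ e' := by
  refine Nat.one_le_iff_ne_zero.2 fun h => ?_
  have h1 := N.E1
  rw [h, mul_zero] at h1
  have := N.hκ; have := N.hM
  rcases mul_eq_zero.1 h1.symm with h | h <;> omega

theorem even_le (h : Even l) : (l - 4) * j' ≤ 2 * j := by
  obtain ⟨i, hi, e⟩ := N.even h; omega

theorem odd_le (h : Odd l) : (l - 5) * j' ≤ 6 * j := by
  obtain ⟨i, hi, e⟩ := N.odd_eq h; omega

theorem jpos' : 1 ≤ j' := by
  refine Nat.one_le_iff_ne_zero.2 fun h => ?_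
  rcases N.sh' with ⟨-, he⟩ | ⟨h', -⟩ | ⟨h', -⟩ | ⟨h', -⟩
  · have := N.epos'; omega
  all_goals omega

/-- Few moved points: six or seven points. -/
theorem one_pair (hM : M = 1) : l = 4 ∨ l = 5 := by
  have he : e = 0 := by
    have h := N.E0
    subst hM
    simp only [mul_one, Nat.sub_self, mul_zero, mul_eq_zero] at h
    have := N.hl
    omega
  have hj : j = 0 := by
    rcases N.sh with ⟨h, -⟩ | ⟨-, a, ha, h⟩ | ⟨-, a, ha, b, hb, hab, h⟩ | ⟨-, r, hr, hk, h, -⟩
    · exact h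
    · rw [he, mul_zero] at h; have := N.hκ; omega
    · rw [he] at h; obtain ⟨rfl, rfl⟩ : a = 0 ∧ b = 0 := by omega
      have := N.hκ; simp at hab; omega
    · rw [he] at h
      rcases mul_eq_zero.1 h.symm with h | h
      · exact h
      · rw [h] at hk; have := N.hκ; simp at hk; omega
  have := N.hl
  have hj' := N.jpos'
  rcases Nat.even_or_odd l with hl | hl
  · have h := N.even_le hl
    rw [hj, mul_zero, Nat.le_zero, mul_eq_zero] at h
    omega
  · have h := N.odd_le hl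
    rw [hj, mul_zero, Nat.le_zero, mul_eq_zero] at h
    obtain ⟨i, hi⟩ := hl
    omega

theorem jpos (hM : 2 ≤ M) : 1 ≤ j := by
  refine Nat.one_le_iff_ne_zero.2 fun h => ?_
  rcases N.sh with ⟨-, he⟩ | ⟨h', -⟩ | ⟨h', -⟩ | ⟨h', -⟩
  · have h1 := N.E0
    rw [he, mul_zero] at h1
    have := N.hκ
    rcases mul_eq_zero.1 h1.symm with h | h
    · omega
    · rcases mul_eq_zero.1 h with h | h <;> omega
  all_goals omega

/-- The second count dominates. -/
theorem sq_lt (hM : 2 ≤ M) : e * κ < e' * e' := by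
  have hl := N.hl
  have h2 : l * (l - 1) * e = 2 * (M - 1) * e' := by
    refine Nat.eq_of_mul_eq_mul_left (show 0 < (l - 2) * (l - 3) from lt_of_lt_of_le two_pos N.Ppos) ?_
    calc (l - 2) * (l - 3) * (l * (l - 1) * e) = l * (l - 1) * (l - 2) * (l - 3) * e := by ring
      _ = κ * (2 * M) * (2 * (M - 1)) := by rw [N.E0, show 2 * M - 2 = 2 * (M - 1) by omega]; ring
      _ = _ := by rw [← N.E1]; ring
  have hlt : l * (l - 1) * (e * κ) < (l - 2) * (l - 3) * (e' * e') := by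
    calc l * (l - 1) * (e * κ) = κ * (2 * (M - 1)) * e' := by rw [← mul_assoc, h2]; ring
      _ < κ * (2 * M) * e' := by
        have := N.hκ; have := N.epos'
        exact Nat.mul_lt_mul_of_pos_right (Nat.mul_lt_mul_of_pos_left (by omega) (by omega)) (by omega)
      _ = _ := by rw [← N.E1]; ring
  refine Nat.lt_of_mul_lt_mul_left (a := (l - 2) * (l - 3)) (lt_of_le_of_lt ?_ hlt)
  exact Nat.mul_le_mul_right _ (Nat.mul_le_mul (by omega) (by omega))

/-- Many pairs are impossible in large degree. -/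
theorem small (hM : 2 ≤ M) : l ≤ 17 := by
  by_contra hl
  have hj := N.jpos hM
  have hj' := N.jpos'
  by_cases h3 : j ≤ 2
  · rcases Nat.even_or_odd l with h | h
    · have := Nat.mul_le_mul_left (l - 4) hj'; have := N.even_le h; omega
    · have := Nat.mul_le_mul_left (l - 5) hj'; have := N.odd_le h; omega
  rcases N.sh with ⟨h, -⟩ | ⟨h, -⟩ | ⟨h, -⟩ | ⟨-, r, hr, hk, he, hle⟩
  iterate 3 omega
  have hκ := N.hκ
  have hr3 : 3 ≤ r := by
    obtain ⟨i, hi⟩ := N.odd.of_dvd_nat (show r ∣ κ from ⟨r, hk⟩)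
    by_contra h
    have : r = 1 := by omega
    rw [this] at hk; omega
  have hne : ∀ a ∈ V', a ≠ 1 ∧ a ≠ κ ∧ a ∣ κ := fun a ha => by
    refine ⟨fun h => ?_, fun h => ?_, (N.val a (Finset.mem_union_right _ ha)).1⟩ <;>
      rcases N.one (by first | exact .inl (h ▸ ha) | exact .inr (h ▸ ha)) r hr with h1 | h1
    · omega
    · rw [h1] at hk; nlinarith
    · omega
    · rw [h1] at hk; nlinarith
  have hge : ∀ a ∈ V', 3 ≤ a := fun a ha => by
    obtain ⟨i, hi⟩ := N.odd.of_dvd_nat (hne a ha).2.2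
    have := (hne a ha).1
    omega
  have hsq := N.sq_lt hM
  rw [he, hk] at hsq
  rcases N.sh' with ⟨h, -⟩ | ⟨-, a, ha, h⟩ | ⟨-, a, ha, b, hb, hab, h⟩ | ⟨h', r', hr', hk', he', hle'⟩
  · omega
  rotate_right
  · -- both sets of centralising elements are large
    have hrr : r' = r := Nat.mul_self_inj.1 (hk'.symm.trans hk)
    subst hrr
    rw [he'] at hsq
    have hjj : j * r' < j' * j' := by
      refine Nat.lt_of_mul_lt_mul_right (a := r' * r') ?_
      calc j * r' * (r' * r') = j * r' * (r' * r') := rfl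
        _ < j' * r' * (j' * r') := hsq
        _ = j' * j' * (r' * r') := by ring
    have hjr : j ≤ r' + 1 := by
      by_contra h
      have h1 : (r' + 2) * (r' - 1) ≤ j * (r' - 1) := Nat.mul_le_mul_right _ (by omega)
      rw [hk] at hle
      obtain ⟨i, rfl⟩ : ∃ i, r' = i + 1 := ⟨r' - 1, by omega⟩
      rw [Nat.add_sub_cancel] at hle h1
      nlinarith
    have key : ∀ c d : ℕ, 0 < d → c * j' ≤ d * j → c * c * r' < d * d * (r' + 1) := fun c d hd hcd => by
      rcases Nat.eq_zero_or_pos c with rfl | hc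
      · simpa using Nat.mul_pos (Nat.mul_pos hd hd) (Nat.succ_pos r')
      refine Nat.lt_of_mul_lt_mul_right (a := j) ?_
      calc c * c * r' * j = c * c * (j * r') := by ring
        _ < c * c * (j' * j') := Nat.mul_lt_mul_of_pos_left hjj (Nat.mul_pos hc hc)
        _ = (c * j') * (c * j') := by ring
        _ ≤ (d * j) * (d * j) := Nat.mul_le_mul hcd hcd
        _ = d * d * j * j := by ring
        _ ≤ d * d * j * (r' + 1) := Nat.mul_le_mul_left _ hjr
        _ = d * d * (r' + 1) * j := by ring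
    rcases Nat.even_or_odd l with h | h
    · have h1 := key _ _ (by norm_num) (N.even_le h)
      have h2 : 14 * 14 ≤ (l - 4) * (l - 4) := Nat.mul_le_mul (by omega) (by omega)
      have := Nat.mul_le_mul_right r' h2
      omega
    · have h1 := key _ _ (by norm_num) (N.odd_le h)
      have h2 : 13 * 13 ≤ (l - 5) * (l - 5) := Nat.mul_le_mul (by omega) (by omega)
      have := Nat.mul_le_mul_right r' h2
      omega
  all_goals
    have he' : 3 * e' ≤ r * r + 9 := by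
      first
        | (have := Nat.mul_le_mul_right e' (hge a ha); omega)
        | (obtain ⟨x, rfl⟩ : ∃ x, a = x + 3 := ⟨a - 3, by have := hge a ha; omega⟩
           obtain ⟨y, rfl⟩ : ∃ y, b = y + 3 := ⟨b - 3, by have := hge b hb; omega⟩
           nlinarith)
    have h9 : 9 * (j * r * (r * r)) < (r * r + 9) * (r * r + 9) :=
      lt_of_lt_of_le (Nat.mul_lt_mul_of_pos_left hsq (by norm_num))
        (le_trans (by ring_nf; rfl) (Nat.mul_le_mul he' he'))
    have hr27 : 19 ≤ r := by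
      by_contra h
      interval_cases r <;> omega
    have hjr : 9 * j < r + 1 := by
      by_contra h
      have h1 : (r + 1) * (r * r * r) ≤ 9 * j * (r * r * r) := Nat.mul_le_mul_right _ (by omega)
      have h2 : 19 * (r * r) ≤ r * r * r := by
        calc 19 * (r * r) ≤ r * (r * r) := Nat.mul_le_mul_right _ hr27
          _ = r * r * r := by ring
      nlinarith
    have hrl : r ≤ l := by
      have := (N.val r (Finset.mem_union_left _ hr)).2
      omega
    rcases Nat.even_or_odd l with h | h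
    · have := Nat.mul_le_mul_left (l - 4) hj'; have := N.even_le h; omega
    · have := Nat.mul_le_mul_left (l - 5) hj'; have := N.odd_le h; omega

/-- The two survivors. -/
theorem cases_left (hM : 2 ≤ M) :
    (l = 5 ∧ M = 3 ∧ (κ = 5 ∨ κ = 25)) ∨ (l = 6 ∧ M = 6 ∧ κ = 3) := by
  have hl := N.hl
  have hl' := N.small hM
  have hκ := N.hκ
  have hj := N.jpos hM
  obtain ⟨o, ho, ho1, hoa, hob, hod, hok, hoe, hoden⟩ :=
    N.sh.cand (l := l) hj hκ N.odd fun a ha => N.val a (Finset.mem_union_left _ ha)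
  obtain ⟨o', ho', ho1', hoa', hob', hod', hok', hoe', hoden'⟩ :=
    N.sh'.cand (l := l) N.jpos' hκ N.odd fun a ha => N.val a (Finset.mem_union_right _ ha)
  have hchk := checkL_all
  rw [List.all_eq_true] at hchk
  have hc := hchk l (List.mem_range.2 (by omega))
  rw [Bool.or_eq_true, decide_eq_true_eq] at hc
  replace hc := hc.resolve_left (by omega)
  rw [checkL, List.all_eq_true] at hc
  have hc' := hc o' ho'
  have hP : (l - 2) * (l - 3) * fNum o' = 2 * M * fDen o' := by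
    refine Nat.eq_of_mul_eq_mul_left (show 0 < κ by omega) ?_
    calc κ * ((l - 2) * (l - 3) * fNum o') = (l - 2) * (l - 3) * (κ * fNum o') := by ring
      _ = (l - 2) * (l - 3) * e' * fDen o' := by rw [hoe']; ring
      _ = _ := by rw [N.E1]; ring
  have hMdiv : (l - 2) * (l - 3) * fNum o' / (2 * fDen o') = M := by
    rw [hP, show 2 * M * fDen o' = M * (2 * fDen o') by ring, Nat.mul_div_cancel _ (by omega)]
  simp only [hMdiv] at hc'
  simp only [hP, beq_self_eq_true, Bool.true_and, decide_eq_true hM, Bool.not_true,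
    Bool.false_or, List.all_eq_true] at hc'
  have hgood := hc' o ho
  have htest : testPair l M o o' = true := by
    have h0 : l * (l - 1) * (l - 2) * (l - 3) * fNum o = 2 * M * (2 * M - 2) * fDen o := by
      refine Nat.eq_of_mul_eq_mul_left (show 0 < κ by omega) ?_
      calc κ * (l * (l - 1) * (l - 2) * (l - 3) * fNum o) = l * (l - 1) * (l - 2) * (l - 3) * (κ * fNum o) := by
            ring
        _ = l * (l - 1) * (l - 2) * (l - 3) * e * fDen o := by rw [hoe]; ring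
        _ = _ := by rw [N.E0]; ring
    simp only [testPair, Bool.and_eq_true, Bool.or_eq_true, beq_iff_eq, bne_iff_ne, decide_eq_true_eq,
      Bool.not_eq_true', Bool.or_eq_false_iff, beq_eq_false_iff_ne]
    refine ⟨⟨⟨⟨⟨⟨⟨h0, ?_⟩, ?_⟩, ?_⟩, ?_⟩, ?_⟩, ?_⟩, ?_⟩
    · rcases hok with h | h <;> rcases hok' with h' | h' <;> omega
    · rcases hok with h | h <;> omega
    · rcases hok' with h | h <;> omega
    · rcases hok' with h | h
      · exact .inl (.inr h)
      · exact .inr (Nat.mod_eq_zero_of_dvd (h ▸ hod))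
    · rcases hok with h | h
      · exact .inl (.inr h)
      · exact .inr (Nat.mod_eq_zero_of_dvd (h ▸ hod'))
    · rw [ho1, ho1']
      split_ifs with hp
      · exact decide_eq_true (N.even_le (Nat.even_iff.2 hp))
      · have ho2 : Odd l := Nat.odd_iff.2 (by omega)
        obtain ⟨i, -, hi⟩ := N.odd_eq ho2
        exact decide_eq_true ⟨N.odd_le ho2, by omega⟩
    · by_cases h1 : o'.2.1 = 1 ∨ o'.2.2 = 1
      · have hV' : 1 ∈ V' := by rcases h1 with h1 | h1 <;> [exact h1 ▸ hoa'; exact h1 ▸ hob']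
        rcases eq_or_ne (max (fKap o) (fKap o')) 0 with hm | hm
        · exact .inl (.inr hm)
        · have hmk : max (fKap o) (fKap o') = κ := by rcases hok with h | h <;> rcases hok' with h' | h' <;> omega
          rw [hmk]
          exact .inr ⟨N.one (.inl hV') _ hoa, N.one (.inl hV') _ hob⟩
      · exact .inl (.inl (not_or.1 h1))
  rw [htest] at hgood
  simp only [goodPair, Bool.not_true, Bool.false_or, Bool.or_eq_true, Bool.and_eq_true, beq_iff_eq] at hgood
  obtain ⟨jo, a, b⟩ := o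
  obtain ⟨jo', a', b'⟩ := o'
  simp only at hgood hoa hoa' ho1 ho1'
  rcases hgood with ⟨⟨⟨⟨h1, h2⟩, h3⟩, h4⟩, h5 | h5⟩ | ⟨⟨⟨⟨⟨h1, h2⟩, h3⟩, h4⟩, h5⟩, h6⟩
  · refine .inl ⟨h1, h2, .inl ?_⟩
    have := N.one (.inl (h5.2 ▸ hoa')) _ hoa
    omega
  · refine .inl ⟨h1, h2, .inr ?_⟩
    obtain ⟨rfl, rfl⟩ := h5
    rcases hok' with h | h
    · simp [fKap] at h
      rcases mem_opts.1 ho' with ⟨-, -, h7⟩
      simp at h7
      omega
    · rcases mem_opts.1 ho' with ⟨-, -, h7⟩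
      simp at h7
      obtain ⟨-, rfl⟩ := h7
      simp [fKap] at h
      omega
  · refine .inr ⟨h1, h2, ?_⟩
    have := N.one (.inl (h6 ▸ hoa')) _ hoa
    omega

end Num

end CfsgLib.FourFrob
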