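import Cfsg.Agent.Lib.FourFrob.Frob

/-!
Frobenius groups with complements of even order; involutions acting on abelian groups of odd order.
-/

set_option autoImplicit false
set_option linter.unusedSectionVars false

namespace CfsgLib.FourFrob

open Subgroup

universe u

variable {Γ : Type u} [Group Γ] [Finite Γ]

namespace IsCompl

variable {H C : Subgroup Γ} (h : IsCompl H C)
include h

theorem conj {x : Γ} (hx : x ∈ H) :
    IsCompl H (C.map (MulAut.conj x).toMonoidHom) ∧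
      Nat.card (C.map (MulAut.conj x).toMonoidHom) = Nat.card C := by
  refine ⟨⟨?_, ?_⟩, (Nat.card_congr (C.equivMapOfInjective _ (MulAut.conj x).injective).toEquiv).symm⟩
  · rintro _ ⟨y, hy, rfl⟩
    exact mul_mem (mul_mem hx (h.le hy)) (inv_mem hx)
  · have e : (C.map (MulAut.conj x).toMonoidHom).subgroupOf H =
        (C.subgroupOf H).map (MulAut.conj (⟨x, hx⟩ : H)).toMonoidHom := by
      ext y
      simp only [Subgroup.mem_subgroupOf, Subgroup.mem_map]
      constructor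
      · rintro ⟨z, hz, he⟩
        exact ⟨⟨z, h.le hz⟩, hz, Subtype.ext he⟩
      · rintro ⟨z, hz, he⟩
        exact ⟨z, hz, congrArg Subtype.val he⟩
    rw [e]
    exact frob_map_equiv h.2 _

/-- The kernel with the factorisation of the group. -/
theorem kernel_mul : ∃ K : Subgroup Γ, K ≤ H ∧ Nat.card K * Nat.card C = Nat.card H ∧
    (Nat.card K).Coprime (Nat.card C) ∧ (∀ g ∈ H, (orderOf g).Coprime (Nat.card C) → g ∈ K) ∧ K ≠ ⊥ ∧
    (∀ g ∈ H, ∀ k ∈ K, g * k * g⁻¹ ∈ K) ∧ ∀ g ∈ H, ∃ k ∈ K, ∃ c ∈ C, k * c = g := by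
  obtain ⟨N, -, hN, hc, hnil⟩ := CfsgLib.Frob.exists_nilpotent_kernel h.2
  haveI := hN
  refine ⟨N.map H.subtype, Subgroup.map_subtype_le _, ?_, ?_,
    fun g hg hcop => ⟨⟨g, hg⟩, mem_complement_of_coprime hc (by rwa [Subgroup.orderOf_mk, h.card_subgroupOf]), rfl⟩,
    ?_, ?_, fun g hg => ?_⟩
  · rw [Subgroup.card_map_of_injective H.subtype_injective, ← h.card_subgroupOf]
    exact hc.card_mul_card
  · rw [Subgroup.card_map_of_injective H.subtype_injective, ← h.card_subgroupOf, ← hc.index_eq_card]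
    exact (CfsgLib.Frob.coprime_index h.2).symm
  · rw [Ne, Subgroup.map_eq_bot_iff_of_injective _ H.subtype_injective]
    exact CfsgLib.Frob.kernel_ne_bot h.2 hc
  · rintro g hg _ ⟨k, hk, rfl⟩
    exact ⟨_, hN.conj_mem k hk ⟨g, hg⟩, rfl⟩
  · obtain ⟨⟨⟨k, hk⟩, ⟨c, hc'⟩⟩, he⟩ := hc.2 ⟨g, hg⟩
    exact ⟨_, ⟨k, hk, rfl⟩, _, hc', congrArg Subtype.val he⟩

/-- An involution of a complement inverts the kernel; hence it is the only one. -/
theorem inverts {K : Subgroup Γ} (hKH : K ≤ H) (hn : ∀ g ∈ H, ∀ k ∈ K, g * k * g⁻¹ ∈ K)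
    (hcop : (Nat.card K).Coprime (Nat.card C)) {s : Γ} (hs : s ∈ C) (hs1 : s ≠ 1) (hs2 : s * s = 1) {k : Γ}
    (hk : k ∈ K) : s * k * s = k⁻¹ := by
  have hinv : s⁻¹ = s := inv_eq_of_mul_eq_one_right hs2
  have hsn : ∀ k ∈ K, s * k * s ∈ K := fun k hk => by
    have := hn s (h.le hs) k hk; rwa [hinv] at this
  let φ : K → K := fun k => ⟨(k : Γ)⁻¹ * (s * k * s), mul_mem (inv_mem k.2) (hsn _ k.2)⟩
  have hinj : Function.Injective φ := fun a b hab => by
    have e : (a : Γ)⁻¹ * (s * a * s) = (b : Γ)⁻¹ * (s * b * s) := congrArg Subtype.val hab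
    have hfix : Commute ((b : Γ) * (a : Γ)⁻¹) s := by
      show _ = _
      calc (b : Γ) * (a : Γ)⁻¹ * s
          = b * ((a : Γ)⁻¹ * (s * a * s)) * (s⁻¹ * (a : Γ)⁻¹) := by group
        _ = b * ((b : Γ)⁻¹ * (s * b * s)) * (s⁻¹ * (a : Γ)⁻¹) := by rw [e]
        _ = s * ((b : Γ) * (a : Γ)⁻¹) := by group
    have := eq_one_of_mem_coprime (mul_mem b.2 (inv_mem a.2))
      (h.cen hs hs1 (hKH (mul_mem b.2 (inv_mem a.2))) hfix) hcop
    exact Subtype.ext (mul_inv_eq_one.1 this).symm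
  obtain ⟨a, ha⟩ := Finite.surjective_of_injective hinj ⟨k, hk⟩
  have e : (a : Γ)⁻¹ * (s * a * s) = k := congrArg Subtype.val ha
  rw [← e]
  calc s * ((a : Γ)⁻¹ * (s * a * s)) * s = s * (a : Γ)⁻¹ * s * a * (s * s) := by group
    _ = s⁻¹ * (a : Γ)⁻¹ * s⁻¹ * a := by rw [hs2, hinv, mul_one]
    _ = ((a : Γ)⁻¹ * (s * a * s))⁻¹ := by group

theorem invol_unique {s t : Γ} (hs : s ∈ C) (hs1 : s ≠ 1) (hs2 : s * s = 1) (ht : t ∈ C) (ht1 : t ≠ 1)
    (ht2 : t * t = 1) : t = s := by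
  obtain ⟨K, hKH, -, hcop, -, hne, hn, -⟩ := h.kernel_mul
  by_contra hts
  refine hne ((Subgroup.eq_bot_iff_forall _).2 fun k hk => eq_one_of_mem_coprime hk
    (h.cen (mul_mem ht hs) (fun e => hts ?_) (hKH hk) ?_) hcop)
  · rw [← mul_one t, ← hs2, ← mul_assoc, e, one_mul]
  · have h1 := h.inverts hKH hn hcop hs hs1 hs2 hk
    have h2 := h.inverts hKH hn hcop ht ht1 ht2 (inv_mem hk)
    rw [inv_inv, ← h1] at h2
    show k * (t * s) = t * s * k
    calc k * (t * s) = t * (s * k * s) * t * (t * s) := by rw [h2]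
      _ = t * s * k * (s * (t * t) * s) := by group
      _ = t * s * k := by rw [ht2, mul_one, hs2, mul_one]

end IsCompl

/-- The centraliser of `w` in `K`. -/
def cenK (K : Subgroup Γ) (w : Γ) : Subgroup Γ := K ⊓ centralizer {w}

theorem mem_cenK {K : Subgroup Γ} {w k : Γ} : k ∈ cenK K w ↔ k ∈ K ∧ k * w = w * k :=
  Subgroup.mem_inf.trans (and_congr_right fun _ => Subgroup.mem_centralizer_singleton_iff)

theorem card_mul_le {K A B : Subgroup Γ} (hA : A ≤ K) (hB : B ≤ K) (hd : ∀ x ∈ A, x ∈ B → x = 1) :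
    Nat.card A * Nat.card B ≤ Nat.card K := by
  rw [← Nat.card_prod]
  refine Nat.card_le_card_of_injective (fun p => (⟨(p.1 : Γ) * p.2, mul_mem (hA p.1.2) (hB p.2.2)⟩ : K))
    fun p p' e => ?_
  have e' : (p.1 : Γ) * p.2 = (p'.1 : Γ) * p'.2 := congrArg Subtype.val e
  have hx : (p'.1 : Γ)⁻¹ * p.1 = (p'.2 : Γ) * (p.2 : Γ)⁻¹ := by
    rw [eq_mul_inv_iff_mul_eq, mul_assoc, e', inv_mul_cancel_left]
  have h1 := hd _ (mul_mem (inv_mem p'.1.2) p.1.2) (hx ▸ mul_mem p'.2.2 (inv_mem p.2.2))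
  refine Prod.ext (Subtype.ext (inv_mul_eq_one.1 h1).symm) (Subtype.ext ?_)
  rw [h1] at hx
  exact (mul_inv_eq_one.1 hx.symm).symm

theorem map_cenK (K : Subgroup Γ) (g w : Γ) :
    (cenK K w).map (MulAut.conj g).toMonoidHom = cenK (K.map (MulAut.conj g).toMonoidHom) (g * w * g⁻¹) := by
  ext y
  constructor
  · rintro ⟨x, hx, rfl⟩
    obtain ⟨hxK, hxw⟩ := mem_cenK.1 hx
    refine mem_cenK.2 ⟨⟨x, hxK, rfl⟩, ?_⟩
    show MulAut.conj g x * MulAut.conj g w = MulAut.conj g w * MulAut.conj g x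
    rw [← map_mul, hxw, map_mul]
  · intro hy
    obtain ⟨⟨x, hx, rfl⟩, hyw⟩ := mem_cenK.1 hy
    refine ⟨x, mem_cenK.2 ⟨hx, (MulAut.conj g).injective ?_⟩, rfl⟩
    rw [map_mul, map_mul]
    exact hyw

/-- A commutative subgroup of odd order inverted by an involution. -/
structure Inverted (K : Subgroup Γ) (s : Γ) : Prop where
  odd : Odd (Nat.card K)
  sq : s * s = 1
  inv : ∀ k ∈ K, s * k * s = k⁻¹

namespace Inverted

variable {K : Subgroup Γ} {s u : Γ} (h : Inverted K s)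
include h

theorem comm {a b : Γ} (ha : a ∈ K) (hb : b ∈ K) : Commute a b := by
  have e : s * (a * b) * s = s * a * s * (s * b * s) := by
    rw [show s * a * s * (s * b * s) = s * a * (s * s) * b * s by group, h.sq, mul_one]
    group
  rw [h.inv _ (mul_mem ha hb), h.inv _ ha, h.inv _ hb, mul_inv_rev] at e
  show a * b = b * a
  exact inv_injective (by rw [mul_inv_rev, mul_inv_rev, e])

theorem sq_inj {a b : Γ} (ha : a ∈ K) (hb : b ∈ K) (e : a * a = b * b) : a = b := by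
  refine mul_inv_eq_one.1 (eq_one_of_coprime_pow (a := 2) (b := Nat.card K) ?_ ?_
    (Nat.coprime_two_left.2 h.odd))
  · rw [(h.comm ha (inv_mem hb)).mul_pow, inv_pow, pow_two, pow_two, e, mul_inv_cancel]
  · exact congrArg Subtype.val (pow_card_eq_one' (x := (⟨_, mul_mem ha (inv_mem hb)⟩ : K)))

theorem sqrt {k : Γ} (hk : k ∈ K) : k ^ ((Nat.card K + 1) / 2) * k ^ ((Nat.card K + 1) / 2) = k := by
  obtain ⟨i, hi⟩ := h.odd
  rw [← pow_add, show (Nat.card K + 1) / 2 + (Nat.card K + 1) / 2 = Nat.card K + 1 by omega, pow_succ,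
    show k ^ Nat.card K = 1 from congrArg Subtype.val (pow_card_eq_one' (x := (⟨k, hk⟩ : K))), one_mul]

/-- A conjugate by an element of `K`. -/
theorem conj_eq {k : Γ} (hk : k ∈ K) : k * s * k⁻¹ = k * k * s := by
  rw [← h.inv k hk]
  simp only [← mul_assoc]
  rw [mul_assoc k s s, h.sq, mul_one]

theorem mem_cen_mul {w k : Γ} (hw : w * w = 1) (hk : k ∈ K) : k ∈ cenK K (w * s) ↔ w * k * w = k⁻¹ := by
  rw [mem_cenK]
  refine ⟨fun e => ?_, fun e => ⟨hk, ?_⟩⟩
  · replace e := e.2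
    calc w * k * w = w * (k * (w * s)) * s := by
          rw [show w * (k * (w * s)) * s = w * k * w * (s * s) by group, h.sq, mul_one]
      _ = w * (w * s * k) * s := by rw [e]
      _ = w * w * (s * k * s) := by group
      _ = k⁻¹ := by rw [hw, one_mul, h.inv k hk]
  · calc k * (w * s) = w * w * k * w * s := by rw [hw, one_mul]; group
      _ = w * (w * k * w) * s := by group
      _ = w * (s * k * s) * s := by rw [e, h.inv k hk]
      _ = w * s * k * (s * s) := by group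
      _ = w * s * k := by rw [h.sq, mul_one]

theorem mem_cen {w k : Γ} (hw : w * w = 1) (hk : k ∈ K) : k ∈ cenK K w ↔ w * k * w = k := by
  rw [mem_cenK]
  refine ⟨fun e => ?_, fun e => ⟨hk, ?_⟩⟩
  · rw [← e.2, mul_assoc, hw, mul_one]
  · calc k * w = w * k * w * w := by rw [e]
      _ = w * k * (w * w) := by group
      _ = w * k := by rw [hw, mul_one]

/-- An involution normalising `K` splits it. -/
theorem split (hu : u * u = 1) (hn : ∀ k ∈ K, u * k * u ∈ K) :
    Nat.card (cenK K u) * Nat.card (cenK K (u * s)) = Nat.card K := by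
  refine le_antisymm (card_mul_le inf_le_left inf_le_left fun x hx hx' => ?_) ?_
  · have h1 := (h.mem_cen hu hx.1).1 hx
    rw [(h.mem_cen_mul hu hx.1).1 hx'] at h1
    refine h.sq_inj hx.1 (one_mem K) ?_
    rw [one_mul]
    exact eq_inv_iff_mul_eq_one.1 h1.symm
  · have hhom : ∀ a b : Γ, u * (a * b) * u = u * a * u * (u * b * u) := fun a b => by
      rw [show u * a * u * (u * b * u) = u * a * (u * u) * b * u by group, hu, mul_one]
      group
    have hinvol : ∀ a : Γ, u * (u * a * u) * u = a := fun a => by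
      rw [show u * (u * a * u) * u = u * u * a * (u * u) by group, hu, one_mul, mul_one]
    have hinv : ∀ a : Γ, u * a⁻¹ * u = (u * a * u)⁻¹ := fun a => by
      have : u⁻¹ = u := inv_eq_of_mul_eq_one_right hu
      simp only [mul_inv_rev, this, mul_assoc]
    rw [← Nat.card_prod]
    refine Nat.card_le_card_of_surjective
      (fun p : cenK K u × cenK K (u * s) => (⟨(p.1 : Γ) * p.2, mul_mem p.1.2.1 p.2.2.1⟩ : K)) fun ⟨k, hk⟩ => ?_
    set r := k ^ ((Nat.card K + 1) / 2) with hr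
    have hrK : r ∈ K := pow_mem hk _
    have hr' := hn r hrK
    refine ⟨(⟨r * (u * r * u), (h.mem_cen hu (mul_mem hrK hr')).2 ?_⟩,
      ⟨r * (u * r * u)⁻¹, (h.mem_cen_mul hu (mul_mem hrK (inv_mem hr'))).2 ?_⟩), Subtype.ext ?_⟩
    · rw [hhom, hinvol, (h.comm hr' hrK).eq]
    · rw [hhom, hinv, hinvol, mul_inv_rev, inv_inv]
    · show r * (u * r * u) * (r * (u * r * u)⁻¹) = k
      rw [(h.comm hrK hr').eq, mul_assoc, ← mul_assoc r r, (h.comm (mul_mem hrK hrK) (inv_mem hr')).eq,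
        mul_inv_cancel_left, hr]
      exact h.sqrt hk

end Inverted

end CfsgLib.FourFrob
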