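import Cfsg.Agent.Lib.FourFrob.Basic
import Cfsg.Agent.Lib.FourFrob.EvenFlip

/-!
Four-point stabilisers being Frobenius groups with complements of even order: kernels and involutions.
-/

set_option autoImplicit false
set_option linter.unusedSectionVars false
set_option linter.style.haveILetI false

namespace CfsgLib.FourFrob

open Finset
open CfsgSharpTrans (D4 fixed mem_fixed fixed_conj)

universe u

variable {α : Type u} [Fintype α] [DecidableEq α]

/-- Four-point stabilisers being Frobenius groups with complements of even order. -/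
structure E4 (G : Subgroup (Equiv.Perm α)) (m κ : ℕ) : Prop where
  trans : Trans4 G
  even : Even m
  compl : ∀ q : Finset α, q.card = 4 → ∃ C, IsCompl (fixG G q) C ∧ Nat.card C = m
  card : ∀ q : Finset α, q.card = 4 → Nat.card (fixG G q) = κ * m

/-- The kernel. -/
def KK (G : Subgroup (Equiv.Perm α)) (κ : ℕ) (q : Finset α) : Subgroup (Equiv.Perm α) :=
  Subgroup.closure {g | g ∈ fixG G q ∧ g ^ κ = 1}

open Classical in
/-- The involutions fixing `q`. -/
noncomputable def invol (G : Subgroup (Equiv.Perm α)) (q : Finset α) : Finset (Equiv.Perm α) :=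
  univ.filter fun g => g ∈ fixG G q ∧ g * g = 1 ∧ g ≠ 1

theorem mem_invol {G : Subgroup (Equiv.Perm α)} {q : Finset α} {g : Equiv.Perm α} :
    g ∈ invol G q ↔ g ∈ fixG G q ∧ g * g = 1 ∧ g ≠ 1 := by simp [invol]

open Classical in
/-- The involutions fixing four points. -/
noncomputable def inT (G : Subgroup (Equiv.Perm α)) : Finset (Equiv.Perm α) :=
  univ.filter fun g => g ∈ G ∧ g * g = 1 ∧ g ≠ 1 ∧ 4 ≤ (fixed g).card

theorem mem_inT {G : Subgroup (Equiv.Perm α)} {g : Equiv.Perm α} :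
    g ∈ inT G ↔ g ∈ G ∧ g * g = 1 ∧ g ≠ 1 ∧ 4 ≤ (fixed g).card := by simp [inT]

theorem conj_ne_one {g x : Equiv.Perm α} (hx : x ≠ 1) : g * x * g⁻¹ ≠ 1 := fun e => hx (conj_eq_one_iff.1 e)

theorem invol_inv {G : Subgroup (Equiv.Perm α)} {q : Finset α} {s : Equiv.Perm α} (hs : s ∈ invol G q) :
    s⁻¹ = s := inv_eq_of_mul_eq_one_right (mem_invol.1 hs).2.1

theorem mem_inT_of_invol {G : Subgroup (Equiv.Perm α)} {q : Finset α} (hq : q.card = 4) {s : Equiv.Perm α}
    (hs : s ∈ invol G q) : s ∈ inT G := by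
  obtain ⟨h1, h2, h3⟩ := mem_invol.1 hs
  exact mem_inT.2 ⟨h1.1, h2, h3, hq ▸ card_le_card fun x hx => mem_fixed.2 (h1.2 x hx)⟩

theorem invol_of_mem_inT {G : Subgroup (Equiv.Perm α)} {q : Finset α} {u : Equiv.Perm α} (hu : u ∈ inT G)
    (hq : q ⊆ fixed u) : u ∈ invol G q :=
  mem_invol.2 ⟨⟨(mem_inT.1 hu).1, fun _ hx => mem_fixed.1 (hq hx)⟩, (mem_inT.1 hu).2.1, (mem_inT.1 hu).2.2.1⟩

theorem mem_inT_conj {G : Subgroup (Equiv.Perm α)} {g u : Equiv.Perm α} (hg : g ∈ G) (hu : u ∈ inT G) :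
    g * u * g⁻¹ ∈ inT G := by
  obtain ⟨h1, h2, h3, h4⟩ := mem_inT.1 hu
  exact mem_inT.2 ⟨mul_mem (mul_mem hg h1) (inv_mem hg), CfsgSharpTrans.conj_sq g u h2, conj_ne_one h3, by
    rwa [fixed_conj, card_image_of_injective _ g.injective]⟩

theorem invol_conj {G : Subgroup (Equiv.Perm α)} {q : Finset α} {g s : Equiv.Perm α} (hg : g ∈ G)
    (hs : s ∈ invol G q) : g * s * g⁻¹ ∈ invol G (q.image g) := by
  obtain ⟨h1, h2, h3⟩ := mem_invol.1 hs
  exact mem_invol.2 ⟨map_fixG hg q ▸ ⟨s, h1, rfl⟩, CfsgSharpTrans.conj_sq g s h2, conj_ne_one h3⟩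

theorem image_eq_self {g : Equiv.Perm α} {q : Finset α} (h : ∀ x ∈ q, g x = x) : q.image g = q :=
  (image_congr h).trans image_id

theorem map_KK {G : Subgroup (Equiv.Perm α)} (κ : ℕ) {g : Equiv.Perm α} (hg : g ∈ G) (q : Finset α) :
    (KK G κ q).map (MulAut.conj g).toMonoidHom = KK G κ (q.image g) := by
  rw [KK, MonoidHom.map_closure, KK]
  congr 1
  ext h
  rw [← map_fixG hg]
  constructor
  · rintro ⟨x, ⟨hx, hxk⟩, rfl⟩
    exact ⟨⟨x, hx, rfl⟩, by rw [← map_pow, hxk, map_one]⟩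
  · rintro ⟨⟨x, hx, rfl⟩, hk⟩
    refine ⟨x, ⟨hx, ?_⟩, rfl⟩
    rw [← map_pow] at hk
    exact (MulEquiv.map_eq_one_iff (MulAut.conj g)).1 hk

namespace E4

variable {G : Subgroup (Equiv.Perm α)} {m κ : ℕ} (S : E4 G m κ) {q : Finset α}
include S

/-- The kernel does not depend on the complement. -/
theorem ker (hq : q.card = 4) {C : Subgroup (Equiv.Perm α)} (hC : IsCompl (fixG G q) C) (hCm : Nat.card C = m) :
    KK G κ q ≤ fixG G q ∧ Nat.card (KK G κ q) = κ ∧ κ.Coprime m ∧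
      (∀ g, g ∈ KK G κ q ↔ g ∈ fixG G q ∧ g ^ κ = 1) ∧ KK G κ q ≠ ⊥ ∧
      (∀ g ∈ fixG G q, ∀ k ∈ KK G κ q, g * k * g⁻¹ ∈ KK G κ q) ∧
      ∀ g ∈ fixG G q, ∃ k ∈ KK G κ q, ∃ c ∈ C, k * c = g := by
  obtain ⟨K, hKH, hmul, hcop, hmem, hne, hn, hfac⟩ := hC.kernel_mul
  rw [hCm] at hmul hcop hmem
  have hm : 0 < m := hCm ▸ Nat.card_pos
  have hK : Nat.card K = κ := Nat.eq_of_mul_eq_mul_right hm (hmul.trans (S.card q hq))
  rw [hK] at hcop
  have hiff : ∀ g, g ∈ K ↔ g ∈ fixG G q ∧ g ^ κ = 1 := fun g => by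
    refine ⟨fun hg => ⟨hKH hg, ?_⟩, fun hg => hmem g hg.1 ?_⟩
    · rw [← hK]
      exact congrArg Subtype.val (pow_card_eq_one' (x := (⟨g, hg⟩ : K)))
    · exact hcop.coprime_dvd_left (orderOf_dvd_of_pow_eq_one hg.2)
  have e : KK G κ q = K := le_antisymm ((Subgroup.closure_le _).2 fun g hg => (hiff g).2 hg)
    fun g hg => Subgroup.subset_closure ((hiff g).1 hg)
  rw [e]
  exact ⟨hKH, hK, hcop, hiff, hne, hn, hfac⟩

theorem KK_le (hq : q.card = 4) : KK G κ q ≤ fixG G q := by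
  obtain ⟨C, hC, hCm⟩ := S.compl q hq; exact (S.ker hq hC hCm).1

theorem card_KK (hq : q.card = 4) : Nat.card (KK G κ q) = κ := by
  obtain ⟨C, hC, hCm⟩ := S.compl q hq; exact (S.ker hq hC hCm).2.1

theorem coprime (hq : q.card = 4) : κ.Coprime m := by
  obtain ⟨C, hC, hCm⟩ := S.compl q hq; exact (S.ker hq hC hCm).2.2.1

theorem mem_KK (hq : q.card = 4) {g : Equiv.Perm α} : g ∈ KK G κ q ↔ g ∈ fixG G q ∧ g ^ κ = 1 := by
  obtain ⟨C, hC, hCm⟩ := S.compl q hq; exact (S.ker hq hC hCm).2.2.2.1 g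

theorem image_KK (hq : q.card = 4) {k : Equiv.Perm α} (hk : k ∈ KK G κ q) : q.image k = q :=
  image_eq_self (S.KK_le hq hk).2

theorem map_self (hq : q.card = 4) {k : Equiv.Perm α} (hk : k ∈ KK G κ q) :
    (KK G κ q).map (MulAut.conj k).toMonoidHom = KK G κ q := by
  rw [map_KK κ (S.KK_le hq hk).1, S.image_KK hq hk]

theorem kodd (hq : q.card = 4) : Odd κ :=
  Nat.coprime_two_right.1 ((S.coprime hq).coprime_dvd_right S.even.two_dvd)

theorem three_le (hq : q.card = 4) : 3 ≤ κ := by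
  obtain ⟨C, hC, hCm⟩ := S.compl q hq
  obtain ⟨-, hK, -, -, hne, -, -⟩ := S.ker hq hC hCm
  haveI := (Subgroup.nontrivial_iff_ne_bot (KK G κ q)).2 hne
  have h1 : 1 < κ := hK ▸ Finite.one_lt_card
  obtain ⟨i, hi⟩ := S.kodd hq
  omega

theorem exists_invol (hq : q.card = 4) : ∃ s, s ∈ invol G q := by
  obtain ⟨C, hC, hCm⟩ := S.compl q hq
  obtain ⟨⟨s, hs⟩, ho⟩ := exists_prime_orderOf_dvd_card' (G := C) 2 (hCm ▸ S.even.two_dvd)
  rw [Subgroup.orderOf_mk] at ho
  refine ⟨s, mem_invol.2 ⟨hC.le hs, ?_, fun e => ?_⟩⟩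
  · rw [← pow_two, ← ho, pow_orderOf_eq_one]
  · rw [e, orderOf_one] at ho; norm_num at ho

/-- A complement through a given involution. -/
theorem compl_inv (hq : q.card = 4) {s : Equiv.Perm α} (hs : s ∈ invol G q) :
    ∃ C, IsCompl (fixG G q) C ∧ Nat.card C = m ∧ s ∈ C := by
  obtain ⟨hsH, hs2, hs1⟩ := mem_invol.1 hs
  obtain ⟨C, hC, hCm⟩ := S.compl q hq
  obtain ⟨x, hx, hxC⟩ := hC.le_conj (L := Subgroup.zpowers s) (Subgroup.zpowers_le.2 hsH) (by
    rw [Nat.card_zpowers, orderOf_eq_prime (by rw [pow_two, hs2]) hs1, hCm]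
    exact S.even.two_dvd)
  obtain ⟨hC', hcard⟩ := hC.conj hx
  refine ⟨_, hC', hcard.trans hCm, ⟨_, hxC s (Subgroup.mem_zpowers s), ?_⟩⟩
  show x * (x⁻¹ * s * x) * x⁻¹ = s
  group

theorem inverted (hq : q.card = 4) {s : Equiv.Perm α} (hs : s ∈ invol G q) : Inverted (KK G κ q) s := by
  obtain ⟨C, hC, hCm, hsC⟩ := S.compl_inv hq hs
  obtain ⟨hKH, hK, hcop, -, -, hn, -⟩ := S.ker hq hC hCm
  obtain ⟨-, hs2, hs1⟩ := mem_invol.1 hs
  exact ⟨hK.symm ▸ S.kodd hq, hs2, fun k hk => hC.inverts hKH hn (by rw [hK, hCm]; exact hcop) hsC hs1 hs2 hk⟩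

theorem invol_comm (hq : q.card = 4) {s t : Equiv.Perm α} (hs : s ∈ invol G q) (ht : t ∈ invol G q)
    (hts : Commute t s) : t = s := by
  obtain ⟨C, hC, -, hsC⟩ := S.compl_inv hq hs
  obtain ⟨-, hs2, hs1⟩ := mem_invol.1 hs
  obtain ⟨htH, ht2, ht1⟩ := mem_invol.1 ht
  exact hC.invol_unique hsC hs1 hs2 (hC.cen hsC hs1 htH hts) ht1 ht2

/-- Elements centralising an involution act freely on the kernel. -/
theorem fpf (hq : q.card = 4) {s w k : Equiv.Perm α} (hs : s ∈ invol G q) (hw : w ∈ fixG G q)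
    (hws : Commute w s) (hw1 : w ≠ 1) (hk : k ∈ KK G κ q) (hkw : Commute k w) : k = 1 := by
  obtain ⟨C, hC, hCm, hsC⟩ := S.compl_inv hq hs
  have hwC := hC.cen hsC (mem_invol.1 hs).2.2 hw hws
  refine eq_one_of_mem_coprime hk (hC.cen hwC hw1 (S.KK_le hq hk) hkw) ?_
  rw [S.card_KK hq, hCm]
  exact S.coprime hq

/-- The involutions form a coset of the kernel. -/
theorem invol_mul (hq : q.card = 4) {s t : Equiv.Perm α} (hs : s ∈ invol G q) (ht : t ∈ invol G q) :
    t * s ∈ KK G κ q := by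
  obtain ⟨C, hC, hCm, hsC⟩ := S.compl_inv hq hs
  obtain ⟨hKH, hK, hcop, -, -, hn, hfac⟩ := S.ker hq hC hCm
  obtain ⟨-, hs2, hs1⟩ := mem_invol.1 hs
  obtain ⟨htH, ht2, ht1⟩ := mem_invol.1 ht
  obtain ⟨k, hk, c, hc, rfl⟩ := hfac t htH
  have hcK : c * c ∈ KK G κ q := by
    have h1 := inv_mem (mul_mem hk (hn c (hC.le hc) k hk))
    have e : c * c = (k * (c * k * c⁻¹))⁻¹ := by
      refine eq_inv_of_mul_eq_one_right ?_
      rw [← ht2]; group
    rwa [e]
  have hcop' : (Nat.card (KK G κ q)).Coprime (Nat.card C) := by rw [hK, hCm]; exact hcop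
  have hc2 := eq_one_of_mem_coprime hcK (mul_mem hc hc) hcop'
  by_cases hc1 : c = 1
  · exfalso
    rw [hc1, mul_one] at ht2 ht1
    exact ht1 (eq_one_of_coprime_pow (a := 2) (b := κ) (by rw [pow_two, ht2]) ((S.mem_KK hq).1 hk).2
      (Nat.coprime_two_left.2 (S.kodd hq)))
  · rw [hC.invol_unique hsC hs1 hs2 hc hc1 hc2, mul_assoc, hs2, mul_one]
    exact hk

theorem mul_invol (hq : q.card = 4) {s k : Equiv.Perm α} (hs : s ∈ invol G q) (hk : k ∈ KK G κ q) :
    k * s ∈ invol G q := by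
  obtain ⟨hsH, hs2, hs1⟩ := mem_invol.1 hs
  have h := (S.inverted hq hs).inv k hk
  refine mem_invol.2 ⟨mul_mem (S.KK_le hq hk) hsH, ?_, fun e => hs1 ?_⟩
  · rw [show k * s * (k * s) = k * (s * k * s) by group, h, mul_inv_cancel]
  · have hsK : s ∈ KK G κ q := (eq_inv_of_mul_eq_one_right e).symm ▸ inv_mem hk
    exact eq_one_of_coprime_pow (a := 2) (b := κ) (by rw [pow_two, hs2]) ((S.mem_KK hq).1 hsK).2
      (Nat.coprime_two_left.2 (S.kodd hq))

theorem card_invol (hq : q.card = 4) : (invol G q).card = κ := by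
  classical
  obtain ⟨s, hs⟩ := S.exists_invol hq
  have hs2 := (mem_invol.1 hs).2.1
  have e : invol G q = (univ.filter fun k => k ∈ KK G κ q).image (· * s) := by
    ext t
    simp only [mem_image, mem_filter, mem_univ, true_and]
    exact ⟨fun ht => ⟨t * s, S.invol_mul hq hs ht, by rw [mul_assoc, hs2, mul_one]⟩,
      fun ⟨k, hk, e⟩ => e ▸ S.mul_invol hq hs hk⟩
  rw [e, card_image_of_injective _ (mul_left_injective s), ← Nat.card_eq_finsetCard]
  exact (Nat.card_congr (Equiv.subtypeEquivRight fun k => by simp)).trans (S.card_KK hq)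

/-- The involutions are conjugate under the kernel. -/
theorem invol_exists_conj (hq : q.card = 4) {s t : Equiv.Perm α} (hs : s ∈ invol G q) (ht : t ∈ invol G q) :
    ∃ k ∈ KK G κ q, k * s * k⁻¹ = t := by
  have hn := S.invol_mul hq hs ht
  have I := S.inverted hq hs
  refine ⟨_, pow_mem hn ((Nat.card (KK G κ q) + 1) / 2), ?_⟩
  rw [I.conj_eq (pow_mem hn _), I.sqrt hn, mul_assoc, I.sq, mul_one]

/-- Moving a pair of a quadruple and an involution onto another. -/
theorem exists_move {q' : Finset α} (hq : q.card = 4) {g s t : Equiv.Perm α} (hg : g ∈ G) (hqq : q.image g = q')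
    (hs : s ∈ invol G q) (ht : t ∈ invol G q') :
    ∃ h ∈ G, h * s * h⁻¹ = t ∧ ∀ x ∈ q, h x = g x := by
  have hq' : q'.card = 4 := by rw [← hqq, card_image_of_injective _ g.injective, hq]
  have h1 := invol_conj hg hs
  rw [hqq] at h1
  obtain ⟨k, hk, hkt⟩ := S.invol_exists_conj hq' h1 ht
  refine ⟨k * g, mul_mem (S.KK_le hq' hk).1 hg, ?_, fun x hx => ?_⟩
  · rw [← hkt]; group
  · rw [Equiv.Perm.mul_apply]
    exact (S.KK_le hq' hk).2 _ (hqq ▸ mem_image_of_mem g hx)

theorem fix_card_eq {u v : Equiv.Perm α} (hu : u ∈ inT G) (hv : v ∈ inT G) :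
    (fixed u).card = (fixed v).card := by
  obtain ⟨q, hqu, hq⟩ := exists_subset_card_eq (mem_inT.1 hu).2.2.2
  obtain ⟨q', hqv, hq'⟩ := exists_subset_card_eq (mem_inT.1 hv).2.2.2
  obtain ⟨g, hg, hgq⟩ := S.trans.exists_image hq hq'
  obtain ⟨h, -, hh, -⟩ := S.exists_move hq hg hgq (invol_of_mem_inT hu hqu) (invol_of_mem_inT hv hqv)
  rw [← hh, fixed_conj, card_image_of_injective _ h.injective]

theorem common {u v : Equiv.Perm α} (hu : u ∈ inT G) (hv : v ∈ inT G) (hne : v ≠ u) (huv : Commute v u) :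
    (fixed u ∩ fixed v).card ≤ 3 := by
  by_contra h
  obtain ⟨q, hsub, hq⟩ := exists_subset_card_eq (show 4 ≤ (fixed u ∩ fixed v).card by omega)
  exact hne (S.invol_comm hq (invol_of_mem_inT hu (hsub.trans inter_subset_left))
    (invol_of_mem_inT hv (hsub.trans inter_subset_right)) huv)

theorem cen_fixed (hq : q.card = 4) {u k : Equiv.Perm α} (hu : u ∈ inT G) (hk : k ∈ KK G κ q) (hk1 : k ≠ 1)
    (huk : Commute k u) : (fixed u ∩ fixed k).card ≤ 3 := by
  by_contra h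
  obtain ⟨q', hsub, hq'⟩ := exists_subset_card_eq (show 4 ≤ (fixed u ∩ fixed k).card by omega)
  have hu' := invol_of_mem_inT hu (hsub.trans inter_subset_left)
  refine hk1 (S.fpf hq' hu' (mem_invol.1 hu').1 (Commute.refl u) (mem_invol.1 hu').2.2 ?_ huk)
  exact (S.mem_KK hq').2 ⟨⟨(S.KK_le hq hk).1, fun x hx => mem_fixed.1 (mem_inter.1 (hsub hx)).2⟩,
    ((S.mem_KK hq).1 hk).2⟩

/-- The order of a centraliser in the kernel. -/
theorem cen_le (hq : q.card = 4) {u : Equiv.Perm α} (hu : u ∈ inT G) :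
    Nat.card (cenK (KK G κ q) u) ≤ max 9 (fixed u).card := by
  classical
  obtain ⟨s, hs⟩ := S.exists_invol hq
  have I := S.inverted hq hs
  set A := cenK (KK G κ q) u
  set F := fixed u
  have hA : ∀ {a}, a ∈ A → a ∈ KK G κ q ∧ Commute a u := fun ha => mem_cenK.1 ha
  have horb : ∀ x ∈ F, MulAction.orbit A x ⊆ (F : Set α) := by
    rintro x hx _ ⟨a, rfl⟩
    rw [mem_coe, mem_fixed]
    show u ((a : Equiv.Perm α) x) = (a : Equiv.Perm α) x
    rw [← Equiv.Perm.mul_apply, ← (hA a.2).2.eq, Equiv.Perm.mul_apply, mem_fixed.1 hx]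
  have hcard : ∀ x : α, (MulAction.orbit A x).ncard * Nat.card (MulAction.stabilizer A x) = Nat.card A := fun x => by
    rw [← MulAction.index_stabilizer, Subgroup.index_mul_card]
  have hkill : ∀ {a : A} {t : Finset α}, a ≠ 1 → t ⊆ F → (∀ z ∈ t, (a : Equiv.Perm α) z = z) → t.card ≤ 3 :=
    fun {a t} ha ht hz => (card_le_card fun z h => mem_inter.2 ⟨ht h, mem_fixed.2 (hz z h)⟩).trans
      (S.cen_fixed hq hu (hA a.2).1 (fun e => ha (Subtype.ext e)) (hA a.2).2)
  by_cases hfree : ∃ x ∈ F, MulAction.stabilizer A x = ⊥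
  · obtain ⟨x, hx, hb⟩ := hfree
    have h := hcard x
    rw [hb, Subgroup.card_bot, mul_one] at h
    rw [← h]
    refine le_max_of_le_right ?_
    rw [← Set.ncard_coe_finset]
    exact Set.ncard_le_ncard (horb x hx) (Finset.finite_toSet F)
  push Not at hfree
  have hfix : ∀ {x : α} {a : A}, a ∈ MulAction.stabilizer A x → ∀ z ∈ (MulAction.orbit A x).toFinset,
      (a : Equiv.Perm α) z = z := by
    intro x a ha z hz
    obtain ⟨b, rfl⟩ := Set.mem_toFinset.1 hz
    show (a : Equiv.Perm α) ((b : Equiv.Perm α) x) = (b : Equiv.Perm α) x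
    rw [← Equiv.Perm.mul_apply, (I.comm (hA a.2).1 (hA b.2).1).eq, Equiv.Perm.mul_apply,
      show (a : Equiv.Perm α) x = x from ha]
  have hsmall : ∀ x ∈ F, (MulAction.orbit A x).ncard = 1 ∨ (MulAction.orbit A x).ncard = 3 := by
    intro x hx
    obtain ⟨a, ha, ha1⟩ := (Subgroup.bot_or_exists_ne_one _).resolve_left (hfree x hx)
    have h3 : (MulAction.orbit A x).ncard ≤ 3 := by
      rw [Set.ncard_eq_toFinset_card']
      exact hkill ha1 (fun z hz => horb x hx (Set.mem_toFinset.1 hz)) (hfix ha)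
    have hdvd : (MulAction.orbit A x).ncard ∣ κ :=
      (Dvd.intro _ (hcard x)).trans (S.card_KK hq ▸ Subgroup.card_dvd_of_le inf_le_left)
    obtain ⟨i, hi⟩ := (S.kodd hq).of_dvd_nat hdvd
    omega
  by_cases h3 : ∃ x ∈ F, (MulAction.orbit A x).ncard = 3
  · obtain ⟨x, hx, hox⟩ := h3
    refine le_max_of_le_left ?_
    obtain ⟨z, hz, hzo⟩ := exists_mem_notMem_of_card_lt_card (s := (MulAction.orbit A x).toFinset) (t := F) (by
      rw [← Set.ncard_eq_toFinset_card', hox]; exact (mem_inT.1 hu).2.2.2)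
    have hinj : Nat.card (MulAction.stabilizer A x) ≤ (MulAction.orbit A z).ncard := by
      rw [← Nat.card_coe_set_eq]
      refine Nat.card_le_card_of_injective
        (fun a : MulAction.stabilizer A x => (⟨(a : A) • z, MulAction.mem_orbit z _⟩ : MulAction.orbit A z))
        fun a b e => ?_
      by_contra hab
      have hne : (b : A)⁻¹ * (a : A) ≠ 1 := fun h => hab (Subtype.ext (inv_mul_eq_one.1 h).symm)
      have hz' : ((b : A)⁻¹ * (a : A)) • z = z := by
        rw [mul_smul, show (a : A) • z = (b : A) • z from congrArg Subtype.val e, inv_smul_smul]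
      have := hkill hne (t := insert z (MulAction.orbit A x).toFinset)
        (insert_subset hz fun w hw => horb x hx (Set.mem_toFinset.1 hw)) fun w hw => by
        rcases mem_insert.1 hw with rfl | hw
        · exact hz'
        · exact hfix (mul_mem (inv_mem b.2) a.2) w hw
      rw [card_insert_of_notMem hzo, ← Set.ncard_eq_toFinset_card', hox] at this
      omega
    have h := hcard x
    rw [hox] at h
    rcases hsmall z hz with h' | h' <;> omega
  push Not at h3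
  refine le_max_of_le_left ?_
  have hbot : A = ⊥ := (Subgroup.eq_bot_iff_forall _).2 fun a ha => by
    by_contra hne
    have := hkill (a := ⟨a, ha⟩) (fun e => hne (congrArg Subtype.val e)) (t := F) subset_rfl fun z hz => by
      obtain ⟨w, hw⟩ := Set.ncard_eq_one.1 ((hsmall z hz).resolve_right (h3 z hz))
      have h1 : z ∈ MulAction.orbit A z := MulAction.mem_orbit_self z
      have h2 : a z ∈ MulAction.orbit A z := ⟨⟨a, ha⟩, rfl⟩
      rw [hw, Set.mem_singleton_iff] at h1 h2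
      exact h2.trans h1.symm
    have h4 : 4 ≤ F.card := (mem_inT.1 hu).2.2.2
    omega
  rw [hbot, Subgroup.card_bot]
  norm_num

/-- The complement is smaller than the kernel. -/
theorem m_lt (hq : q.card = 4) : m < κ := by
  obtain ⟨C, hC, hCm⟩ := S.compl q hq
  obtain ⟨hKH, hK, hcop, -, hne, hn, -⟩ := S.ker hq hC hCm
  obtain ⟨k, hk, hk1⟩ := (Subgroup.bot_or_exists_ne_one _).resolve_left hne
  let f : Option C → KK G κ q := fun c => c.elim 1 fun c => ⟨_, hn c (hC.le c.2) k hk⟩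
  have hf : Function.Injective f := by
    rintro (_ | a) (_ | b) e
    · rfl
    · exact absurd (congrArg Subtype.val e).symm (conj_ne_one hk1)
    · exact absurd (congrArg Subtype.val e) (conj_ne_one hk1)
    · have e' : (a : Equiv.Perm α) * k * (a : Equiv.Perm α)⁻¹ = b * k * (b : Equiv.Perm α)⁻¹ := congrArg Subtype.val e
      have hcomm : Commute k ((b : Equiv.Perm α)⁻¹ * a) := by
        show k * ((b : Equiv.Perm α)⁻¹ * a) = (b : Equiv.Perm α)⁻¹ * a * k
        calc k * ((b : Equiv.Perm α)⁻¹ * a) = (b : Equiv.Perm α)⁻¹ * (b * k * (b : Equiv.Perm α)⁻¹) * a := by group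
          _ = (b : Equiv.Perm α)⁻¹ * a * k := by rw [← e']; group
      by_contra hab
      refine hk1 (eq_one_of_mem_coprime hk (hC.cen (mul_mem (inv_mem b.2) a.2) (fun h => hab ?_) (hKH hk) hcomm)
        (by rw [hK, hCm]; exact hcop))
      exact congrArg some (Subtype.ext (inv_mul_eq_one.1 h).symm)
  have := Nat.card_le_card_of_injective f hf
  rw [hK, Finite.card_option, hCm] at this
  omega

end E4

end CfsgLib.FourFrob
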