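import Cfsg.Agent.Lib.FourFrob.EvenBasic
import Cfsg.Agent.Lib.FourFrob.EvenArith

/-!
Involutions inducing a given permutation on four points, counted through those centralising a fixed involution
of the stabiliser.
-/

set_option autoImplicit false
set_option linter.unusedSectionVars false
set_option linter.style.haveILetI false

namespace CfsgLib.FourFrob

open Finset
open CfsgSharpTrans (D4 fixed mem_fixed fixed_conj)

universe u

variable {α : Type u} [Fintype α] [DecidableEq α]

/-- A set of involutions inducing the same permutation on `q`. -/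
structure Coset (G : Subgroup (Equiv.Perm α)) (q : Finset α) (E : Finset (Equiv.Perm α)) : Prop where
  inT : ∀ u ∈ E, u ∈ inT G
  image : ∀ u ∈ E, q.image u = q
  prod : ∀ u ∈ E, ∀ v ∈ E, u * v ∈ fixG G q
  conj : ∀ u ∈ E, ∀ k ∈ fixG G q, k * u * k⁻¹ ∈ E

open Classical in
/-- The elements centralising `s`. -/
noncomputable def com (E : Finset (Equiv.Perm α)) (s : Equiv.Perm α) : Finset (Equiv.Perm α) :=
  E.filter fun u => Commute u s

theorem mem_com {E : Finset (Equiv.Perm α)} {s u : Equiv.Perm α} : u ∈ com E s ↔ u ∈ E ∧ Commute u s := by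
  simp [com]

theorem com_com {s k : Equiv.Perm α} {u : Equiv.Perm α} (hu : Commute u s) :
    Commute (k * u * k⁻¹) (k * s * k⁻¹) := hu.map (MulAut.conj k)

/-- The order of the centraliser in the kernel. -/
noncomputable def aN (G : Subgroup (Equiv.Perm α)) (κ : ℕ) (q : Finset α) (w : Equiv.Perm α) : ℕ :=
  Nat.card (cenK (KK G κ q) w)

theorem aN_conj {G : Subgroup (Equiv.Perm α)} (κ : ℕ) {g : Equiv.Perm α} (hg : g ∈ G) (q : Finset α)
    (w : Equiv.Perm α) : aN G κ (q.image g) (g * w * g⁻¹) = aN G κ q w := by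
  rw [aN, aN, ← map_KK κ hg, ← map_cenK]
  exact Subgroup.card_map_of_injective (MulAut.conj g).injective

theorem aN_pos (G : Subgroup (Equiv.Perm α)) (κ : ℕ) (q : Finset α) (w : Equiv.Perm α) : 0 < aN G κ q w :=
  Nat.card_pos

namespace E4

variable {G : Subgroup (Equiv.Perm α)} {m κ : ℕ} (S : E4 G m κ) {q : Finset α} (hq : q.card = 4)
include S hq

theorem aN_dvd (w : Equiv.Perm α) : aN G κ q w ∣ κ :=
  (Subgroup.card_dvd_of_le (show cenK (KK G κ q) w ≤ KK G κ q from inf_le_left)).trans (S.card_KK hq).dvd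

variable {E : Finset (Equiv.Perm α)} (hE : Coset G q E)
include hE

theorem norm_KK {u k : Equiv.Perm α} (hu : u ∈ E) (hk : k ∈ KK G κ q) : u * k * u ∈ KK G κ q := by
  have hu' := mem_inT.1 (hE.inT u hu)
  have h : MulAut.conj u k ∈ (KK G κ q).map (MulAut.conj u).toMonoidHom := ⟨k, hk, rfl⟩
  rw [map_KK κ hu'.1, hE.image u hu, MulAut.conj_apply, inv_eq_of_mul_eq_one_right hu'.2.1] at h
  exact h

theorem aN_mul {u s : Equiv.Perm α} (hu : u ∈ E) (hs : s ∈ invol G q) :
    aN G κ q u * aN G κ q (u * s) = κ :=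
  ((S.inverted hq hs).split (mem_inT.1 (hE.inT u hu)).2.1 fun _ hk => S.norm_KK hq hE hu hk).trans
    (S.card_KK hq)

open Classical in
/-- The involutions of the stabiliser centralising a given element of the coset. -/
theorem card_commuting {u : Equiv.Perm α} (hu : u ∈ E) :
    ((invol G q).filter fun s => Commute u s).card = aN G κ q u := by
  obtain ⟨s, hs⟩ := S.exists_invol hq
  have hu' := mem_inT.1 (hE.inT u hu)
  have hui : u⁻¹ = u := inv_eq_of_mul_eq_one_right hu'.2.1
  have hs2 := (mem_invol.1 hs).2.1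
  have hu2 := hu'.2.1
  -- an involution centralising `u`
  have hus : u * s * u ∈ invol G q := by
    have := invol_conj hu'.1 hs
    rwa [hE.image u hu, hui] at this
  set n := u * s * u * s with hndef
  have hn : n ∈ KK G κ q := S.invol_mul hq hs hus
  have I := S.inverted hq hs
  set k := n ^ ((Nat.card (KK G κ q) + 1) / 2) with hkdef
  have hk : k ∈ KK G κ q := pow_mem hn _
  have hnu : u * n * u⁻¹ = n⁻¹ := by
    rw [hui, hndef, mul_inv_rev, invol_inv hs, invol_inv hus,
      show u * (u * s * u * s) * u = u * u * s * u * s * u by group, hu2]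
    group
  have hku : u * k * u⁻¹ = k⁻¹ := by rw [hkdef, ← conj_pow, hnu, inv_pow]
  have hkk : k * k = n := I.sqrt hn
  have hsu : Commute u (k * s) := by
    show u * (k * s) = k * s * u
    calc u * (k * s) = u * k * u⁻¹ * (u * s * u * (s * s) * u⁻¹) := by rw [hs2]; group
      _ = k⁻¹ * (n * s * u⁻¹) := by rw [hku, hndef]; group
      _ = k⁻¹ * (k * k * s * u) := by rw [hkk, hui]
      _ = k * s * u := by group
  set s₀ := k * s
  have hs₀ : s₀ ∈ invol G q := S.mul_invol hq hs hk
  have hs₀2 := (mem_invol.1 hs₀).2.1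
  rw [← Nat.card_eq_finsetCard]
  refine Nat.card_congr
    { toFun := fun t => ⟨(t : Equiv.Perm α) * s₀, mem_cenK.2 ⟨S.invol_mul hq hs₀ (mem_filter.1 t.2).1,
        ((mem_filter.1 t.2).2.mul_right hsu).eq.symm⟩⟩
      invFun := fun x => ⟨(x : Equiv.Perm α) * s₀, mem_filter.2 ⟨S.mul_invol hq hs₀ (mem_cenK.1 x.2).1,
        (show Commute u (x : Equiv.Perm α) from (mem_cenK.1 x.2).2.symm).mul_right hsu⟩⟩
      left_inv := fun t => Subtype.ext (by simp [mul_assoc, hs₀2])
      right_inv := fun x => Subtype.ext (by simp [mul_assoc, hs₀2]) }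

open Classical in
/-- The coset is counted by the elements centralising one involution. -/
theorem coset_card {s : Equiv.Perm α} (hs : s ∈ invol G q) :
    E.card = ∑ u ∈ com E s, aN G κ q (u * s) := by
  refine Nat.eq_of_mul_eq_mul_left (show 0 < κ by have := S.three_le hq; omega) ?_
  have h1 : ∀ u ∈ E, ∑ t ∈ (invol G q).filter (fun t => Commute u t), aN G κ q (u * t) = κ := fun u hu => by
    have hval : ∀ t ∈ (invol G q).filter (fun t => Commute u t), aN G κ q (u * t) = κ / aN G κ q u := fun t ht =>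
      Nat.eq_div_of_mul_eq_left (aN_pos G κ q u).ne' (by rw [mul_comm]; exact S.aN_mul hq hE hu (mem_filter.1 ht).1)
    rw [sum_congr rfl hval, sum_const, smul_eq_mul, S.card_commuting hq hE hu,
      Nat.mul_div_cancel' (S.aN_dvd hq u)]
  have h2 : ∀ t ∈ invol G q, ∑ u ∈ com E t, aN G κ q (u * t) = ∑ u ∈ com E s, aN G κ q (u * s) := fun t ht => by
    obtain ⟨k, hk, rfl⟩ := S.invol_exists_conj hq hs ht
    have hkH := S.KK_le hq hk
    refine sum_nbij' (fun u => k⁻¹ * u * k) (fun u => k * u * k⁻¹) (fun u hu => ?_) (fun u hu => ?_)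
      (fun u _ => by group) (fun u _ => by group) (fun u hu => ?_)
    · obtain ⟨huE, hus⟩ := mem_com.1 hu
      refine mem_com.2 ⟨by simpa using hE.conj u huE k⁻¹ (inv_mem hkH), ?_⟩
      have h := com_com (k := k⁻¹) hus
      simpa [mul_assoc] using h
    · obtain ⟨huE, hus⟩ := mem_com.1 hu
      exact mem_com.2 ⟨hE.conj u huE k hkH, com_com hus⟩
    · conv_rhs => rw [← aN_conj κ hkH.1 q, S.image_KK hq hk]
      congr 1
      group
  calc κ * E.card = ∑ u ∈ E, κ := by rw [sum_const, smul_eq_mul, mul_comm]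
    _ = ∑ u ∈ E, ∑ t ∈ (invol G q).filter (fun t => Commute u t), aN G κ q (u * t) :=
        sum_congr rfl fun u hu => (h1 u hu).symm
    _ = ∑ t ∈ invol G q, ∑ u ∈ com E t, aN G κ q (u * t) := by
        simp only [com, sum_filter]
        exact sum_comm
    _ = κ * _ := by rw [sum_congr rfl h2, sum_const, smul_eq_mul, S.card_invol hq]

variable {s : Equiv.Perm α} (hs : s ∈ invol G q)
include hs

theorem com_prod {u v : Equiv.Perm α} (hu : u ∈ com E s) (hv : v ∈ com E s) :
    u * v ∈ fixG G q ∧ Commute (u * v) s :=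
  ⟨hE.prod u (mem_com.1 hu).1 v (mem_com.1 hv).1, (mem_com.1 hu).2.mul_left (mem_com.1 hv).2⟩

omit hE in
/-- Centralisers of two elements meet trivially. -/
theorem disj {w w' x : Equiv.Perm α} (hc : w * w' ∈ fixG G q) (hcs : Commute (w * w') s) (h1 : w * w' ≠ 1)
    (hx : x ∈ cenK (KK G κ q) w) (hx' : x ∈ cenK (KK G κ q) w') : x = 1 := by
  obtain ⟨hxK, e⟩ := mem_cenK.1 hx
  exact S.fpf hq hs hc hcs h1 hxK
    ((show Commute x w from e).mul_right (show Commute x w' from (mem_cenK.1 hx').2))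

/-- Two centralising elements in different classes modulo `s`. -/
theorem multi {u v : Equiv.Perm α} (hu : u ∈ com E s) (hv : v ∈ com E s) (hne : v ≠ u) (hne' : v ≠ u * s) :
    aN G κ q u = aN G κ q v ∧ aN G κ q (u * s) = aN G κ q u ∧ aN G κ q (v * s) = aN G κ q u ∧
      aN G κ q u * aN G κ q u = κ := by
  obtain ⟨huE, hus⟩ := mem_com.1 hu
  obtain ⟨hvE, hvs⟩ := mem_com.1 hv
  obtain ⟨hc, hcs⟩ := S.com_prod hq hE hs hu hv
  obtain ⟨hsH, hs2, -⟩ := mem_invol.1 hs
  have hu2 := (mem_inT.1 (hE.inT u huE)).2.1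
  have hc1 : u * v ≠ 1 := fun e => hne ((eq_inv_of_mul_eq_one_right e).trans (inv_eq_of_mul_eq_one_right hu2))
  have hc2 : u * v * s ≠ 1 := fun e => hne' (by
    have h : u * v = s := (eq_inv_of_mul_eq_one_left e).trans (invol_inv hs)
    rw [← h, ← mul_assoc, hu2, one_mul])
  have hcsH : u * v * s ∈ fixG G q := mul_mem hc hsH
  have hcss : Commute (u * v * s) s := hcs.mul_left (Commute.refl s)
  have e1 : u * (v * s) = u * v * s := by group
  have e2 : u * s * v = u * v * s := by rw [mul_assoc, ← hvs.eq, ← mul_assoc]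
  have e3 : u * s * (v * s) = u * v := by
    rw [← mul_assoc, e2, mul_assoc, hs2, mul_one]
  have le := fun (w w' : Equiv.Perm α) (h : ∀ x ∈ cenK (KK G κ q) w, x ∈ cenK (KK G κ q) w' → x = 1) =>
    (card_mul_le (K := KK G κ q) inf_le_left inf_le_left h).trans (S.card_KK hq).le
  have l1 : aN G κ q u * aN G κ q v ≤ κ := le u v fun x => S.disj hq hs hc hcs hc1
  have l2 : aN G κ q u * aN G κ q (v * s) ≤ κ :=
    le u (v * s) fun x => S.disj hq hs (e1 ▸ hcsH) (e1 ▸ hcss) (e1 ▸ hc2)
  have l3 : aN G κ q (u * s) * aN G κ q v ≤ κ :=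
    le (u * s) v fun x => S.disj hq hs (e2 ▸ hcsH) (e2 ▸ hcss) (e2 ▸ hc2)
  have l4 : aN G κ q (u * s) * aN G κ q (v * s) ≤ κ :=
    le (u * s) (v * s) fun x => S.disj hq hs (e3 ▸ hc) (e3 ▸ hcs) (e3 ▸ hc1)
  have pu := S.aN_mul hq hE huE hs
  have pv := S.aN_mul hq hE hvE hs
  have p1 := aN_pos G κ q u
  have p2 := aN_pos G κ q v
  have p3 := aN_pos G κ q (u * s)
  have p4 := aN_pos G κ q (v * s)
  have a1 := Nat.le_of_mul_le_mul_left (l1.trans pu.ge) p1
  have a2 := Nat.le_of_mul_le_mul_right (l1.trans pv.ge |>.trans (mul_comm _ _).le) p2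
  have a3 := Nat.le_of_mul_le_mul_left (l2.trans pu.ge) p1
  have a4 := Nat.le_of_mul_le_mul_right (l2.trans pv.ge) p4
  have a5 := Nat.le_of_mul_le_mul_left (l3.trans (pu.ge.trans (mul_comm _ _).le)) p3
  have a6 := Nat.le_of_mul_le_mul_right (l3.trans pv.ge |>.trans (mul_comm _ _).le) p2
  have a7 := Nat.le_of_mul_le_mul_left (l4.trans (pu.ge.trans (mul_comm _ _).le)) p3
  have a8 := Nat.le_of_mul_le_mul_right (l4.trans pv.ge) p4
  refine ⟨by omega, by omega, by omega, ?_⟩
  conv_lhs => arg 2; rw [show aN G κ q u = aN G κ q (u * s) by omega]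
  exact pu

/-- The shape of a coset. -/
theorem shape : Shape κ (com E s).card E.card ((com E s).image (aN G κ q)) := by
  classical
  have hsum := S.coset_card hq hE hs
  have hmem : ∀ {u}, u ∈ com E s → aN G κ q u ∈ (com E s).image (aN G κ q) := fun h => mem_image_of_mem _ h
  have hs2 := (mem_invol.1 hs).2.1
  have hnu : ∀ u : Equiv.Perm α, u * s * s = u := fun u => by rw [mul_assoc, hs2, mul_one]
  by_cases h0 : (com E s).card = 0
  · refine .inl ⟨h0, ?_⟩
    rw [hsum, card_eq_zero.1 h0, sum_empty]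
  by_cases h1 : (com E s).card = 1
  · obtain ⟨u, hu⟩ := card_eq_one.1 h1
    refine .inr (.inl ⟨h1, _, hmem (u := u) (by simp [hu]), ?_⟩)
    rw [hsum, hu, sum_singleton]
    exact S.aN_mul hq hE (mem_com.1 (show u ∈ com E s by simp [hu])).1 hs
  by_cases h2 : (com E s).card = 2
  · obtain ⟨u, v, huv, hJ⟩ := card_eq_two.1 h2
    have hu : u ∈ com E s := by simp [hJ]
    have hv : v ∈ com E s := by simp [hJ]
    refine .inr (.inr (.inl ⟨h2, _, hmem hu, _, hmem hv, ?_⟩))
    rw [hsum, hJ, sum_pair huv]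
    by_cases h : v = u * s
    · subst h
      rw [hnu]
      exact ⟨S.aN_mul hq hE (mem_com.1 hu).1 hs, add_comm _ _⟩
    · obtain ⟨e1, e2, e3, e4⟩ := S.multi hq hE hs hu hv huv.symm h
      rw [e2, e3, ← e1]
      exact ⟨e4, rfl⟩
  have h3 : 3 ≤ (com E s).card := by omega
  have hall : ∀ u ∈ com E s, aN G κ q (u * s) = aN G κ q u ∧ aN G κ q u * aN G κ q u = κ := fun u hu => by
    obtain ⟨v, hv⟩ := card_pos.1 (show 0 < (((com E s).erase u).erase (u * s)).card by
      have h5 := pred_card_le_card_erase (a := u * s) (s := (com E s).erase u)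
      rw [card_erase_of_mem hu] at h5
      omega)
    simp only [mem_erase] at hv
    obtain ⟨-, e2, -, e4⟩ := S.multi hq hE hs hu hv.2.2 hv.2.1 hv.1
    exact ⟨e2, e4⟩
  obtain ⟨u₀, hu₀⟩ := card_pos.1 (show 0 < (com E s).card by omega)
  set r := aN G κ q u₀
  have hr : ∀ u ∈ com E s, aN G κ q u = r := fun u hu =>
    Nat.mul_self_inj.1 ((hall u hu).2.trans (hall u₀ hu₀).2.symm)
  refine .inr (.inr (.inr ⟨h3, r, hmem hu₀, (hall u₀ hu₀).2.symm, ?_, ?_⟩))
  · rw [hsum, sum_congr rfl fun u hu => (hall u hu).1.trans (hr u hu), sum_const, smul_eq_mul]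
  -- pairwise trivially meeting centralisers
  let f : Equiv.Perm α → Finset (Equiv.Perm α) := fun u => (univ.filter fun x => x ∈ cenK (KK G κ q) u).erase 1
  have hfc : ∀ H : Subgroup (Equiv.Perm α), ((univ.filter fun x => x ∈ H).erase 1).card = Nat.card H - 1 := fun H => by
    rw [card_erase_of_mem (by simp [one_mem]), ← Nat.card_eq_finsetCard]
    exact congrArg (· - 1) (Nat.card_congr (Equiv.subtypeEquivRight fun x => by simp))
  have hd : (↑(com E s) : Set (Equiv.Perm α)).PairwiseDisjoint f := by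
    intro u hu v hv huv
    rw [Function.onFun, disjoint_left]
    intro x hx hx'
    simp only [f, mem_erase, mem_filter, mem_univ, true_and] at hx hx'
    obtain ⟨hc, hcs⟩ := S.com_prod hq hE hs hu hv
    refine hx.1 (S.disj hq hs hc hcs (fun e => huv ?_) hx.2 hx'.2)
    exact ((eq_inv_of_mul_eq_one_right e).trans
      (inv_eq_of_mul_eq_one_right (mem_inT.1 (hE.inT u (mem_com.1 hu).1)).2.1)).symm
  have hle : ((com E s).biUnion f).card ≤ κ - 1 := by
    refine (card_le_card (t := (univ.filter fun x => x ∈ KK G κ q).erase 1) fun x hx => ?_).trans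
      (by rw [hfc, S.card_KK hq])
    obtain ⟨u, -, hu⟩ := mem_biUnion.1 hx
    simp only [f, mem_erase, mem_filter, mem_univ, true_and] at hu ⊢
    exact ⟨hu.1, (mem_cenK.1 hu.2).1⟩
  rw [card_biUnion hd, sum_congr rfl fun u hu => ((hfc _).trans (congrArg (· - 1) (hr u hu))), sum_const,
    smul_eq_mul] at hle
  have := S.three_le hq
  omega

end E4

end CfsgLib.FourFrob
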