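import Cfsg.Agent.Lib.SharpTrans.Four
import Mathlib

/-!
Counting ordered quadruples with a prescribed behaviour under a permutation.
-/

set_option autoImplicit false
set_option linter.unusedSectionVars false

namespace CfsgLib.FourFrob

open Finset
open CfsgSharpTrans (D4 fixed mem_fixed)

universe u

variable {α : Type u} [Fintype α] [DecidableEq α]

/-- The set of the four entries. -/
def qset (x : α × α × α × α) : Finset α := {x.1, x.2.1, x.2.2.1, x.2.2.2}

/-- The image of a quadruple. -/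
def qmap (g : Equiv.Perm α) (x : α × α × α × α) : α × α × α × α := (g x.1, g x.2.1, g x.2.2.1, g x.2.2.2)

/-- Fixing the four entries. -/
def FixQ (u : Equiv.Perm α) (x : α × α × α × α) : Prop := ∀ z ∈ qset x, u z = z

/-- Exchanging in pairs. -/
def Sig (u : Equiv.Perm α) (x : α × α × α × α) : Prop := u x.1 = x.2.1 ∧ u x.2.2.1 = x.2.2.2

/-- Exchanging one pair. -/
def Tau (u : Equiv.Perm α) (x : α × α × α × α) : Prop :=
  u x.1 = x.2.1 ∧ u x.2.2.1 = x.2.2.1 ∧ u x.2.2.2 = x.2.2.2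

/-- Permuting three and fixing one. -/
def Cyc (u : Equiv.Perm α) (x : α × α × α × α) : Prop :=
  u x.1 = x.2.1 ∧ u x.2.1 = x.2.2.1 ∧ u x.2.2.1 = x.1 ∧ u x.2.2.2 = x.2.2.2

open Classical in
/-- The quadruples of distinct points of `F`. -/
noncomputable def tup (F : Finset α) : Finset (α × α × α × α) :=
  univ.filter fun x => D4 x.1 x.2.1 x.2.2.1 x.2.2.2 ∧ qset x ⊆ F

theorem mem_tup {F : Finset α} {a b c d : α} :
    (a, b, c, d) ∈ tup F ↔ D4 a b c d ∧ a ∈ F ∧ b ∈ F ∧ c ∈ F ∧ d ∈ F := by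
  classical
  rw [tup, mem_filter]
  simp [qset, insert_subset_iff]

theorem qset_card {F : Finset α} {x : α × α × α × α} (hx : x ∈ tup F) : (qset x).card = 4 := by
  obtain ⟨a, b, c, d⟩ := x
  obtain ⟨⟨h1, h2, h3, h4, h5, h6⟩, -⟩ := mem_tup.1 hx
  simp [qset, h1, h2, h3, h4, h5, h6]

theorem qset_qmap (g : Equiv.Perm α) (x : α × α × α × α) : qset (qmap g x) = (qset x).image g := by
  simp [qset, qmap, image_insert]

theorem qmap_eq {g : Equiv.Perm α} {x : α × α × α × α} (h : ∀ z ∈ qset x, g z = z) : qmap g x = x := by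
  simp only [qset, mem_insert, mem_singleton, forall_eq_or_imp, forall_eq] at h
  simp [qmap, h.1, h.2.1, h.2.2.1, h.2.2.2]

theorem sig_conj (g u : Equiv.Perm α) (x : α × α × α × α) : Sig (g * u * g⁻¹) (qmap g x) ↔ Sig u x := by
  simp [Sig, qmap]

theorem tau_conj (g u : Equiv.Perm α) (x : α × α × α × α) : Tau (g * u * g⁻¹) (qmap g x) ↔ Tau u x := by
  simp [Tau, qmap]

theorem cyc_conj (g u : Equiv.Perm α) (x : α × α × α × α) : Cyc (g * u * g⁻¹) (qmap g x) ↔ Cyc u x := by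
  simp [Cyc, qmap]

theorem tup_card (F : Finset α) : (tup F).card = F.card * (F.card - 1) * (F.card - 2) * (F.card - 3) := by
  classical
  have h : (univ : Finset (Fin 4 ↪ F)).card = (tup F).card := by
    refine card_bij (fun f _ => ((f 0 : α), (f 1 : α), (f 2 : α), (f 3 : α))) (fun f _ => ?_)
      (fun f _ g _ e => ?_) (fun x hx => ?_)
    · have hne : ∀ i j : Fin 4, i ≠ j → (f i : α) ≠ f j := fun i j h e => h (f.injective (Subtype.ext e))
      exact mem_tup.2 ⟨⟨hne 0 1 (by decide), hne 0 2 (by decide), hne 0 3 (by decide), hne 1 2 (by decide),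
        hne 1 3 (by decide), hne 2 3 (by decide)⟩, (f 0).2, (f 1).2, (f 2).2, (f 3).2⟩
    · simp only [Prod.mk.injEq] at e
      refine Function.Embedding.ext fun i => Subtype.ext ?_
      fin_cases i
      exacts [e.1, e.2.1, e.2.2.1, e.2.2.2]
    · obtain ⟨a, b, c, d⟩ := x
      obtain ⟨⟨h1, h2, h3, h4, h5, h6⟩, ha, hb, hc, hd⟩ := mem_tup.1 hx
      refine ⟨⟨![⟨a, ha⟩, ⟨b, hb⟩, ⟨c, hc⟩, ⟨d, hd⟩], fun i j e => ?_⟩, mem_univ _, rfl⟩
      fin_cases i <;> fin_cases j <;> simp_all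
  rw [← h, card_univ, Fintype.card_embedding_eq, Fintype.card_fin, Fintype.card_coe]
  simp only [Nat.descFactorial, Nat.sub_zero]
  ring

theorem sum_count {β γ : Type*} (U : Finset β) (X : Finset γ) (P : β → γ → Prop) [∀ b c, Decidable (P b c)] :
    ∑ u ∈ U, (X.filter (P u)).card = ∑ x ∈ X, (U.filter fun u => P u x).card := by
  simp only [card_filter]
  exact sum_comm

theorem even_moved {u : Equiv.Perm α} (hu : u * u = 1) {F : Finset α} (hF : ∀ z ∈ F, u z ∈ F) :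
    Even (F \ fixed u).card := by
  rw [← ZMod.natCast_eq_zero_iff_even, card_eq_sum_ones, Nat.cast_sum]
  refine sum_involution (fun a _ => u a) (fun a _ => by decide) (fun a ha _ e => (mem_sdiff.1 ha).2 (mem_fixed.2 e))
    (fun a ha => mem_sdiff.2 ⟨hF a (mem_sdiff.1 ha).1, fun h => (mem_sdiff.1 ha).2 ?_⟩)
    (fun a _ => by rw [← Equiv.Perm.mul_apply, hu]; rfl)
  rw [mem_fixed] at h ⊢
  exact u.injective h

theorem moved_card (u : Equiv.Perm α) (F : Finset α) :
    (F \ fixed u).card = F.card - (F ∩ fixed u).card := by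
  rw [← card_sdiff_of_subset (inter_subset_left (s₂ := fixed u)), sdiff_inter_self_left]

open Classical in
theorem fixQ_count (u : Equiv.Perm α) (F : Finset α) :
    (tup F).filter (FixQ u) = tup (F ∩ fixed u) := by
  ext ⟨a, b, c, d⟩
  simp only [mem_filter, mem_tup, FixQ, qset, mem_insert, mem_singleton, forall_eq_or_imp, forall_eq, mem_inter,
    mem_fixed]
  tauto

open Classical in
theorem sig_count {u : Equiv.Perm α} (hu : u * u = 1) {F : Finset α} (hF : ∀ z ∈ F, u z ∈ F) :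
    ((tup F).filter (Sig u)).card =
      (F.card - (F ∩ fixed u).card) * (F.card - (F ∩ fixed u).card - 2) := by
  have huu : ∀ z, u (u z) = z := fun z => by rw [← Equiv.Perm.mul_apply, hu]; rfl
  set Mv := F \ fixed u with hMv
  have hmv : ∀ {z}, z ∈ Mv ↔ z ∈ F ∧ u z ≠ z := fun {z} => by simp [hMv, mem_fixed]
  have h : ((tup F).filter (Sig u)).card = (Mv.sigma fun a => Mv \ {a, u a}).card := by
    refine card_nbij' (fun x => ⟨x.1, x.2.2.1⟩) (fun p => (p.1, u p.1, p.2, u p.2)) ?_ ?_ ?_ ?_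
    · rintro ⟨a, b, c, d⟩ hx
      obtain ⟨h, hb, hd⟩ : (a, b, c, d) ∈ tup F ∧ u a = b ∧ u c = d := by simpa [Sig] using hx
      obtain ⟨⟨h1, h2, h3, h4, h5, h6⟩, hA, -, hC, -⟩ := mem_tup.1 h
      subst hb hd
      exact mem_sigma.2 ⟨hmv.2 ⟨hA, h1.symm⟩, mem_sdiff.2 ⟨hmv.2 ⟨hC, h6.symm⟩, by simp [h2.symm, h4.symm]⟩⟩
    · rintro ⟨a, c⟩ hp
      obtain ⟨ha, hc⟩ := mem_sigma.1 hp
      obtain ⟨hc, hca⟩ := mem_sdiff.1 hc
      simp only [mem_insert, mem_singleton, not_or] at hca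
      obtain ⟨haF, hua⟩ := hmv.1 ha
      obtain ⟨hcF, huc⟩ := hmv.1 hc
      exact mem_filter.2 ⟨mem_tup.2 ⟨⟨hua.symm, Ne.symm hca.1,
        fun e => hca.2 (by rw [show a = u c from e, huu]), Ne.symm hca.2,
        fun e => hca.1 (u.injective e).symm, huc.symm⟩, haF, hF _ haF, hcF, hF _ hcF⟩, rfl, rfl⟩
    · rintro ⟨a, b, c, d⟩ hx
      obtain ⟨-, hb, hd⟩ : (a, b, c, d) ∈ tup F ∧ u a = b ∧ u c = d := by simpa [Sig] using hx
      subst hb hd
      rfl
    · intro p _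
      rfl
  rw [h, card_sigma, sum_congr rfl (g := fun _ => Mv.card - 2) fun a ha => ?_, sum_const, smul_eq_mul, hMv,
    moved_card]
  rw [card_sdiff_of_subset, card_pair (hmv.1 ha).2.symm]
  refine insert_subset ha (singleton_subset_iff.2 (hmv.2 ⟨hF _ (hmv.1 ha).1, fun e => (hmv.1 ha).2 (u.injective e)⟩))

open Classical in
theorem tau_count {u : Equiv.Perm α} (hu : u * u = 1) {F : Finset α} (hF : ∀ z ∈ F, u z ∈ F) :
    ((tup F).filter (Tau u)).card =
      (F.card - (F ∩ fixed u).card) * ((F ∩ fixed u).card * ((F ∩ fixed u).card - 1)) := by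
  have h : ((tup F).filter (Tau u)).card = ((F \ fixed u) ×ˢ (F ∩ fixed u).offDiag).card := by
    refine card_nbij' (fun x => (x.1, x.2.2.1, x.2.2.2)) (fun p => (p.1, u p.1, p.2.1, p.2.2)) ?_ ?_ ?_ ?_
    · rintro ⟨a, b, c, d⟩ hx
      obtain ⟨h, hb, hc, hd⟩ : (a, b, c, d) ∈ tup F ∧ u a = b ∧ u c = c ∧ u d = d := by simpa [Tau] using hx
      obtain ⟨⟨h1, h2, h3, h4, h5, h6⟩, hA, -, hC, hD⟩ := mem_tup.1 h
      subst hb
      simp [mem_fixed, hA, hC, hD, hc, hd, h6, Ne.symm h1]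
    · rintro ⟨a, c, d⟩ hp
      obtain ⟨⟨haF, hua⟩, ⟨hcF, huc⟩, ⟨hdF, hud⟩, hcd⟩ :
          (a ∈ F ∧ u a ≠ a) ∧ (c ∈ F ∧ u c = c) ∧ (d ∈ F ∧ u d = d) ∧ c ≠ d := by
        simpa [mem_fixed, and_assoc] using hp
      have hne : ∀ x y : α, u x ≠ x → u y = y → x ≠ y := fun x y h h' e => h (e ▸ h')
      have hua' : u (u a) ≠ u a := fun e => hua (u.injective e)
      exact mem_filter.2 ⟨mem_tup.2 ⟨⟨hua.symm, hne _ _ hua huc, hne _ _ hua hud, hne _ _ hua' huc,
        hne _ _ hua' hud, hcd⟩, haF, hF _ haF, hcF, hdF⟩, rfl, huc, hud⟩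
    · rintro ⟨a, b, c, d⟩ hx
      obtain ⟨-, hb, -⟩ : (a, b, c, d) ∈ tup F ∧ u a = b ∧ u c = c ∧ u d = d := by simpa [Tau] using hx
      subst hb
      rfl
    · intro p _
      rfl
  rw [h, card_product, moved_card, offDiag_card, Nat.mul_sub_one]

open Classical in
theorem cyc_count {u : Equiv.Perm α} (hu : u ^ 3 = 1) :
    ((tup (univ : Finset α)).filter (Cyc u)).card = (Fintype.card α - (fixed u).card) * (fixed u).card := by
  have h3 : ∀ z, u (u (u z)) = z := fun z => by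
    rw [← Equiv.Perm.mul_apply, ← Equiv.Perm.mul_apply, ← pow_three', hu]; rfl
  have h : ((tup (univ : Finset α)).filter (Cyc u)).card = ((univ \ fixed u) ×ˢ fixed u).card := by
    refine card_nbij' (fun x => (x.1, x.2.2.2)) (fun p => (p.1, u p.1, u (u p.1), p.2)) ?_ ?_ ?_ ?_
    · rintro ⟨a, b, c, d⟩ hx
      obtain ⟨h, hb, -, -, hd⟩ : (a, b, c, d) ∈ tup univ ∧ u a = b ∧ u b = c ∧ u c = a ∧ u d = d := by
        simpa [Cyc] using hx
      subst hb
      simp [mem_fixed, hd, (mem_tup.1 h).1.1.symm]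
    · rintro ⟨a, d⟩ hp
      obtain ⟨hua, hud⟩ : u a ≠ a ∧ u d = d := by simpa [mem_fixed] using hp
      have hu1 : u (u a) ≠ u a := fun e => hua (u.injective e)
      have hu2 : u (u a) ≠ a := fun e => hua ((h3 a).symm.trans (congrArg u e)).symm
      have hne : ∀ x y : α, u x ≠ x → u y = y → x ≠ y := fun x y h h' e => h (e ▸ h')
      exact mem_filter.2 ⟨mem_tup.2 ⟨⟨hua.symm, hu2.symm, hne _ _ hua hud, hu1.symm, hne _ _ hu1 hud,
        hne _ _ (fun e => hu1 (u.injective e)) hud⟩, mem_univ _, mem_univ _, mem_univ _, mem_univ _⟩,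
        rfl, rfl, h3 a, hud⟩
    · rintro ⟨a, b, c, d⟩ hx
      obtain ⟨-, hb, hc, -⟩ : (a, b, c, d) ∈ tup univ ∧ u a = b ∧ u b = c ∧ u c = a ∧ u d = d := by
        simpa [Cyc] using hx
      subst hb hc
      rfl
    · intro p _
      rfl
  rw [h, card_product, card_sdiff_of_subset (subset_univ _), card_univ]

end CfsgLib.FourFrob
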