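import Cfsg.Agent.Lib.FourFrob.Degree23
import Cfsg.Agent.Lib.FourFrob.EvenPairs
import Cfsg.Agent.Lib.FourFrob.EvenTuples
import Cfsg.Agent.S0711

/-!
Four-fold transitive groups whose four-point stabilisers are Frobenius groups with complements of even order:
the symmetric group of degree seven.
-/

set_option autoImplicit false
set_option linter.unusedSectionVars false
set_option linter.style.haveILetI false

namespace CfsgLib.FourFrob

open Finset
open CfsgSharpTrans (D4 fixed mem_fixed fixed_conj)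

universe u

variable {α : Type u} [Fintype α] [DecidableEq α] {G : Subgroup (Equiv.Perm α)}

theorem fixed_conj_inter {h v : Equiv.Perm α} {F : Finset α} (hF : F.image h = F) :
    (F ∩ fixed (h * v * h⁻¹)).card = (F ∩ fixed v).card := by
  rw [fixed_conj]
  conv_lhs => rw [← hF]
  rw [← image_inter _ _ h.injective, card_image_of_injective _ h.injective]

theorem trans4_move (hT : Trans4 G) {F F' : Finset α} {x y : α × α × α × α} (hx : x ∈ tup F) (hy : y ∈ tup F') :
    ∃ g ∈ G, qmap g x = y := by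
  obtain ⟨a, b, c, d⟩ := x
  obtain ⟨a', b', c', d'⟩ := y
  obtain ⟨g, hg, e1, e2, e3, e4⟩ := hT a b c d a' b' c' d' (mem_tup.1 hx).1 (mem_tup.1 hy).1
  exact ⟨g, hg, by simp [qmap, e1, e2, e3, e4]⟩

theorem qmap_congr {g h : Equiv.Perm α} {x : α × α × α × α} (e : ∀ z ∈ qset x, g z = h z) :
    qmap g x = qmap h x := by
  simp only [qset, mem_insert, mem_singleton, forall_eq_or_imp, forall_eq] at e
  simp [qmap, e.1, e.2.1, e.2.2.1, e.2.2.2]

theorem qmap_inv (g : Equiv.Perm α) (x : α × α × α × α) : qmap g⁻¹ (qmap g x) = x := by simp [qmap]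

open Classical in
theorem filter_card_conj {U : Finset (Equiv.Perm α)} (g : Equiv.Perm α) (hU : ∀ v ∈ U, g * v * g⁻¹ ∈ U)
    (hU' : ∀ v ∈ U, g⁻¹ * v * g ∈ U) {P : Equiv.Perm α → α × α × α × α → Prop}
    {x : α × α × α × α} (hP : ∀ v ∈ U, P (g * v * g⁻¹) (qmap g x) ↔ P v x) :
    (U.filter fun v => P v (qmap g x)).card = (U.filter fun v => P v x).card := by
  refine card_nbij' (fun v => g⁻¹ * v * g) (fun v => g * v * g⁻¹) (fun v hv => ?_) (fun v hv => ?_)
    (fun v _ => by group) (fun v _ => by group)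
  · obtain ⟨hvU, hvP⟩ := mem_filter.1 hv
    refine mem_filter.2 ⟨hU' v hvU, (hP _ (hU' v hvU)).1 ?_⟩
    rwa [show g * (g⁻¹ * v * g) * g⁻¹ = v by group]
  · obtain ⟨hvU, hvP⟩ := mem_filter.1 hv
    exact mem_filter.2 ⟨hU v hvU, (hP v hvU).2 hvP⟩

open Classical in
/-- Equivariant conditions are met equally often on all quadruples. -/
theorem filter_card_const (hT : Trans4 G) {U : Finset (Equiv.Perm α)}
    (hU : ∀ g ∈ G, ∀ v ∈ U, g * v * g⁻¹ ∈ U) {P : Equiv.Perm α → α × α × α × α → Prop}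
    (hP : ∀ g v x, P (g * v * g⁻¹) (qmap g x) ↔ P v x) {F : Finset α} {x₀ : α × α × α × α} (hx₀ : x₀ ∈ tup F)
    {x : α × α × α × α} (hx : x ∈ tup (univ : Finset α)) :
    (U.filter fun v => P v x).card = (U.filter fun v => P v x₀).card := by
  obtain ⟨g, hg, rfl⟩ := trans4_move hT hx₀ hx
  exact filter_card_conj g (hU g hg) (fun v hv => by simpa using hU g⁻¹ (inv_mem hg) v hv) fun v _ => hP g v x₀

/-- The coset of a double transposition. -/
theorem coset_sig {F : Finset α} {x : α × α × α × α} (hx : x ∈ tup F) {E : Finset (Equiv.Perm α)}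
    (hE : ∀ {v}, v ∈ E ↔ v ∈ inT G ∧ Sig v x) : Coset G (qset x) E := by
  obtain ⟨a, b, c, d⟩ := x
  have hinv : ∀ v ∈ E, v a = b ∧ v b = a ∧ v c = d ∧ v d = c := fun v hv => by
    obtain ⟨hvT, h1, h2⟩ := hE.1 hv
    have hv2 : ∀ z, v (v z) = z := fun z => by rw [← Equiv.Perm.mul_apply, (mem_inT.1 hvT).2.1]; rfl
    refine ⟨h1, ?_, h2, ?_⟩
    · rw [← show v a = b from h1, hv2]
    · rw [← show v c = d from h2, hv2]
  refine ⟨fun v hv => (hE.1 hv).1, fun v hv => ?_, fun v hv w hw => ?_, fun v hv k hk => ?_⟩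
  · obtain ⟨h1, h2, h3, h4⟩ := hinv v hv
    ext z
    simp [qset, image_insert, h1, h2, h3, h4]
    tauto
  · obtain ⟨h1, h2, h3, h4⟩ := hinv v hv
    obtain ⟨k1, k2, k3, k4⟩ := hinv w hw
    refine ⟨mul_mem (mem_inT.1 (hE.1 hv).1).1 (mem_inT.1 (hE.1 hw).1).1, fun z hz => ?_⟩
    simp only [qset, mem_insert, mem_singleton] at hz
    rcases hz with rfl | rfl | rfl | rfl <;> simp [*]
  · refine hE.2 ⟨mem_inT_conj hk.1 (hE.1 hv).1, ?_⟩
    have h := (sig_conj k v (a, b, c, d)).2 (hE.1 hv).2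
    rwa [qmap_eq hk.2] at h

/-- The coset of a transposition. -/
theorem coset_tau {F : Finset α} {x : α × α × α × α} (hx : x ∈ tup F) {E : Finset (Equiv.Perm α)}
    (hE : ∀ {v}, v ∈ E ↔ v ∈ inT G ∧ Tau v x) : Coset G (qset x) E := by
  obtain ⟨a, b, c, d⟩ := x
  have hinv : ∀ v ∈ E, v a = b ∧ v b = a ∧ v c = c ∧ v d = d := fun v hv => by
    obtain ⟨hvT, h1, h2, h3⟩ := hE.1 hv
    have hv2 : ∀ z, v (v z) = z := fun z => by rw [← Equiv.Perm.mul_apply, (mem_inT.1 hvT).2.1]; rfl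
    exact ⟨h1, by rw [← show v a = b from h1, hv2], h2, h3⟩
  refine ⟨fun v hv => (hE.1 hv).1, fun v hv => ?_, fun v hv w hw => ?_, fun v hv k hk => ?_⟩
  · obtain ⟨h1, h2, h3, h4⟩ := hinv v hv
    ext z
    simp [qset, image_insert, h1, h2, h3, h4]
    tauto
  · obtain ⟨h1, h2, h3, h4⟩ := hinv v hv
    obtain ⟨k1, k2, k3, k4⟩ := hinv w hw
    refine ⟨mul_mem (mem_inT.1 (hE.1 hv).1).1 (mem_inT.1 (hE.1 hw).1).1, fun z hz => ?_⟩
    simp only [qset, mem_insert, mem_singleton] at hz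
    rcases hz with rfl | rfl | rfl | rfl <;> simp [*]
  · refine hE.2 ⟨mem_inT_conj hk.1 (hE.1 hv).1, ?_⟩
    have h := (tau_conj k v (a, b, c, d)).2 (hE.1 hv).2
    rwa [qmap_eq hk.2] at h

namespace E4

variable {m κ : ℕ} (S : E4 G m κ)
include S

open Classical in
/-- Some exchange centralising `s` determines the kernel action of all double transpositions centralising it. -/
theorem one_val {F : Finset α} {x : α × α × α × α} (hx : x ∈ tup F) {s : Equiv.Perm α}
    (hs : s ∈ invol G (qset x)) {u' : Equiv.Perm α} (hu' : u' ∈ inT G) (hu's : Commute u' s) (hu'x : Tau u' x)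
    (ha : aN G κ (qset x) u' = 1 ∨ aN G κ (qset x) u' = κ) {v : Equiv.Perm α} (hv : v ∈ inT G)
    (hvs : Commute v s) (hvx : Sig v x) : aN G κ (qset x) v = 1 ∨ aN G κ (qset x) v = κ := by
  obtain ⟨a, b, c, d⟩ := x
  set q := qset (a, b, c, d)
  have hq : q.card = 4 := qset_card hx
  have hswap : (c, d, a, b) ∈ tup F := by
    obtain ⟨⟨h1, h2, h3, h4, h5, h6⟩, hA, hB, hC, hD⟩ := mem_tup.1 hx
    exact mem_tup.2 ⟨⟨h6, h2.symm, h4.symm, h3.symm, h5.symm, h1⟩, hC, hD, hA, hB⟩
  obtain ⟨g, hg, hgx⟩ := trans4_move S.trans hx hswap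
  have hgq : q.image g = q := by
    rw [← qset_qmap, hgx]
    ext z
    simp [q, qset]
    tauto
  obtain ⟨h, hh, hhs, hhx⟩ := S.exists_move hq hg hgq hs hs
  have hhq : q.image h = q := (image_congr fun z hz => hhx z hz).trans hgq
  set u'' := h * u' * h⁻¹ with hu''
  have hu''x : Tau u'' (c, d, a, b) := by
    rw [← hgx, ← qmap_congr (x := (a, b, c, d)) hhx, hu'', tau_conj]
    exact hu'x
  have hu''s : Commute u'' s := hhs ▸ hu's.map (MulAut.conj h)
  have ha'' : aN G κ q u'' = aN G κ q u' := by conv_lhs => rw [← hhq, hu'', aN_conj κ hh]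
  have hu''T : u'' ∈ inT G := mem_inT_conj hh hu'
  have hcoset : Coset G q ((inT G).filter fun w => Tau w (a, b, c, d)) := coset_tau hx (by simp)
  have hu''2 : ∀ z, u'' (u'' z) = z := fun z => by rw [← Equiv.Perm.mul_apply, (mem_inT.1 hu''T).2.1]; rfl
  have hu'2 : ∀ z, u' (u' z) = z := fun z => by rw [← Equiv.Perm.mul_apply, (mem_inT.1 hu').2.1]; rfl
  have hv2 : ∀ z, v (v z) = z := fun z => by rw [← Equiv.Perm.mul_apply, (mem_inT.1 hv).2.1]; rfl
  obtain ⟨t1, t2, t3⟩ := hu'x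
  obtain ⟨r1, r2, r3⟩ := hu''x
  obtain ⟨s1, s2⟩ := hvx
  dsimp only at t1 t2 t3 r1 r2 r3 s1 s2
  have t1' : u' b = a := by rw [← t1, hu'2]
  have r1' : u'' d = c := by rw [← r1, hu''2]
  have s1' : v b = a := by rw [← s1, hv2]
  have s2' : v d = c := by rw [← s2, hv2]
  -- the element of the stabiliser
  set w := v * (u'' * u') with hw
  have hwH : w ∈ fixG G q := by
    refine ⟨mul_mem (mem_inT.1 hv).1 (mul_mem (mem_inT.1 hu''T).1 (mem_inT.1 hu').1), fun z hz => ?_⟩
    simp only [q, qset, mem_insert, mem_singleton] at hz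
    simp only [w, Equiv.Perm.mul_apply]
    rcases hz with e | e | e | e <;> rw [e]
    · rw [t1, r3, s1']
    · rw [t1', r2, s1]
    · rw [t2, r1, s2']
    · rw [t3, r1', s2]
  have hws : Commute w s := hvs.mul_left (hu''s.mul_left hu's)
  -- both exchanges act alike on the kernel
  have I := S.inverted hq hs
  have hfull : ∀ z : Equiv.Perm α, aN G κ q z = κ → ∀ k ∈ KK G κ q, k ∈ cenK (KK G κ q) z := fun z hz k hk => by
    have e := Subgroup.eq_of_le_of_card_ge (show cenK (KK G κ q) z ≤ KK G κ q from inf_le_left)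
      (by rw [S.card_KK hq]; exact hz.ge)
    rw [e]
    exact hk
  have hact : ∀ k ∈ KK G κ q, Commute k (u'' * u') := by
    have hu'q : u' ∈ (inT G).filter fun w => Tau w (a, b, c, d) := mem_filter.2 ⟨hu', t1, t2, t3⟩
    have hcoset' : Coset G q ((inT G).filter fun w => Tau w (c, d, a, b)) := by
      have h := coset_tau (G := G) hswap (E := (inT G).filter fun w => Tau w (c, d, a, b)) (by simp)
      have e : qset (c, d, a, b) = q := by ext z; simp [q, qset]; tauto
      rwa [e] at h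
    have hu''q : u'' ∈ (inT G).filter fun w => Tau w (c, d, a, b) := mem_filter.2 ⟨hu''T, r1, r2, r3⟩
    have hui : u''⁻¹ = u'' := inv_eq_of_mul_eq_one_right (mem_inT.1 hu''T).2.1
    rcases ha with ha | ha
    · -- both invert the kernel
      have h1 : aN G κ q (u' * s) = κ := by have := S.aN_mul hq hcoset hu'q hs; rwa [ha, one_mul] at this
      have h2 : aN G κ q (u'' * s) = κ := by
        have := S.aN_mul hq hcoset' hu''q hs; rwa [ha'', ha, one_mul] at this
      intro k hk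
      have e1 := (I.mem_cen_mul (mem_inT.1 hu').2.1 hk).1 (hfull _ h1 k hk)
      have e2 := (I.mem_cen_mul (mem_inT.1 hu''T).2.1 (inv_mem hk)).1 (hfull _ h2 _ (inv_mem hk))
      rw [inv_inv, ← e1] at e2
      show k * (u'' * u') = u'' * u' * k
      calc k * (u'' * u') = u'' * (u' * k * u') * u'' * (u'' * u') := by rw [e2]
        _ = u'' * u' * k * (u' * (u'' * u'') * u') := by group
        _ = u'' * u' * k := by rw [(mem_inT.1 hu''T).2.1, mul_one, (mem_inT.1 hu').2.1, mul_one]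
    · intro k hk
      exact (show Commute k u'' from (mem_cenK.1 (hfull _ (ha''.trans ha) k hk)).2).mul_right
        (mem_cenK.1 (hfull _ ha k hk)).2
  by_cases hw1 : w = 1
  · right
    have hv' : v = (u'' * u')⁻¹ := eq_inv_of_mul_eq_one_left hw1
    refine le_antisymm (Nat.le_of_dvd (by have := S.three_le hq; omega) (S.aN_dvd hq v)) ?_
    refine le_of_eq_of_le (S.card_KK hq).symm ?_
    exact Subgroup.card_le_of_le fun k hk => mem_cenK.2 ⟨hk, (hv' ▸ (hact k hk).inv_right).eq⟩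
  · left
    refine Subgroup.card_eq_one.2 ((Subgroup.eq_bot_iff_forall _).2 fun k hk => ?_)
    obtain ⟨hkK, hkv⟩ := mem_cenK.1 hk
    exact S.fpf hq hs hwH hws hw1 hkK ((show Commute k v from hkv).mul_right (hact k hkK))

omit S in
theorem mul_ne {a b c d : ℕ} (h1 : a ≠ 0) (h2 : b ≠ 0) (h3 : c ≠ 0) (h4 : d ≠ 0) : a * b * c * d ≠ 0 := by
  positivity

/-- The numerical conditions hold. -/
theorem exists_num (hn : 4 ≤ Fintype.card α) :
    ∃ l M j e j' e' : ℕ, ∃ V V' : Finset ℕ, Fintype.card α = l + 2 * M ∧ Num l M κ j e j' e' V V' := by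
  classical
  obtain ⟨x₀, hx₀⟩ : (tup (univ : Finset α)).Nonempty := by
    rw [← card_pos, tup_card, card_univ]
    exact Nat.pos_of_ne_zero (mul_ne (by omega) (by omega) (by omega) (by omega))
  set q := qset x₀
  have hq : q.card = 4 := qset_card hx₀
  obtain ⟨s, hs⟩ := S.exists_invol hq
  have hsT := mem_inT_of_invol hq hs
  set F := fixed s
  set l := F.card with hl
  have hl4 : 4 ≤ l := (mem_inT.1 hsT).2.2.2
  have hfx : ∀ v ∈ inT G, (univ ∩ fixed v).card = l := fun v hv => by rw [univ_inter]; exact S.fix_card_eq hv hsT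
  have hmv := even_moved (mem_inT.1 hsT).2.1 (F := univ) fun _ _ => mem_univ _
  rw [moved_card, hfx s hsT, card_univ] at hmv
  obtain ⟨M, hM⟩ := hmv
  have hlt : l < Fintype.card α := by
    refine (card_lt_card ((ssubset_univ_iff).2 fun e => (mem_inT.1 hsT).2.2.1 (Equiv.ext fun z => ?_))).trans_eq card_univ
    exact mem_fixed.1 (e ▸ mem_univ z : z ∈ F)
  have hnl : Fintype.card α = l + 2 * M := by omega
  set n := Fintype.card α with hndef
  set N4 := n * (n - 1) * (n - 2) * (n - 3)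
  set E := (inT G).filter (fun v => Sig v x₀) with hEdef
  set E' := (inT G).filter (fun v => Tau v x₀) with hE'def
  have hCE : Coset G q E := coset_sig hx₀ (by simp [E])
  have hCE' : Coset G q E' := coset_tau hx₀ (by simp [E'])
  have hTconj : ∀ g ∈ G, ∀ v ∈ inT G, g * v * g⁻¹ ∈ inT G := fun g hg v hv => mem_inT_conj hg hv
  -- the three global counts
  have hglob : ∀ (P : Equiv.Perm α → α × α × α × α → Prop) (c : ℕ), (∀ g v x, P (g * v * g⁻¹) (qmap g x) ↔ P v x) →
      (∀ v ∈ inT G, ((tup (univ : Finset α)).filter (P v)).card = c) →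
      (inT G).card * c = N4 * ((inT G).filter fun v => P v x₀).card := by
    intro P c hP hc
    have h := sum_count (inT G) (tup (univ : Finset α)) P
    rw [sum_congr rfl hc, sum_congr rfl fun x hx => filter_card_const S.trans hTconj hP hx₀ hx] at h
    simpa [tup_card, N4] using h
  have hfix : (inT G).card * (l * (l - 1) * (l - 2) * (l - 3)) = N4 * κ := by
    have e : ((inT G).filter fun v => FixQ v x₀) = invol G q := by
      ext v
      rw [mem_filter]
      exact ⟨fun h => invol_of_mem_inT h.1 fun z hz => mem_fixed.2 (h.2 z hz),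
        fun h => ⟨mem_inT_of_invol hq h, (mem_invol.1 h).1.2⟩⟩
    rw [← S.card_invol hq, ← e]
    refine hglob FixQ _ (fun g v x => ?_) fun v hv => ?_
    · simp [FixQ, qset_qmap]
    · rw [fixQ_count, tup_card, hfx v hv]
  have hinv2 : ∀ v ∈ inT G, v * v = 1 := fun v hv => (mem_inT.1 hv).2.1
  have hsig : (inT G).card * ((2 * M) * (2 * M - 2)) = N4 * E.card := hglob Sig _ sig_conj fun v hv => by
    rw [sig_count (hinv2 v hv) fun _ _ => mem_univ _, hfx v hv, card_univ, ← hndef,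
      show n - l = 2 * M by omega]
  have htau : (inT G).card * (2 * M * (l * (l - 1))) = N4 * E'.card := hglob Tau _ tau_conj fun v hv => by
    rw [tau_count (hinv2 v hv) fun _ _ => mem_univ _, hfx v hv, card_univ, ← hndef,
      show n - l = 2 * M by omega]
  have hN4 : 0 < N4 := Nat.pos_of_ne_zero (mul_ne (by omega) (by omega) (by omega) (by omega))
  -- the counts inside the fixed points of `s`
  set C := com (inT G) s
  have hCF : ∀ v ∈ C, ∀ z ∈ F, v z ∈ F := fun v hv z hz => by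
    rw [mem_fixed] at hz ⊢
    rw [← Equiv.Perm.mul_apply, ← (mem_com.1 hv).2.eq, Equiv.Perm.mul_apply, hz]
  have hx₀F : x₀ ∈ tup F := by
    obtain ⟨a, b, c, d⟩ := x₀
    have h : ∀ z ∈ qset (a, b, c, d), z ∈ F := fun z hz => mem_fixed.2 ((mem_invol.1 hs).1.2 z hz)
    exact mem_tup.2 ⟨(mem_tup.1 hx₀).1, h _ (by simp [qset]), h _ (by simp [qset]), h _ (by simp [qset]),
      h _ (by simp [qset])⟩
  have hloc : ∀ (P : Equiv.Perm α → α × α × α × α → Prop) (f₀ : ℕ),
      (∀ g v x, P (g * v * g⁻¹) (qmap g x) ↔ P v x) →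
      ∑ v ∈ C.filter (fun v => (F ∩ fixed v).card = f₀), ((tup F).filter (P v)).card =
        (tup F).card * ((C.filter fun v => (F ∩ fixed v).card = f₀).filter fun v => P v x₀).card := by
    intro P f₀ hP
    rw [sum_count, ← smul_eq_mul, ← sum_const]
    refine sum_congr rfl fun x hx => ?_
    obtain ⟨g, hg, rfl⟩ := trans4_move S.trans hx₀F hx
    have hgs : s ∈ invol G (qset (qmap g x₀)) := by
      refine invol_of_mem_inT hsT fun z hz => ?_
      have hsub : ∀ y ∈ tup F, qset y ⊆ F := fun y hy => (mem_filter.1 hy).2.2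
      exact hsub _ hx hz
    obtain ⟨h, hh, hhs, hhx⟩ := S.exists_move hq hg (qset_qmap g x₀).symm hs hgs
    rw [← qmap_congr hhx]
    have hF : F.image h = F := by
      show (fixed s).image h = fixed s
      rw [← fixed_conj, hhs]
    have hmem : ∀ k ∈ G, k * s * k⁻¹ = s → F.image k = F →
        ∀ v ∈ C.filter (fun v => (F ∩ fixed v).card = f₀), k * v * k⁻¹ ∈ C.filter (fun v => (F ∩ fixed v).card = f₀) := by
      intro k hk hks hkF v hv
      obtain ⟨hvC, hvf⟩ := mem_filter.1 hv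
      obtain ⟨hvT, hvs⟩ := mem_com.1 hvC
      refine mem_filter.2 ⟨mem_com.2 ⟨mem_inT_conj hk hvT, ?_⟩, by rw [fixed_conj_inter hkF, hvf]⟩
      have := hvs.map (MulAut.conj k)
      rwa [MulAut.conj_apply, MulAut.conj_apply, hks] at this
    have hhs' : h⁻¹ * s * (h⁻¹)⁻¹ = s := by
      calc h⁻¹ * s * (h⁻¹)⁻¹ = h⁻¹ * (h * s * h⁻¹) * (h⁻¹)⁻¹ := by rw [hhs]
        _ = s := by group
    have hF' : F.image ⇑h⁻¹ = F := by
      show (fixed s).image ⇑h⁻¹ = fixed s
      rw [← fixed_conj, hhs']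
    exact filter_card_conj h (hmem h hh hhs hF)
      (fun v hv => by simpa using hmem h⁻¹ (inv_mem hh) hhs' hF' v hv) fun v _ => hP h v x₀
  have hsmall : ∀ v ∈ C, v ≠ s → (F ∩ fixed v).card ≤ 3 ∧ Even (l - (F ∩ fixed v).card) := fun v hv hvs => by
    refine ⟨S.common hsT (mem_com.1 hv).1 hvs (mem_com.1 hv).2, ?_⟩
    have := even_moved (hinv2 v (mem_com.1 hv).1) (hCF v hv)
    rwa [moved_card] at this
  have hss : (F ∩ fixed s).card = l := by show (F ∩ F).card = l; rw [inter_self]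
  -- involutions centralising `s` with few common fixed points
  have hpairs : ∀ f₀ : ℕ, f₀ ≤ 3 → f₀ < l → Even (l - f₀) → 2 ≤ f₀ →
      ∃ i ≤ (com E s).card, f₀ * (f₀ - 1) * i = (l - f₀ - 2) * (com E' s).card := by
    intro f₀ hf3 hfl hfe hf2
    refine ⟨((C.filter fun v => (F ∩ fixed v).card = f₀).filter fun v => Sig v x₀).card,
      card_le_card fun v hv => ?_, ?_⟩
    · obtain ⟨hvC, hvx⟩ := mem_filter.1 hv
      obtain ⟨hvT, hvs⟩ := mem_com.1 (mem_filter.1 hvC).1
      exact mem_com.2 ⟨mem_filter.2 ⟨hvT, hvx⟩, hvs⟩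
    have h1 := hloc Sig f₀ sig_conj
    have h2 := hloc Tau f₀ tau_conj
    have hJ' : ((C.filter fun v => (F ∩ fixed v).card = f₀).filter fun v => Tau v x₀) = com E' s := by
      ext v
      simp only [mem_filter, mem_com, E', C]
      refine ⟨fun h => ⟨⟨h.1.1.1, h.2⟩, h.1.1.2⟩, fun h => ⟨⟨⟨h.1.1, h.2⟩, ?_⟩, h.1.2⟩⟩
      obtain ⟨⟨hvT, hvx⟩, hvs⟩ := h
      have hvC : v ∈ C := mem_com.2 ⟨hvT, hvs⟩
      have hne : ((tup F).filter (Tau v)).card ≠ 0 := card_ne_zero_of_mem (mem_filter.2 ⟨hx₀F, hvx⟩)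
      rw [tau_count (hinv2 v hvT) (hCF v hvC), ← hl] at hne
      simp only [ne_eq, mul_eq_zero, not_or] at hne
      have hvs' : v ≠ s := fun e => hne.1 (by rw [e, hss, Nat.sub_self])
      obtain ⟨h3, he⟩ := hsmall v hvC hvs'
      obtain ⟨i, hi⟩ := he
      obtain ⟨i', hi'⟩ := hfe
      omega
    rw [hJ', sum_congr rfl fun v hv => by
      rw [tau_count (hinv2 v (mem_com.1 (mem_filter.1 hv).1).1) (hCF v (mem_filter.1 hv).1),
        (mem_filter.1 hv).2, ← hl], sum_const, smul_eq_mul, tup_card] at h2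
    rw [sum_congr rfl fun v hv => by
      rw [sig_count (hinv2 v (mem_com.1 (mem_filter.1 hv).1).1) (hCF v (mem_filter.1 hv).1),
        (mem_filter.1 hv).2, ← hl], sum_const, smul_eq_mul, tup_card] at h1
    rw [← hl] at h1 h2
    refine Nat.eq_of_mul_eq_mul_left (show 0 < l * (l - 1) * (l - 2) * (l - 3) from
      Nat.pos_of_ne_zero (mul_ne (by omega) (by omega) (by omega) (by omega))) ?_
    generalize (((C.filter fun v => (F ∩ fixed v).card = f₀).filter fun v => Sig v x₀)).card = i at h1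
    generalize (com E' s).card = j' at h2
    generalize (C.filter fun v => (F ∩ fixed v).card = f₀).card = N at h1 h2
    calc l * (l - 1) * (l - 2) * (l - 3) * (f₀ * (f₀ - 1) * i)
        = f₀ * (f₀ - 1) * (l * (l - 1) * (l - 2) * (l - 3) * i) := by ring
      _ = (l - f₀ - 2) * (N * ((l - f₀) * (f₀ * (f₀ - 1)))) := by rw [← h1]; ring
      _ = l * (l - 1) * (l - 2) * (l - 3) * ((l - f₀ - 2) * j') := by rw [h2]; ring
  refine ⟨l, M, (com E s).card, E.card, (com E' s).card, E'.card, (com E s).image (aN G κ q),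
    (com E' s).image (aN G κ q), hnl, ⟨hl4, by omega, S.three_le hq, S.kodd hq, fun a ha => ?_, ?_, ?_,
    S.shape hq hCE hs, S.shape hq hCE' hs, fun h a ha => ?_, fun he => ?_, fun ho => ?_⟩⟩
  · rw [← image_union] at ha
    obtain ⟨v, hv, rfl⟩ := mem_image.1 ha
    have hvT : v ∈ inT G := by
      rcases mem_union.1 hv with h | h
      · exact hCE.inT v (mem_com.1 h).1
      · exact hCE'.inT v (mem_com.1 h).1
    refine ⟨S.aN_dvd hq v, ?_⟩
    have := S.cen_le hq hvT
    rwa [S.fix_card_eq hvT hsT] at this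
  · refine Nat.eq_of_mul_eq_mul_left hN4 ?_
    calc N4 * (l * (l - 1) * (l - 2) * (l - 3) * E.card) = l * (l - 1) * (l - 2) * (l - 3) * (N4 * E.card) := by
          ring
      _ = (inT G).card * (l * (l - 1) * (l - 2) * (l - 3)) * (2 * M * (2 * M - 2)) := by rw [← hsig]; ring
      _ = _ := by rw [hfix]; ring
  · refine Nat.eq_of_mul_eq_mul_left (Nat.mul_pos hN4 (Nat.mul_pos (show 0 < l by omega) (show 0 < l - 1 by omega))) ?_
    calc N4 * (l * (l - 1)) * ((l - 2) * (l - 3) * E'.card) = l * (l - 1) * (l - 2) * (l - 3) * (N4 * E'.card) := by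
          ring
      _ = (inT G).card * (l * (l - 1) * (l - 2) * (l - 3)) * (2 * M * (l * (l - 1))) := by rw [← htau]; ring
      _ = _ := by rw [hfix]; ring
  · obtain ⟨v, hv, rfl⟩ := mem_image.1 ha
    obtain ⟨hvE, hvs⟩ := mem_com.1 hv
    obtain ⟨hvT, hvx⟩ := mem_filter.1 hvE
    obtain ⟨u', hu', ha'⟩ : ∃ u' ∈ com E' s, aN G κ q u' = 1 ∨ aN G κ q u' = κ := by
      rcases h with h | h <;> obtain ⟨u', hu', e⟩ := mem_image.1 h
      · exact ⟨u', hu', .inl e⟩
      · exact ⟨u', hu', .inr e⟩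
    obtain ⟨hu'E, hu's⟩ := mem_com.1 hu'
    exact S.one_val hx₀ hs (mem_filter.1 hu'E).1 hu's (mem_filter.1 hu'E).2 ha' hvT hvs hvx
  · obtain ⟨i, hi, e⟩ := hpairs 2 (by norm_num) (by omega)
      (Nat.even_iff.2 (by have := Nat.even_iff.1 he; omega)) le_rfl
    rw [show l - 2 - 2 = l - 4 by omega] at e
    exact ⟨i, hi, e⟩
  · obtain ⟨i, hi, e⟩ := hpairs 3 le_rfl (by omega)
      (Nat.even_iff.2 (by have := Nat.odd_iff.1 ho; omega)) (by norm_num)
    rw [show l - 3 - 2 = l - 5 by omega] at e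
    exact ⟨i, hi, e⟩

/-- Kernels of order three: the degree eighteen is impossible. -/
theorem not_eighteen (hn : Fintype.card α = 18) (hκ : κ = 3) : False := by
  classical
  subst hκ
  haveI := Fact.mk Nat.prime_three
  obtain ⟨x₀, hx₀⟩ : (tup (univ : Finset α)).Nonempty := by
    rw [← card_pos, tup_card, card_univ, hn]; norm_num
  set Y := (univ : Finset (Equiv.Perm α)).filter
    (fun y => y ∈ G ∧ y ^ 3 = 1 ∧ y ≠ 1 ∧ 4 ≤ (fixed y).card) with hYdef
  have hY : ∀ {y}, y ∈ Y ↔ y ∈ G ∧ y ^ 3 = 1 ∧ y ≠ 1 ∧ 4 ≤ (fixed y).card := fun {y} => by simp [Y]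
  have hYq : ∀ q : Finset α, q.card = 4 →
      (Y.filter fun y => ∀ z ∈ q, y z = z) = (univ.filter fun y => y ∈ KK G 3 q).erase 1 := fun q hq => by
    ext y
    simp only [mem_filter, hY, mem_erase, mem_univ, true_and, S.mem_KK hq, mem_fixG]
    refine ⟨fun h => ⟨h.1.2.2.1, ⟨h.1.1, h.2⟩, h.1.2.1⟩, fun h => ⟨⟨h.2.1.1, h.2.2, h.1, ?_⟩, h.2.1.2⟩⟩
    exact hq ▸ card_le_card fun z hz => mem_fixed.2 (h.2.1.2 z hz)
  have hY2 : ∀ q : Finset α, q.card = 4 → (Y.filter fun y => ∀ z ∈ q, y z = z).card = 2 := fun q hq => by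
    rw [hYq q hq, card_erase_of_mem (by simp [one_mem]), ← Nat.card_eq_finsetCard,
      Nat.card_congr (Equiv.subtypeEquivRight fun y =>
        (show y ∈ (univ.filter fun y => y ∈ KK G 3 q) ↔ y ∈ KK G 3 q by simp)),
      S.card_KK hq]
  obtain ⟨y₀, hy₀⟩ := card_pos.1 (show 0 < (Y.filter fun y => ∀ z ∈ qset x₀, y z = z).card by
    rw [hY2 _ (qset_card hx₀)]; norm_num)
  have hy₀Y := (mem_filter.1 hy₀).1
  have hfix : ∀ y ∈ Y, (fixed y).card = (fixed y₀).card := fun y hy => by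
    obtain ⟨q, hqy, hq⟩ := exists_subset_card_eq (hY.1 hy).2.2.2
    obtain ⟨g, hg, hgq⟩ := S.trans.exists_image (qset_card hx₀) hq
    obtain ⟨hy₀G, hy₀3, hy₀1, hy₀4⟩ := hY.1 hy₀Y
    have hmem : g * y₀ * g⁻¹ ∈ Y.filter fun y => ∀ z ∈ q, y z = z := by
      refine mem_filter.2 ⟨hY.2 ⟨mul_mem (mul_mem hg hy₀G) (inv_mem hg),
        by rw [conj_pow, hy₀3, mul_one, mul_inv_cancel], conj_ne_one hy₀1, ?_⟩, fun z hz => ?_⟩
      · rwa [fixed_conj, card_image_of_injective _ g.injective]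
      · obtain ⟨w, hw, rfl⟩ := mem_image.1 (hgq ▸ hz)
        rw [CfsgSharpTrans.conj_at g y₀ rfl, (mem_filter.1 hy₀).2 w hw]
    obtain ⟨hyG, hy3, hy1, hy4⟩ := hY.1 hy
    have hinvfix : fixed y⁻¹ = fixed y := by
      ext z; rw [mem_fixed, mem_fixed, Equiv.Perm.inv_def, Equiv.symm_apply_eq, eq_comm]
    have hpair : (Y.filter fun y => ∀ z ∈ q, y z = z) = {y, y⁻¹} := by
      have hne : y ≠ y⁻¹ := fun e => hy1 (by
        have h2 : y * y = 1 := by nth_rw 2 [e]; exact mul_inv_cancel y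
        rw [pow_three', h2, one_mul] at hy3; exact hy3)
      refine (eq_of_subset_of_card_le ?_ (by rw [hY2 q hq, card_pair hne])).symm
      refine insert_subset (mem_filter.2 ⟨hy, fun z hz => mem_fixed.1 (hqy hz)⟩)
        (singleton_subset_iff.2 (mem_filter.2 ⟨hY.2 ⟨inv_mem hyG, by rw [inv_pow, hy3, inv_one],
          inv_ne_one.2 hy1, by rw [hinvfix]; exact hy4⟩, fun z hz => mem_fixed.1 (hinvfix.symm ▸ hqy hz)⟩))
    rw [hpair, mem_insert, mem_singleton] at hmem
    rcases hmem with e | e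
    · rw [← e, fixed_conj, card_image_of_injective _ g.injective]
    · rw [← hinvfix, ← e, fixed_conj, card_image_of_injective _ g.injective]
  set f := (fixed y₀).card with hf
  obtain ⟨hy₀G, hy₀3, hy₀1, hy₀4⟩ := hY.1 hy₀Y
  have hmod : ∃ t, 18 = f + 3 * (t + 1) := by
    have ho : orderOf y₀ = 3 := orderOf_eq_prime hy₀3 hy₀1
    obtain ⟨t, ht⟩ := Equiv.Perm.cycleType_prime_order (σ := y₀) (by rw [ho]; exact Nat.prime_three)
    refine ⟨t, ?_⟩
    have h1 := Equiv.Perm.sum_cycleType y₀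
    rw [ht, ho, Multiset.sum_replicate, smul_eq_mul] at h1
    have h2 : (fixed y₀).card + y₀.support.card = 18 := by
      rw [← hn, ← card_univ, ← card_union_of_disjoint ?_]
      · congr 1; ext z; simp [mem_fixed, em]
      · rw [disjoint_left]; intro z hz hz'; exact Equiv.Perm.mem_support.1 hz' (mem_fixed.1 hz)
    omega
  have hcount : ∀ (P : Equiv.Perm α → α × α × α × α → Prop) (c : ℕ), (∀ g v x, P (g * v * g⁻¹) (qmap g x) ↔ P v x) →
      (∀ v ∈ Y, ((tup (univ : Finset α)).filter (P v)).card = c) →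
      Y.card * c = 73440 * (Y.filter fun v => P v x₀).card := by
    intro P c hP hc
    have hYc : ∀ g ∈ G, ∀ v ∈ Y, g * v * g⁻¹ ∈ Y := fun g hg v hv => by
      obtain ⟨h1, h2, h3, h4⟩ := hY.1 hv
      exact hY.2 ⟨mul_mem (mul_mem hg h1) (inv_mem hg), by rw [conj_pow, h2, mul_one, mul_inv_cancel],
        conj_ne_one h3, by rwa [fixed_conj, card_image_of_injective _ g.injective]⟩
    have h := sum_count Y (tup (univ : Finset α)) P
    rw [sum_congr rfl hc, sum_congr rfl fun x hx => filter_card_const S.trans hYc hP hx₀ hx] at h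
    simpa [tup_card, hn] using h
  have h1 := hcount FixQ (f * (f - 1) * (f - 2) * (f - 3)) (fun g v x => by simp [FixQ, qset_qmap]) fun v hv => by
    rw [fixQ_count, univ_inter, tup_card, hfix v hv]
  have h2 := hcount Cyc ((18 - f) * f) cyc_conj fun v hv => by rw [cyc_count (hY.1 hv).2.1, hn, hfix v hv]
  rw [show (Y.filter fun v => FixQ v x₀) = Y.filter (fun y => ∀ z ∈ qset x₀, y z = z) from
    filter_congr fun _ _ => Iff.rfl, hY2 _ (qset_card hx₀)] at h1
  generalize (Y.filter fun v => Cyc v x₀).card = e at h2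
  obtain ⟨t, ht⟩ := hmod
  have ht3 : t ≤ 3 := by omega
  have hf' : f = 18 - 3 * (t + 1) := by omega
  rw [hf'] at h1 h2
  interval_cases t <;> norm_num at h1 h2 <;> omega

/-- The symmetric group of degree seven. -/
theorem seven (hn : 4 ≤ Fintype.card α) : Fintype.card α = 7 ∧ G = ⊤ := by
  classical
  obtain ⟨l, M, j, e, j', e', V, V', hnl, N⟩ := S.exists_num hn
  obtain ⟨q, -, hq⟩ := exists_subset_card_eq (show 4 ≤ (univ : Finset α).card by rwa [card_univ])
  have hG := S.trans.card hq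
  rw [S.card q hq] at hG
  have hκ := S.three_le hq
  have hm : 2 ≤ m := by
    obtain ⟨C, hC, hCm⟩ := S.compl q hq
    have h1 := hC.card_ne_one
    rw [hCm] at h1
    obtain ⟨i, hi⟩ := S.even
    have : 0 < m := hCm ▸ Nat.card_pos
    omega
  have h6 : 6 ≤ κ * m := Nat.mul_le_mul hκ hm
  have hperm : Nat.card (Equiv.Perm α) = (Fintype.card α).factorial := by
    rw [Nat.card_eq_fintype_card, Fintype.card_perm]
  have hdvd : Nat.card G ∣ (Fintype.card α).factorial := hperm ▸ G.card_subgroup_dvd_card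
  rcases (show M = 1 ∨ 2 ≤ M by have := N.hM; omega) with hM | hM
  · rcases N.one_pair hM with hl | hl
    · exfalso
      rw [hnl, hl, hM] at hG hdvd
      rw [show (4 + 2 * 1 : ℕ).descFactorial 4 = 360 by decide] at hG
      rw [show Nat.factorial (4 + 2 * 1) = 720 by decide] at hdvd
      have := Nat.le_of_dvd (by norm_num) hdvd
      omega
    · have hn7 : Fintype.card α = 7 := by omega
      rw [hn7] at hG hdvd hperm
      rw [show (7 : ℕ).descFactorial 4 = 840 by decide] at hG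
      rw [show Nat.factorial 7 = 5040 by decide] at hdvd hperm
      have := Nat.le_of_dvd (by norm_num) hdvd
      exact ⟨hn7, Subgroup.eq_top_of_card_eq G (by omega)⟩
  exfalso
  rcases N.cases_left hM with ⟨hl, hM3, hk⟩ | ⟨hl, hM6, hk⟩
  swap
  · exact S.not_eighteen (by omega) hk
  have hn11 : Fintype.card α = 11 := by omega
  rw [hn11] at hG hdvd hperm
  rw [show (11 : ℕ).descFactorial 4 = 7920 by decide] at hG
  rw [show Nat.factorial 11 = 39916800 by decide] at hdvd hperm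
  rcases hk with hk | hk
  swap
  · rw [hG, hk] at hdvd
    have h25 : 7920 * 25 ∣ 39916800 := (dvd_mul_right _ m).trans (by rwa [mul_assoc])
    norm_num at h25
  -- an element of order five with small support
  haveI := Fact.mk (show Nat.Prime 5 by norm_num)
  obtain ⟨⟨y, hy⟩, hyo⟩ := exists_prime_orderOf_dvd_card' (G := KK G κ q) 5 (by rw [S.card_KK hq, hk])
  rw [Subgroup.orderOf_mk] at hyo
  have hy1 : y ≠ 1 := fun h => by rw [h, orderOf_one] at hyo; norm_num at hyo
  have hsupp : y.support.card < 2 * 4 - 2 := by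
    obtain ⟨t, ht⟩ := Equiv.Perm.cycleType_prime_order (σ := y) (by rw [hyo]; norm_num)
    have h1 := Equiv.Perm.sum_cycleType y
    rw [ht, hyo, Multiset.sum_replicate, smul_eq_mul] at h1
    have h2 : y.support ⊆ univ \ q := fun z hz => mem_sdiff.2 ⟨mem_univ _, fun h =>
      Equiv.Perm.mem_support.1 hz ((S.KK_le hq hy).2 z h)⟩
    have h3 := card_le_card h2
    rw [card_sdiff_of_subset (subset_univ _), card_univ, hn11, hq] at h3
    omega
  have hpre : MulAction.IsMultiplyPretransitive G α 4 := by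
    refine ⟨fun x z => ?_⟩
    have d4 : ∀ w : Fin 4 ↪ α, D4 (w 0) (w 1) (w 2) (w 3) := fun w => by
      refine ⟨?_, ?_, ?_, ?_, ?_, ?_⟩ <;> exact fun e => absurd (w.injective e) (by decide)
    obtain ⟨g, hg, e0, e1, e2, e3⟩ := S.trans _ _ _ _ _ _ _ _ (d4 x) (d4 z)
    refine ⟨⟨g, hg⟩, Function.Embedding.ext fun i => ?_⟩
    fin_cases i <;> assumption
  obtain ⟨-, halt⟩ := Cfsg.Agent.S0711.result G (k := 4) (by norm_num) (by omega) hpre y (S.KK_le hq hy).1 hy1 hsupp
  have h := Nat.le_of_dvd Nat.card_pos (Subgroup.card_dvd_of_le halt)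
  haveI : Nontrivial α := Fintype.one_lt_card_iff_nontrivial.1 (by omega)
  have h2 := two_mul_nat_card_alternatingGroup (α := α)
  rw [hperm] at h2
  have hml := S.m_lt hq
  rw [hk] at hG hml
  omega

end E4

end CfsgLib.FourFrob
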