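import Cfsg.Agent.Lib.Frobenius.More
import Cfsg.Agent.Lib.Coprime
import Cfsg.Agent.Lib.TransferApps

/-!
Group-theoretic tools: Frobenius complements inside a subgroup, a criterion for a normal two-subgroup,
Burnside complements for cyclic Sylow subgroups.
-/

set_option autoImplicit false
set_option linter.unusedSectionVars false

namespace CfsgLib.FourFrob

open Subgroup
open scoped Pointwise

universe u

variable {Γ : Type u} [Group Γ] [Finite Γ]

/-- Transport of Frobenius complements. -/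
theorem frob_map_equiv {A B : Type u} [Group A] [Group B] {C : Subgroup A} (hC : Cfsg.IsFrobeniusComplement C)
    (e : A ≃* B) : Cfsg.IsFrobeniusComplement (C.map e.toMonoidHom) := by
  refine ⟨fun hb => hC.1 ((Subgroup.map_eq_bot_iff_of_injective _ e.injective).1 hb), fun ht => hC.2.1 ?_,
    fun g hg => ?_⟩
  · rw [eq_top_iff]
    intro x _
    have hx : e x ∈ C.map e.toMonoidHom := ht.symm ▸ Subgroup.mem_top (e x)
    obtain ⟨y, hy, hyx⟩ := hx
    exact e.injective hyx ▸ hy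
  · obtain ⟨g, rfl⟩ := e.surjective g
    rw [Subgroup.eq_bot_iff_forall]
    intro x hx
    obtain ⟨hxC, hgx⟩ := Subgroup.mem_inf.1 hx
    obtain ⟨x, hxC', rfl⟩ := hxC
    rw [CfsgLib.mem_conj_smul_iff] at hgx
    obtain ⟨y, hy, hyx⟩ := hgx
    have hyg : y = g⁻¹ * x * g := e.injective (by
      rw [map_mul, map_mul, map_inv]; exact hyx)
    have hgC : g ∉ C := fun hgC => hg ⟨g, hgC, rfl⟩
    have hxy : x ∈ MulAut.conj g • C := CfsgLib.mem_conj_smul_iff.2 (hyg ▸ hy)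
    have h1 := Subgroup.mem_inf.2 ⟨(hxC' : x ∈ C), hxy⟩
    rw [hC.2.2 g hgC, Subgroup.mem_bot] at h1
    rw [h1]; exact map_one e.toMonoidHom

/-- `C` is a Frobenius complement of the subgroup `H`. -/
def IsCompl (H C : Subgroup Γ) : Prop := C ≤ H ∧ Cfsg.IsFrobeniusComplement (C.subgroupOf H)

theorem coprime_of_pow_eq_one {g : Γ} {p i m : ℕ} (hp : p.Prime) (hg : g ^ p ^ i = 1) (hm : ¬ p ∣ m) :
    (orderOf g).Coprime m := by
  obtain ⟨j, -, hj⟩ := (Nat.dvd_prime_pow hp).1 (orderOf_dvd_of_pow_eq_one hg)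
  rw [hj]
  exact ((hp.coprime_iff_not_dvd).2 hm).pow_left j

theorem eq_one_of_coprime_pow {g : Γ} {a b : ℕ} (ha : g ^ a = 1) (hb : g ^ b = 1) (h : a.Coprime b) : g = 1 := by
  rw [← orderOf_eq_one_iff]
  exact Nat.dvd_one.1 (h ▸ Nat.dvd_gcd (orderOf_dvd_of_pow_eq_one ha) (orderOf_dvd_of_pow_eq_one hb))

theorem eq_one_of_mem_coprime {g : Γ} {A B : Subgroup Γ} (ha : g ∈ A) (hb : g ∈ B)
    (h : (Nat.card A).Coprime (Nat.card B)) : g = 1 :=
  Subgroup.disjoint_def.1 (Subgroup.disjoint_of_coprime_natCard h) ha hb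

theorem mem_complement_of_coprime {G : Type u} [Group G] [Finite G] {K H : Subgroup G} [K.Normal]
    (hc : IsComplement' K H) {g : G} (hg : (orderOf g).Coprime (Nat.card H)) : g ∈ K := by
  rw [← QuotientGroup.eq_one_iff, ← orderOf_eq_one_iff]
  refine Nat.dvd_one.1 (hg ▸ Nat.dvd_gcd (orderOf_map_dvd (QuotientGroup.mk' K) g) ?_)
  rw [← hc.symm.index_eq_card, Subgroup.index_eq_card]
  exact orderOf_dvd_natCard _

theorem exists_prime_order {A : Subgroup Γ} (hA : A ≠ ⊥) :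
    ∃ c ∈ A, ∃ r : ℕ, r.Prime ∧ orderOf c = r := by
  haveI := (Subgroup.nontrivial_iff_ne_bot A).2 hA
  obtain ⟨r, hr, hd⟩ := Nat.exists_prime_and_dvd (Finite.one_lt_card (α := A)).ne'
  haveI := Fact.mk hr
  obtain ⟨⟨c, hc⟩, ho⟩ := exists_prime_orderOf_dvd_card' (G := A) r hd
  exact ⟨c, hc, r, hr, by rw [← ho, Subgroup.orderOf_mk]⟩

namespace IsCompl

variable {H C : Subgroup Γ} (h : IsCompl H C)
include h

theorem le : C ≤ H := h.1

theorem ne_bot : C ≠ ⊥ := fun e => h.2.1 (by rw [e, Subgroup.bot_subgroupOf])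

theorem card_ne_one : Nat.card C ≠ 1 := fun e => h.ne_bot (Subgroup.card_eq_one.1 e)

theorem card_subgroupOf : Nat.card (C.subgroupOf H) = Nat.card C :=
  Nat.card_congr (Subgroup.subgroupOfEquivOfLe h.le).toEquiv

/-- Trivial intersections. -/
theorem ti {c g : Γ} (hc : c ∈ C) (hc1 : c ≠ 1) (hg : g ∈ H) (hgc : g * c * g⁻¹ ∈ C) : g ∈ C := by
  by_contra hgC
  exact hc1 (congrArg Subtype.val (CfsgLib.Frob.frob_ti h.2 (g := (⟨g, hg⟩ : H)) (s := ⟨c, h.le hc⟩)
    (fun e => hgC e) hc hgc))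

theorem cen {c g : Γ} (hc : c ∈ C) (hc1 : c ≠ 1) (hg : g ∈ H) (hgc : Commute g c) : g ∈ C :=
  h.ti hc hc1 hg (by rw [hgc.eq, mul_inv_cancel_right]; exact hc)

theorem le_conj {L : Subgroup Γ} (hL : L ≤ H) (hd : Nat.card L ∣ Nat.card C) :
    ∃ x ∈ H, ∀ l ∈ L, x⁻¹ * l * x ∈ C := by
  obtain ⟨x, hx⟩ := CfsgLib.Frob.le_conj_of_card_dvd h.2 (L.subgroupOf H)
    (by rwa [h.card_subgroupOf, Nat.card_congr (Subgroup.subgroupOfEquivOfLe hL).toEquiv])
  refine ⟨x, x.2, fun l hl => ?_⟩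
  have h1 := @hx ⟨l, hL hl⟩ hl
  rw [CfsgLib.mem_conj_smul_iff] at h1
  exact h1

/-- The kernel. -/
theorem kernel : ∃ K : Subgroup Γ, K ≤ H ∧ (∀ g ∈ H, ∀ k ∈ K, g * k * g⁻¹ ∈ K) ∧ Group.IsNilpotent K ∧
    (Nat.card K).Coprime (Nat.card C) ∧ (∀ g ∈ H, (orderOf g).Coprime (Nat.card C) → g ∈ K) ∧ K ≠ ⊥ := by
  obtain ⟨N, -, hN, hc, hnil⟩ := CfsgLib.Frob.exists_nilpotent_kernel h.2
  haveI := hN
  haveI := hnil
  refine ⟨N.map H.subtype, Subgroup.map_subtype_le _, ?_,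
    Group.nilpotent_of_mulEquiv (N.equivMapOfInjective _ H.subtype_injective), ?_, fun g hg hcop => ?_, ?_⟩
  · rintro g hg _ ⟨k, hk, rfl⟩
    exact ⟨_, hN.conj_mem k hk ⟨g, hg⟩, rfl⟩
  · rw [Subgroup.card_map_of_injective H.subtype_injective, ← h.card_subgroupOf, ← hc.index_eq_card]
    exact (CfsgLib.Frob.coprime_index h.2).symm
  · exact ⟨⟨g, hg⟩, mem_complement_of_coprime hc (by rwa [Subgroup.orderOf_mk, h.card_subgroupOf]), rfl⟩
  · rw [Ne, Subgroup.map_eq_bot_iff_of_injective _ H.subtype_injective]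
    exact CfsgLib.Frob.kernel_ne_bot h.2 hc

/-- Elements of coprime orders, prime to the complement, commute. -/
theorem commute {g k : Γ} (hg : g ∈ H) (hk : k ∈ H) (hgC : (orderOf g).Coprime (Nat.card C))
    (hkC : (orderOf k).Coprime (Nat.card C)) (hgk : (orderOf g).Coprime (orderOf k)) : Commute g k := by
  obtain ⟨K, -, -, hnil, -, hmem, -⟩ := h.kernel
  haveI := hnil
  exact congrArg Subtype.val (CfsgLib.Frob.commute_of_nilpotent_coprime
    (a := (⟨g, hmem g hg hgC⟩ : K)) (b := ⟨k, hmem k hk hkC⟩)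
    (by rwa [Subgroup.orderOf_mk, Subgroup.orderOf_mk]))

/-- An abelian normal subgroup on which the complement acts freely. -/
theorem exists_fpf : ∃ V : Subgroup Γ, ∃ _ : IsMulCommutative V, V ≠ ⊥ ∧ C ≤ Subgroup.normalizer (V : Set Γ) ∧
    ∀ x ∈ C, x ≠ 1 → V ⊓ Subgroup.centralizer {x} = ⊥ := by
  obtain ⟨K, hKH, hnorm, hnil, hcop, -, hne⟩ := h.kernel
  haveI := hnil
  haveI := (Subgroup.nontrivial_iff_ne_bot K).2 hne
  refine ⟨(Subgroup.center K).map K.subtype, inferInstance, ?_, ?_, fun x hx hx1 => ?_⟩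
  · rw [Ne, Subgroup.map_eq_bot_iff_of_injective _ K.subtype_injective]
    exact Group.IsNilpotent.center_ne_bot (G := K)
  · have hCK : C ≤ Subgroup.normalizer (K : Set Γ) := fun g hg => Subgroup.mem_normalizer_iff.2 fun k =>
      ⟨hnorm g (h.le hg) k, fun hk => by simpa [mul_assoc] using hnorm g⁻¹ (inv_mem (h.le hg)) _ hk⟩
    exact (CfsgLib.le_normalizer_map_characteristic hCK (Subgroup.center K)).1
  · rw [Subgroup.eq_bot_iff_forall]
    rintro v ⟨hv, hvx⟩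
    have hvK : v ∈ K := Subgroup.map_subtype_le _ hv
    exact eq_one_of_mem_coprime hvK (h.cen hx hx1 (hKH hvK) (Subgroup.mem_centralizer_singleton_iff.1 hvx)) hcop

theorem cyclic {r : ℕ} [Fact r.Prime] (hr : r ≠ 2) {R : Subgroup Γ} (hRC : R ≤ C) (hR : IsPGroup r R) :
    IsCyclic R := by
  obtain ⟨V, hV, hne, hN, hfpf⟩ := h.exists_fpf
  exact CfsgLib.Frob.isCyclic_of_uniq_odd hr hR
    (CfsgLib.Frob.uniqSub_of_fpf hne (hRC.trans hN) (fun x hx => hfpf x (hRC hx)) hR)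

/-- Subgroups of the same prime order inside a subgroup of the complement are conjugate there. -/
theorem prime_conj {A : Subgroup Γ} (hAC : A ≤ C) {r : ℕ} [hr : Fact r.Prime] {c c' : Γ} (hc : c ∈ A)
    (hc' : c' ∈ A) (ho : orderOf c = r) (ho' : orderOf c' = r) :
    ∃ a ∈ A, c' ∈ Subgroup.zpowers (a * c * a⁻¹) := by
  obtain ⟨V, hV, hne, hN, hfpf⟩ := h.exists_fpf
  obtain ⟨P, hP⟩ := (IsPGroup.of_card (n := 1) (by rw [Nat.card_zpowers, Subgroup.orderOf_mk, ho, pow_one]) :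
    IsPGroup r (Subgroup.zpowers (⟨c, hc⟩ : A))).exists_le_sylow
  obtain ⟨Q, hQ⟩ := (IsPGroup.of_card (n := 1) (by rw [Nat.card_zpowers, Subgroup.orderOf_mk, ho', pow_one]) :
    IsPGroup r (Subgroup.zpowers (⟨c', hc'⟩ : A))).exists_le_sylow
  obtain ⟨a, ha⟩ := MulAction.exists_smul_eq A P Q
  set S := (Q : Subgroup A).map A.subtype
  have hSC : S ≤ C := (Subgroup.map_subtype_le _).trans hAC
  have hu := CfsgLib.Frob.uniqSub_of_fpf hne (hSC.trans hN) (fun x hx => hfpf x (hSC hx))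
    (Q.isPGroup'.map A.subtype)
  have h1 : (a : Γ) * c * (a : Γ)⁻¹ ∈ S := by
    refine ⟨a * ⟨c, hc⟩ * a⁻¹, ?_, rfl⟩
    rw [← ha, Sylow.coe_subgroup_smul]
    exact ⟨⟨c, hc⟩, hP (Subgroup.mem_zpowers _), rfl⟩
  have h2 : c' ∈ S := ⟨⟨c', hc'⟩, hQ (Subgroup.mem_zpowers _), rfl⟩
  have e := hu (Subgroup.zpowers ⟨_, h1⟩) (Subgroup.zpowers ⟨_, h2⟩)
    (by
      rw [Nat.card_zpowers, Subgroup.orderOf_mk, show (a : Γ) * c * (a : Γ)⁻¹ = MulAut.conj (a : Γ) c from rfl,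
        MulEquiv.orderOf_eq, ho])
    (by rw [Nat.card_zpowers, Subgroup.orderOf_mk, ho'])
  obtain ⟨i, hi⟩ := Subgroup.mem_zpowers_iff.1 (e ▸ Subgroup.mem_zpowers (⟨c', h2⟩ : S))
  exact ⟨a, a.2, Subgroup.mem_zpowers_iff.2 ⟨i, by simpa using congrArg Subtype.val hi⟩⟩

/-- A nontrivial subgroup of odd order of the complement has a central element of prime order. -/
theorem exists_central {A : Subgroup Γ} (hAC : A ≤ C) (hA : A ≠ ⊥) (hodd : Odd (Nat.card A)) :
    ∃ z ∈ A, ∃ r : ℕ, r.Prime ∧ orderOf z = r ∧ ∀ a ∈ A, Commute a z := by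
  obtain ⟨V, hV, hne, hN, hfpf⟩ := h.exists_fpf
  have hZ := CfsgLib.Frob.center_ne_bot_of_odd hne (hAC.trans hN) (fun x hx => hfpf x (hAC hx)) hodd hA
  obtain ⟨z, hz, r, hr, ho⟩ := exists_prime_order hZ
  exact ⟨z, z.2, r, hr, by rw [Subgroup.orderOf_coe, ho],
    fun a ha => congrArg Subtype.val (Subgroup.mem_center_iff.1 hz ⟨a, ha⟩)⟩

/-- Complements survive in images not killing the kernel. -/
theorem map {Δ : Type u} [Group Δ] [Finite Δ] (f : H →* Δ)
    (hf : ∃ g : H, (orderOf g).Coprime (Nat.card C) ∧ f g ≠ 1) :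
    IsCompl f.range ((C.subgroupOf H).map f) ∧ Nat.card ((C.subgroupOf H).map f) = Nat.card C := by
  obtain ⟨N, hN, hNn, hc, -⟩ := CfsgLib.Frob.exists_nilpotent_kernel h.2
  haveI := hNn
  have hKN : ¬ N ≤ f.ker := fun hle => by
    obtain ⟨g, hg, hg1⟩ := hf
    exact hg1 (hle (mem_complement_of_coprime hc (by rwa [h.card_subgroupOf])))
  have hle := (CfsgLib.Frob.normal_le_or_ge_kernel h.2 hc f.ker).resolve_left hKN
  obtain ⟨hF, -⟩ := CfsgLib.Frob.frob_quotient h.2 hc f.ker hKN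
  have hinj : Set.InjOn f (C.subgroupOf H : Set H) := fun x hx y hy e => by
    have hk : x * y⁻¹ ∈ f.ker := by rw [MonoidHom.mem_ker, map_mul, map_inv, e, mul_inv_cancel]
    exact mul_inv_eq_one.1 (Subgroup.disjoint_def.1 hc.disjoint (hle hk)
      ((C.subgroupOf H).mul_mem hx ((C.subgroupOf H).inv_mem hy)))
  refine ⟨⟨Subgroup.map_le_range _ _, ?_⟩, ?_⟩
  · have e : ((C.subgroupOf H).map f).subgroupOf f.range =
        ((C.subgroupOf H).map (QuotientGroup.mk' f.ker)).map (QuotientGroup.quotientKerEquivRange f).toMonoidHom := by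
      rw [Subgroup.map_map]
      ext x
      simp only [Subgroup.mem_subgroupOf, Subgroup.mem_map, MonoidHom.coe_comp, Function.comp_apply,
        MulEquiv.coe_toMonoidHom, QuotientGroup.mk'_apply]
      exact ⟨fun ⟨y, hy, hyx⟩ => ⟨y, hy, Subtype.ext hyx⟩, fun ⟨y, hy, hyx⟩ => ⟨y, hy, congrArg Subtype.val hyx⟩⟩
    rw [e]
    exact frob_map_equiv hF (QuotientGroup.quotientKerEquivRange f)
  · rw [← h.card_subgroupOf]
    exact (Nat.card_congr (Equiv.Set.imageOfInjOn f _ hinj)).symm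

end IsCompl

/-- An automorphism of coprime order of a cyclic group of prime power order fixing a non-trivial element. -/
theorem commute_of_cyclic {r : ℕ} [hr : Fact r.Prime] {R : Subgroup Γ} [IsCyclic R] (hR : IsPGroup r R)
    {g c : Γ} (hg : g ∈ Subgroup.normalizer (R : Set Γ)) (hgo : (orderOf g).Coprime r) (hc : c ∈ R)
    (hco : orderOf c = r) (hgc : Commute g c) {x : Γ} (hx : x ∈ R) : Commute g x := by
  obtain ⟨⟨u, hu⟩, hgen⟩ := IsCyclic.exists_generator (α := R)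
  suffices hgu : Commute g u by
    obtain ⟨i, hi⟩ := Subgroup.mem_zpowers_iff.1 (hgen ⟨x, hx⟩)
    rw [← show u ^ i = x from congrArg Subtype.val hi]
    exact hgu.zpow_right i
  obtain ⟨m, hm⟩ := Subgroup.mem_zpowers_iff.1 (hgen ⟨_, (Subgroup.mem_normalizer_iff.1 hg u).1 hu⟩)
  have hm' : g * u * g⁻¹ = u ^ m := (congrArg Subtype.val hm).symm
  obtain ⟨a, ha⟩ := hR ⟨u, hu⟩
  have ha : u ^ r ^ a = 1 := congrArg Subtype.val ha
  -- modulo `r`, the exponent is one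
  obtain ⟨k, hk⟩ := Subgroup.mem_zpowers_iff.1 (hgen ⟨c, hc⟩)
  have hk' : u ^ k = c := congrArg Subtype.val hk
  have hmr : (r : ℤ) ∣ m - 1 := by
    have h1 : c ^ (m - 1) = 1 := by
      rw [zpow_sub, zpow_one, mul_inv_eq_one, ← hk', ← zpow_mul, mul_comm, zpow_mul, ← hm', conj_zpow, hk',
        hgc.eq, mul_inv_cancel_right]
    rw [← hco]
    exact orderOf_dvd_iff_zpow_eq_one.2 h1
  -- iterate
  have hit : ∀ j : ℕ, g ^ j * u * (g ^ j)⁻¹ = u ^ (m ^ j) := fun j => by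
    induction j with
    | zero => simp
    | succ j ih => rw [pow_succ' g, mul_inv_rev, mul_assoc (g * g ^ j), mul_assoc g, ← mul_assoc u,
        ← mul_assoc (g ^ j), ← mul_assoc (g ^ j), ih, ← mul_assoc, ← conj_zpow, hm', ← zpow_mul, pow_succ']
  have hord : (orderOf u : ℤ) ∣ m ^ orderOf g - 1 := orderOf_dvd_iff_zpow_eq_one.2 (by
    rw [zpow_sub, zpow_one, ← hit, pow_orderOf_eq_one]; simp)
  rw [← geom_sum_mul] at hord
  have hcop : IsCoprime (orderOf u : ℤ) (∑ i ∈ Finset.range (orderOf g), m ^ i) := by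
    obtain ⟨b, -, hb⟩ := (Nat.dvd_prime_pow hr.out).1 (orderOf_dvd_of_pow_eq_one ha)
    rw [hb, Nat.cast_pow]
    refine IsCoprime.pow_left ((Nat.prime_iff_prime_int.1 hr.out).coprime_iff_not_dvd.2 fun hd => ?_)
    have hs : (r : ℤ) ∣ (∑ i ∈ Finset.range (orderOf g), m ^ i) - orderOf g := by
      rw [show ((orderOf g : ℕ) : ℤ) = ∑ _i ∈ Finset.range (orderOf g), (1 : ℤ) by simp, ← Finset.sum_sub_distrib]
      exact Finset.dvd_sum fun i _ => hmr.trans (by simpa using sub_dvd_pow_sub_pow m 1 i)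
    have : r ∣ orderOf g := Int.natCast_dvd_natCast.1 (by simpa using dvd_sub hd hs)
    exact hr.out.ne_one (Nat.dvd_one.1 (hgo ▸ Nat.dvd_gcd this dvd_rfl))
  have hu1 : u ^ (m - 1) = 1 := orderOf_dvd_iff_zpow_eq_one.1 (hcop.dvd_of_dvd_mul_left hord)
  rw [zpow_sub, zpow_one, mul_inv_eq_one] at hu1
  exact mul_inv_eq_iff_eq_mul.1 (hm'.trans hu1)

/-- A prime power subgroup containing all prime power elements normalising it is a Sylow subgroup. -/
theorem exists_sylow_eq {r : ℕ} [Fact r.Prime] {X R : Subgroup Γ} (hRX : R ≤ X) (hR : IsPGroup r R)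
    (h : ∀ y ∈ X, y ∈ Subgroup.normalizer (R : Set Γ) → (∃ i, y ^ r ^ i = 1) → y ∈ R) :
    ∃ P : Sylow r X, (P : Subgroup X) = R.subgroupOf X := by
  obtain ⟨P, hP⟩ := (hR.of_equiv (Subgroup.subgroupOfEquivOfLe hRX).symm).exists_le_sylow
  refine ⟨P, le_antisymm ?_ hP⟩
  by_contra hle
  have hlt : (R.subgroupOf X).subgroupOf (P : Subgroup X) < ⊤ := by
    rwa [lt_top_iff_ne_top, Ne, Subgroup.subgroupOf_eq_top]
  obtain ⟨y, hy, hyR⟩ := SetLike.exists_of_lt
    (Group.normalizerCondition_of_isNilpotent (h := P.isPGroup'.isNilpotent) _ hlt)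
  refine hyR (h _ (y : X).2 (Subgroup.mem_normalizer_iff.2 fun z => ?_) ?_)
  · constructor
    · intro hz
      exact (Subgroup.mem_normalizer_iff.1 hy ⟨⟨z, hRX hz⟩, hP hz⟩).1 hz
    · intro hz
      have hw : ((y : X) : Γ)⁻¹ * ((y : X) * z * ((y : X) : Γ)⁻¹) * (y : X) ∈ R := by
        have h1 := (Subgroup.mem_normalizer_iff''.1 hy ⟨⟨_, hRX hz⟩, hP hz⟩).1 hz
        exact h1
      simpa [mul_assoc] using hw
  · obtain ⟨i, hi⟩ := P.isPGroup' y
    exact ⟨i, congrArg (fun z : (P : Subgroup X) => ((z : X) : Γ)) hi⟩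

/-- Burnside: a cyclic Sylow subgroup whose automisers centralise its elements of prime order has a complement. -/
theorem exists_complement {r : ℕ} [Fact r.Prime] {X R : Subgroup Γ} [IsCyclic R] (hRX : R ≤ X)
    (hR : IsPGroup r R) (hsyl : ∀ y ∈ X, y ∈ Subgroup.normalizer (R : Set Γ) → (∃ i, y ^ r ^ i = 1) → y ∈ R)
    {c : Γ} (hc : c ∈ R) (hco : orderOf c = r)
    (hcen : ∀ g ∈ X, g * c * g⁻¹ ∈ Subgroup.zpowers c → (orderOf g).Coprime r → Commute g c) :
    ∃ N : Subgroup Γ, N ≤ X ∧ (∀ g ∈ X, ∀ n ∈ N, g * n * g⁻¹ ∈ N) ∧ (Nat.card N).Coprime r ∧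
      ∀ g ∈ X, (orderOf g).Coprime r → g ∈ N := by
  obtain ⟨P, hP⟩ := exists_sylow_eq hRX hR hsyl
  haveI : IsCyclic (P : Subgroup X) := by
    rw [hP]; exact isCyclic_of_surjective _ (Subgroup.subgroupOfEquivOfLe hRX).symm.surjective
  have hPc : Subgroup.normalizer ((P : Subgroup X) : Set X) ≤ Subgroup.centralizer ((P : Subgroup X) : Set X) := by
    refine CfsgLib.TransferApps.normalizer_le_centralizer P inferInstance fun g hg hgo => ?_
    rw [hP] at hg ⊢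
    have hgR : (g : Γ) ∈ Subgroup.normalizer (R : Set Γ) := Subgroup.mem_normalizer_iff.2 fun z => by
      constructor
      · intro hz
        exact (Subgroup.mem_normalizer_iff.1 hg ⟨z, hRX hz⟩).1 hz
      · intro hz
        have h1 := (Subgroup.mem_normalizer_iff''.1 hg ⟨_, hRX hz⟩).1 hz
        have h2 : (g : Γ)⁻¹ * ((g : Γ) * z * (g : Γ)⁻¹) * g ∈ R := h1
        simpa [mul_assoc] using h2
    rw [← Subgroup.orderOf_coe] at hgo
    have hz : (g : Γ) * c * (g : Γ)⁻¹ ∈ Subgroup.zpowers c := by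
      obtain ⟨⟨u, hu⟩, hgen⟩ := IsCyclic.exists_generator (α := R)
      obtain ⟨k, hk⟩ := Subgroup.mem_zpowers_iff.1 (hgen ⟨c, hc⟩)
      obtain ⟨m, hm⟩ := Subgroup.mem_zpowers_iff.1 (hgen ⟨_, (Subgroup.mem_normalizer_iff.1 hgR u).1 hu⟩)
      have hk' : u ^ k = c := congrArg Subtype.val hk
      have hm' : u ^ m = (g : Γ) * u * (g : Γ)⁻¹ := congrArg Subtype.val hm
      exact Subgroup.mem_zpowers_iff.2 ⟨m, by rw [← hk', ← conj_zpow, ← hm', ← zpow_mul, ← zpow_mul, mul_comm]⟩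
    refine Subgroup.mem_centralizer_iff.2 fun y hy => Subtype.ext ?_
    exact (commute_of_cyclic hR hgR hgo hc hco (hcen g g.2 hz hgo) hy).eq.symm
  have hcompl := MonoidHom.ker_transferSylow_isComplement' P hPc
  set N := (MonoidHom.transferSylow P hPc).ker
  obtain ⟨k, hk⟩ := P.isPGroup'.exists_card_eq
  refine ⟨N.map X.subtype, Subgroup.map_subtype_le _, ?_, ?_, fun g hg hgo => ⟨⟨g, hg⟩, ?_, rfl⟩⟩
  · rintro g hg _ ⟨n, hn, rfl⟩
    exact ⟨_, (MonoidHom.normal_ker _).conj_mem n hn ⟨g, hg⟩, rfl⟩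
  · rw [Subgroup.card_map_of_injective X.subtype_injective, Nat.coprime_comm,
      (Fact.out : r.Prime).coprime_iff_not_dvd, ← hcompl.index_eq_card]
    exact P.not_dvd_index
  · refine mem_complement_of_coprime hcompl ?_
    rw [Subgroup.orderOf_mk, hk]
    exact hgo.pow_right k

/-- Frobenius complements modulo the centre make the two-elements a two-group. -/
theorem two_group_of_frob {Y Z C₀ : Subgroup Γ} (hZY : Z ≤ Y) (hZc : ∀ z ∈ Z, ∀ y ∈ Y, Commute z y)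
    (hCY : C₀ ≤ Y) (hC : C₀ ≠ ⊥) (hCodd : Odd (Nat.card C₀)) (hZodd : Odd (Nat.card Z))
    (hcop : (Nat.card C₀).Coprime (Nat.card Z))
    (hN : ∀ c ∈ C₀, (orderOf c).Prime → ∀ g ∈ Y, g * c * g⁻¹ ∈ Subgroup.zpowers c → g ∈ C₀ ⊔ Z)
    (hconj : ∀ c ∈ C₀, ∀ c' ∈ C₀, (orderOf c).Prime → orderOf c' = orderOf c →
      ∃ a ∈ C₀, c' ∈ Subgroup.zpowers (a * c * a⁻¹)) :
    IsPGroup 2 (Subgroup.closure {g | g ∈ Y ∧ ∃ i, g ^ 2 ^ i = 1}) := by
  set Z' := Z.subgroupOf Y with hZ'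
  haveI : Z'.Normal := ⟨fun z hz y => by
    show (y : Γ) * z * (y : Γ)⁻¹ ∈ Z
    rw [← (hZc z hz y y.2).eq, mul_inv_cancel_right]; exact hz⟩
  set π := QuotientGroup.mk' Z'
  set B := (C₀.subgroupOf Y).map π with hB
  have hmemB : ∀ g : Y, π g ∈ B ↔ (g : Γ) ∈ C₀ ⊔ Z := fun g => by
    constructor
    · rintro ⟨a, ha, he⟩
      have : (a : Γ)⁻¹ * g ∈ Z := by simpa [Z', Subgroup.mem_subgroupOf] using (QuotientGroup.eq (s := Z')).1 he
      simpa [mul_assoc] using Subgroup.mul_mem_sup (S := C₀) (T := Z) ha this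
    · intro hg
      obtain ⟨a, ha, z, hz, e⟩ := CfsgLib.mem_sup_of_le_normalizer (A := Z) (W := C₀) (fun z hz =>
        Subgroup.mem_normalizer_iff.2 fun x => by
          constructor
          · intro hx; rw [(hZc z hz x (hCY hx)).eq, mul_inv_cancel_right]; exact hx
          · intro hx
            have h1 : z⁻¹ * (z * x * z⁻¹) * z = z * x * z⁻¹ := by
              rw [((hZc z hz _ (hCY hx)).inv_left).eq, inv_mul_cancel_right]
            have this : z * x * z⁻¹ = x := by rw [← h1]; group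
            rwa [this] at hx) hg
      refine ⟨⟨a, hCY ha⟩, ha, (QuotientGroup.eq (s := Z')).2 ?_⟩
      show a⁻¹ * (g : Γ) ∈ Z
      rw [← e]; simpa using hz
  by_cases htop : B = ⊤
  · refine (IsPGroup.of_bot).to_le ((Subgroup.closure_le _).2 ?_)
    rintro t ⟨ht, i, hi⟩
    obtain ⟨a, ha, z, hz, e⟩ : ∃ a ∈ C₀, ∃ z ∈ Z, a * z = t := by
      obtain ⟨⟨a, haY⟩, ha, he⟩ := (htop ▸ Subgroup.mem_top (π ⟨t, ht⟩) : π ⟨t, ht⟩ ∈ B)
      exact ⟨a, ha, a⁻¹ * t, (QuotientGroup.eq (s := Z')).1 he, by group⟩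
    refine eq_one_of_coprime_pow hi (b := Nat.card C₀ * Nat.card Z) ?_
      (Nat.Coprime.pow_left i (Nat.coprime_two_left.2 (hCodd.mul hZodd)))
    rw [← e, (hZc z hz a (hCY ha)).symm.mul_pow, pow_mul,
      show a ^ Nat.card C₀ = 1 from congrArg Subtype.val (pow_card_eq_one' (x := (⟨a, ha⟩ : C₀))), one_pow,
      one_mul, mul_comm, pow_mul,
      show z ^ Nat.card Z = 1 from congrArg Subtype.val (pow_card_eq_one' (x := (⟨z, hz⟩ : Z))), one_pow]
  have hF : Cfsg.IsFrobeniusComplement B := by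
    refine ⟨fun hb => ?_, htop, fun g hg => ?_⟩
    · obtain ⟨c, hc, r, hr, ho⟩ := exists_prime_order hC
      have : π ⟨c, hCY hc⟩ ∈ B := ⟨_, hc, rfl⟩
      rw [hb, Subgroup.mem_bot] at this
      have hcZ : c ∈ Z := ((QuotientGroup.eq_one_iff (N := Z') (⟨c, hCY hc⟩ : Y)).1 this : (⟨c, hCY hc⟩ : Y) ∈ Z')
      exact hr.ne_one (by rw [← ho, eq_one_of_mem_coprime hc hcZ hcop, orderOf_one])
    · obtain ⟨g, rfl⟩ := QuotientGroup.mk'_surjective Z' g
      by_contra hne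
      obtain ⟨x, ⟨hxB, hxg⟩, r, hr, hor⟩ := exists_prime_order hne
      haveI := Fact.mk hr
      replace hxg := CfsgLib.mem_conj_smul_iff.1 hxg
      obtain ⟨c₁, hc₁, rfl⟩ := hxB
      obtain ⟨c₂, hc₂, he⟩ := hxg
      -- a representative of prime order
      have hlift : ∀ c : Y, (c : Γ) ∈ C₀ → orderOf (π c) = r → orderOf (c : Γ) = r := fun c hc ho => by
        refine orderOf_eq_prime ?_ fun h1 => hr.ne_one ?_
        · have h2 : π (c ^ r) = 1 := by rw [map_pow, ← ho, pow_orderOf_eq_one]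
          exact eq_one_of_mem_coprime (pow_mem hc r)
            ((QuotientGroup.eq_one_iff (N := Z') (c ^ r)).1 h2 : c ^ r ∈ Z') hcop
        · rw [← ho, show c = 1 from Subtype.ext h1, map_one, orderOf_one]
      have ho1 := hlift c₁ hc₁ hor
      have ho2 := hlift c₂ hc₂ (by
        rw [he, show (π g)⁻¹ * π c₁ * π g = MulAut.conj (π g)⁻¹ (π c₁) by simp, MulEquiv.orderOf_eq, hor])
      -- the conjugate agrees exactly
      have hz : (c₂ : Γ)⁻¹ * ((g : Γ)⁻¹ * c₁ * g) ∈ Z := by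
        have h1 : π c₂ = π (g⁻¹ * c₁ * g) := by rw [he, map_mul, map_mul, map_inv]
        simpa [Z', Subgroup.mem_subgroupOf] using (QuotientGroup.eq (s := Z')).1 h1
      have hex : (g : Γ)⁻¹ * c₁ * g = c₂ := by
        set z := (c₂ : Γ)⁻¹ * ((g : Γ)⁻¹ * c₁ * g) with hzdef
        have hmul : (g : Γ)⁻¹ * c₁ * g = c₂ * z := by rw [hzdef]; group
        have hp : ((g : Γ)⁻¹ * c₁ * g) ^ r = 1 := by
          rw [show (g : Γ)⁻¹ * c₁ * g = MulAut.conj (g : Γ)⁻¹ c₁ by simp, ← map_pow, ← ho1, pow_orderOf_eq_one,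
            map_one]
        rw [hmul, (hZc z hz _ c₂.2).symm.mul_pow, ← ho2, pow_orderOf_eq_one, one_mul, ho2] at hp
        have hrC : r ∣ Nat.card C₀ := by
          rw [← ho1, ← Subgroup.orderOf_mk _ (show (c₁ : Γ) ∈ C₀ from hc₁)]; exact orderOf_dvd_natCard _
        have : z = 1 := eq_one_of_coprime_pow hp
          (congrArg Subtype.val (pow_card_eq_one' (x := (⟨z, hz⟩ : Z)))) (hcop.coprime_dvd_left hrC)
        rw [hmul, this, mul_one]
      obtain ⟨a, ha, hmem⟩ := hconj _ hc₁ _ hc₂ (ho1 ▸ hr) (ho2.trans ho1.symm)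
      obtain ⟨i, hi⟩ := Subgroup.mem_zpowers_iff.1 hmem
      replace hi : (a * (c₁ : Γ) * a⁻¹) ^ i = (c₂ : Γ) := hi
      refine hg ((hmemB g).2 ?_)
      have hga : (g : Γ) * a ∈ C₀ ⊔ Z := by
        refine hN _ hc₁ (ho1 ▸ hr) _ (mul_mem g.2 (hCY ha)) ?_
        -- the image of `c₁` generates the same subgroup
        have hpow : ((g : Γ) * a * c₁ * ((g : Γ) * a)⁻¹) ^ i = c₁ := by
          rw [conj_zpow, show (g : Γ) * a * (c₁ : Γ) ^ i * ((g : Γ) * a)⁻¹ =
            (g : Γ) * (a * (c₁ : Γ) ^ i * a⁻¹) * (g : Γ)⁻¹ by group, ← conj_zpow, hi, ← hex]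
          group
        set w := (g : Γ) * a * c₁ * ((g : Γ) * a)⁻¹
        have hsub : Subgroup.zpowers w = Subgroup.zpowers (c₁ : Γ) := by
          refine (Subgroup.eq_of_le_of_card_ge
            (Subgroup.zpowers_le.2 (Subgroup.mem_zpowers_iff.2 ⟨i, hpow⟩) : Subgroup.zpowers (c₁ : Γ) ≤ Subgroup.zpowers w) ?_).symm
          rw [Nat.card_zpowers, Nat.card_zpowers, show w = MulAut.conj ((g : Γ) * a) (c₁ : Γ) from rfl,
            MulEquiv.orderOf_eq]
        exact hsub ▸ Subgroup.mem_zpowers w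
      simpa using mul_mem hga (inv_mem (Subgroup.mem_sup_left ha))
  obtain ⟨N, -, hNn, hc, hnil⟩ := CfsgLib.Frob.exists_nilpotent_kernel hF
  haveI := hNn
  haveI := hnil
  set M := N.comap π
  haveI : Group.IsNilpotent M := by
    refine Subgroup.isNilpotent_of_ker_le_center (π.subgroupComap N) (fun x hx => ?_)
    rw [Subgroup.mem_center_iff]
    intro y
    have hxz : ((x : Y) : Γ) ∈ Z := ((QuotientGroup.eq_one_iff (N := Z') (x : Y)).1 (congrArg Subtype.val hx) : (x : Y) ∈ Z')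
    exact Subtype.ext (Subtype.ext (hZc _ hxz _ (y : Y).2).eq.symm)
  have hpow : ∀ k : M, (∃ i, k ^ 2 ^ i = 1) → k ∈ (default : Sylow 2 M) := by
    intro k ⟨i, hi⟩
    haveI : (default : Sylow 2 M).Normal := inferInstance
    obtain ⟨P, hP⟩ := (IsPGroup.of_card (n := _) (p := 2)
      (by rw [Nat.card_zpowers]; exact ((Nat.dvd_prime_pow Nat.prime_two).1 (orderOf_dvd_of_pow_eq_one hi)).choose_spec.2) :
      IsPGroup 2 (Subgroup.zpowers k)).exists_le_sylow
    haveI := Sylow.unique_of_normal (default : Sylow 2 M) inferInstance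
    rw [Subsingleton.elim (default : Sylow 2 M) P]
    exact hP (Subgroup.mem_zpowers k)
  refine ((default : Sylow 2 M).isPGroup'.map (Y.subtype.comp M.subtype)).to_le ((Subgroup.closure_le _).2 ?_)
  rintro t ⟨ht, i, hi⟩
  have htM : (⟨t, ht⟩ : Y) ∈ M := by
    refine mem_complement_of_coprime hc ?_
    refine Nat.Coprime.coprime_dvd_left ((orderOf_map_dvd π _).trans (dvd_of_eq (Subgroup.orderOf_mk _ _))) ?_
    refine coprime_of_pow_eq_one Nat.prime_two hi fun h2 => ?_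
    have h2' : 2 ∣ Nat.card C₀ := h2.trans ((Subgroup.card_map_dvd _ _).trans
      (dvd_of_eq (Nat.card_congr (Subgroup.subgroupOfEquivOfLe hCY).toEquiv)))
    exact hCodd.not_two_dvd_nat h2'
  exact ⟨⟨⟨t, ht⟩, htM⟩, hpow _ ⟨i, Subtype.ext (Subtype.ext hi)⟩, rfl⟩

end CfsgLib.FourFrob
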