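import Cfsg.Agent.Lib.FourFrob.Degree23
import Cfsg.Agent.Lib.FourFrob.Frob
import Cfsg.Agent.S0418

/-!
Blocks of four points and complements of odd order: elements of prime order of the complements and their fixed sets.
-/

set_option autoImplicit false
set_option linter.unusedSectionVars false
set_option linter.style.haveILetI false

namespace CfsgLib.FourFrob

open Finset
open CfsgSharpTrans (D4 fixed mem_fixed)

universe u

variable {α : Type u} [Fintype α] [DecidableEq α]

/-- Four-point stabilisers with a normal Sylow two-subgroup fixing only the four points and a complement of odd order. -/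
structure K4 (G : Subgroup (Equiv.Perm α)) (m : ℕ) : Prop where
  set : TwoSet G
  four : 4 ≤ Fintype.card α
  blk : ∀ q : Finset α, q.card = 4 → Blk G q = q
  odd : Odd m
  compl : ∀ q : Finset α, q.card = 4 → ∃ C, IsCompl (fixG G q) C ∧ Nat.card C = m

/-- The normaliser of a cyclic subgroup. -/
def NG (G : Subgroup (Equiv.Perm α)) (c : Equiv.Perm α) : Subgroup (Equiv.Perm α) :=
  G ⊓ Subgroup.normalizer (Subgroup.zpowers c : Set (Equiv.Perm α))

theorem mem_NG {G : Subgroup (Equiv.Perm α)} {c g : Equiv.Perm α} :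
    g ∈ NG G c ↔ g ∈ G ∧ g * c * g⁻¹ ∈ Subgroup.zpowers c := by
  refine and_congr_right fun _ => ⟨fun h => (Subgroup.mem_normalizer_iff.1 h c).1 (Subgroup.mem_zpowers c),
    fun h => Subgroup.mem_normalizer_iff.2 fun x => ⟨?_, ?_⟩⟩
  · rintro ⟨i, rfl⟩
    show g * c ^ i * g⁻¹ ∈ _
    rw [← conj_zpow]
    exact zpow_mem h i
  · intro hx
    have e : (Subgroup.zpowers c).map (cjm g) = Subgroup.zpowers c := by
      refine Subgroup.eq_of_le_of_card_ge ?_ ?_
      · rw [MonoidHom.map_zpowers]; exact Subgroup.zpowers_le.2 h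
      · exact (Nat.card_congr ((Subgroup.zpowers c).equivMapOfInjective _ (MulAut.conj g).injective).toEquiv).le
    rw [← e] at hx
    obtain ⟨y, hy, hyx⟩ := hx
    exact (MulAut.conj g).injective hyx ▸ hy

theorem cent_le_NG {G : Subgroup (Equiv.Perm α)} {c g : Equiv.Perm α} (hg : g ∈ G) (h : Commute g c) :
    g ∈ NG G c := mem_NG.2 ⟨hg, by rw [h.eq, mul_inv_cancel_right]; exact Subgroup.mem_zpowers c⟩

theorem image_fixed_of_mem_NG {G : Subgroup (Equiv.Perm α)} {c g : Equiv.Perm α} (hg : g ∈ NG G c) :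
    (fixed c).image g = fixed c := by
  refine eq_of_subset_of_card_le (fun x hx => ?_) (by rw [card_image_of_injective _ g.injective])
  obtain ⟨y, hy, rfl⟩ := mem_image.1 hx
  have h := (mem_NG.1 (inv_mem hg)).2
  obtain ⟨i, hi⟩ := h
  rw [mem_fixed] at hy ⊢
  have hiy : (c ^ i) y = y := Equiv.Perm.zpow_apply_eq_self_of_apply_eq_self hy i
  calc c (g y) = g ((g⁻¹ * c * g) y) := by simp
    _ = g ((c ^ i) y) := by rw [show c ^ i = g⁻¹ * c * g from by simpa using hi]
    _ = g y := by rw [hiy]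

theorem comm_commute {c g h : Equiv.Perm α} (hg : g * c * g⁻¹ ∈ Subgroup.zpowers c)
    (hh : h * c * h⁻¹ ∈ Subgroup.zpowers c) : Commute (g * h * g⁻¹ * h⁻¹) c := by
  obtain ⟨i, hi⟩ := Subgroup.mem_zpowers_iff.1 hg
  obtain ⟨j, hj⟩ := Subgroup.mem_zpowers_iff.1 hh
  have e1 : (g * h) * c * (g * h)⁻¹ = c ^ (i * j) := by
    rw [zpow_mul, hi, conj_zpow, hj]; group
  have e2 : (h * g) * c * (h * g)⁻¹ = c ^ (i * j) := by
    rw [mul_comm i j, zpow_mul, hj, conj_zpow, hi]; group
  have e3 : c = (h * g)⁻¹ * c ^ (i * j) * (h * g) := by rw [← e2]; group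
  have : (g * h * g⁻¹ * h⁻¹) * c ^ (i * j) * (g * h * g⁻¹ * h⁻¹)⁻¹ = c ^ (i * j) := by
    rw [show g * h * g⁻¹ * h⁻¹ = (g * h) * (h * g)⁻¹ by group]
    rw [show g * h * (h * g)⁻¹ * c ^ (i * j) * (g * h * (h * g)⁻¹)⁻¹ =
      g * h * ((h * g)⁻¹ * c ^ (i * j) * (h * g)) * (g * h)⁻¹ by group, ← e3, e1]
  -- `c` is a power of `c ^ (i * j)`
  have hgen : c ∈ Subgroup.zpowers (c ^ (i * j)) := by
    have hle : Subgroup.zpowers (c ^ (i * j)) ≤ Subgroup.zpowers c :=
      Subgroup.zpowers_le.2 (Subgroup.zpow_mem _ (Subgroup.mem_zpowers c) _)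
    rw [Subgroup.eq_of_le_of_card_ge hle (by
      rw [Nat.card_zpowers, Nat.card_zpowers, ← e1,
        show g * h * c * (g * h)⁻¹ = MulAut.conj (g * h) c from rfl, MulEquiv.orderOf_eq])]
    exact Subgroup.mem_zpowers c
  obtain ⟨k, hk⟩ := Subgroup.mem_zpowers_iff.1 hgen
  rw [← hk]
  exact (show Commute _ (c ^ (i * j)) from mul_inv_eq_iff_eq_mul.1 this).zpow_right k

/-- Four-fold transitive groups with four-point stabilisers of odd order. -/
theorem odd_stab_cases {β : Type u} [Fintype β] [DecidableEq β] (Y : Subgroup (Equiv.Perm β)) (hY : Trans4 Y)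
    (h4 : 4 ≤ Fintype.card β)
    (hodd : ∀ p ∈ Y, ∀ a b c d : β, D4 a b c d → p a = a → p b = b → p c = c → p d = d → Odd (orderOf p)) :
    ((Fintype.card β = 4 ∨ Fintype.card β = 5) ∧ Y = ⊤) ∨
      ((Fintype.card β = 6 ∨ Fintype.card β = 7) ∧ Y = alternatingGroup β) ∨
      (Fintype.card β = 11 ∧ Nat.card Y = 7920) := by
  classical
  obtain ⟨s, -, hs⟩ := exists_subset_card_eq (show 4 ≤ (univ : Finset β).card by rwa [card_univ])
  obtain ⟨a, b, c, d, hd, rfl⟩ := card_four hs
  have inj : Function.Injective ![a, b, c, d] := by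
    obtain ⟨h1, h2, h3, h4, h5, h6⟩ := hd
    intro i j e
    fin_cases i <;> fin_cases j <;> simp_all
  let x : Fin 4 ↪ β := ⟨_, inj⟩
  have d4 : ∀ y : Fin 4 ↪ β, D4 (y 0) (y 1) (y 2) (y 3) := fun y => by
    refine ⟨?_, ?_, ?_, ?_, ?_, ?_⟩ <;> exact fun e => absurd (y.injective e) (by decide)
  have hpre : MulAction.IsMultiplyPretransitive Y β 4 := by
    refine ⟨fun y z => ?_⟩
    obtain ⟨p, hp, e0, e1, e2, e3⟩ := hY _ _ _ _ _ _ _ _ (d4 y) (d4 z)
    refine ⟨⟨p, hp⟩, Function.Embedding.ext fun i => ?_⟩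
    fin_cases i <;> assumption
  refine Cfsg.Agent.S4221.result Y hpre x ?_
  rcases Nat.even_or_odd (Nat.card (MulAction.stabilizer Y x)) with h | h
  · exfalso
    obtain ⟨g, hg⟩ := exists_prime_orderOf_dvd_card' (G := MulAction.stabilizer Y x) 2 h.two_dvd
    have e : ∀ i, ((g : Y) : Equiv.Perm β) (x i) = x i := fun i => congrArg (fun f : Fin 4 ↪ β => f i) g.2
    have := hodd (g : Y) (g : Y).2 _ _ _ _ (d4 x) (e 0) (e 1) (e 2) (e 3)
    rw [Subgroup.orderOf_coe, Subgroup.orderOf_coe, hg] at this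
    exact absurd this (by decide)
  · exact h

namespace K4

variable {G : Subgroup (Equiv.Perm α)} {m : ℕ} (S : K4 G m)
include S

theorem coprime_two {g : Equiv.Perm α} {i : ℕ} (h : g ^ 2 ^ i = 1) : (orderOf g).Coprime m :=
  coprime_of_pow_eq_one Nat.prime_two h S.odd.not_two_dvd_nat

theorem gt_four : 4 < Fintype.card α := by
  obtain ⟨q, -, hq⟩ := exists_subset_card_eq (show 4 ≤ (univ : Finset α).card by rw [card_univ]; exact S.four)
  rcases S.four.lt_or_eq with h | h
  · exact h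
  · exact absurd (eq_univ_of_card _ (by rw [S.blk q hq, hq, h])) (S.set.blk_ne_univ hq)

theorem m_ne_one : m ≠ 1 := by
  obtain ⟨q, -, hq⟩ := exists_subset_card_eq (show 4 ≤ (univ : Finset α).card by rw [card_univ]; exact S.four)
  obtain ⟨C, hC, rfl⟩ := S.compl q hq
  exact hC.card_ne_one

theorem fix_mod {R : Subgroup (Equiv.Perm α)} {p : ℕ} [Fact p.Prime] (hR : IsPGroup p R) :
    Fintype.card α ≡ (fixS R).card [MOD p] := by
  classical
  have h := hR.card_modEq_card_fixedPoints α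
  have e : MulAction.fixedPoints R α = ((fixS R : Finset α) : Set α) := by
    ext x
    rw [mem_coe, mem_fixS, MulAction.mem_fixedPoints]
    exact ⟨fun h g hg => h ⟨g, hg⟩, fun h g => h g g.2⟩
  rwa [Nat.card_eq_fintype_card, e, Nat.card_coe_set_eq, Set.ncard_coe_finset] at h

theorem even : Even (Fintype.card α) := by
  obtain ⟨q, -, hq⟩ := exists_subset_card_eq (show 4 ≤ (univ : Finset α).card by rw [card_univ]; exact S.four)
  have h := fix_mod S (p := 2) (S.set.two q hq)
  rw [show fixS (twoPart (fixG G q)) = q from S.blk q hq, hq] at h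
  exact Nat.even_iff.2 h

/-- A two-subgroup fixing three points lies in the two-part of a four-point stabiliser. -/
theorem exists_pt {T : Finset α} (hT : T.card = 3) {R : Subgroup (Equiv.Perm α)} (hR : IsPGroup 2 R)
    (hRT : R ≤ fixG G T) : ∃ x ∉ T, R ≤ PP G (insert x T) := by
  have h := fix_mod S (p := 2) hR
  have hsub : T ⊆ fixS R := fun x hx => mem_fixS.2 fun g hg => (hRT hg).2 x hx
  have hne : fixS R ≠ T := fun e => by
    rw [e, hT] at h
    have := Nat.even_iff.1 S.even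
    rw [Nat.ModEq] at h
    omega
  obtain ⟨x, hx, hxT⟩ := exists_of_ssubset (Finset.ssubset_iff_subset_ne.2 ⟨hsub, hne.symm⟩)
  exact ⟨x, hxT, S.set.le_PP hR (hRT.trans (fixG_le G T)) (insert_subset hx hsub)⟩

theorem card_insert {T : Finset α} (hT : T.card = 3) {x : α} (hx : x ∉ T) : (insert x T).card = 4 := by
  rw [card_insert_of_notMem hx, hT]

theorem PP_inj {q q' : Finset α} (hq : q.card = 4) (hq' : q'.card = 4) (h : PP G q ≤ PP G q') : q = q' := by
  rw [← S.blk q hq, ← S.blk q' hq', Blk, Blk, Subgroup.eq_of_le_of_card_ge h (S.set.card_PP hq' hq).le]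

theorem unique_pt {T : Finset α} (hT : T.card = 3) {R : Subgroup (Equiv.Perm α)} (hR : IsPGroup 2 R)
    (hRT : R ≤ fixG G T) {x y : α} (hx : x ∉ T) (hy : y ∉ T) (hxR : PP G (insert x T) ≤ R)
    (hyR : PP G (insert y T) ≤ R) : x = y := by
  obtain ⟨w, hw, hle⟩ := exists_pt S hT hR hRT
  have key : ∀ z ∉ T, PP G (insert z T) ≤ R → z = w := fun z hz hzR => by
    have e := PP_inj S (card_insert S hT hz) (card_insert S hT hw) (hzR.trans hle)
    have : z ∈ insert w T := e ▸ mem_insert_self z T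
    exact (mem_insert.1 this).resolve_right hz
  rw [key x hx hxR, key y hy hyR]

/-- The two-elements of a three-point stabiliser do not form a subgroup. -/
theorem not_two {T : Finset α} (hT : T.card = 3) : ¬ IsPGroup 2 (twoPart (fixG G T)) := fun h => by
  classical
  have hT' : 1 < (univ \ T).card := by
    rw [card_sdiff_of_subset (subset_univ T), card_univ, hT]
    have := gt_four S
    omega
  obtain ⟨x, hx, y, hy, hxy⟩ := one_lt_card.1 hT'
  exact hxy (unique_pt S hT h (twoPart_le _) (mem_sdiff.1 hx).2 (mem_sdiff.1 hy).2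
    (twoPart_mono (fixG_anti (subset_insert _ _))) (twoPart_mono (fixG_anti (subset_insert _ _))))

/-- A complement through a given element of prime order. -/
theorem compl_at {q : Finset α} (hq : q.card = 4) {c : Equiv.Perm α} (hc : c ∈ fixG G q) {r : ℕ} (hr : r.Prime)
    (hco : orderOf c = r) (hrm : r ∣ m) : ∃ C, IsCompl (fixG G q) C ∧ Nat.card C = m ∧ c ∈ C := by
  obtain ⟨C, hC, hCm⟩ := S.compl q hq
  obtain ⟨x, hx, hxC⟩ := hC.le_conj (L := Subgroup.zpowers c) (Subgroup.zpowers_le.2 hc)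
    (by rw [Nat.card_zpowers, hco, hCm]; exact hrm)
  refine ⟨C.map (cjm x), ⟨?_, ?_⟩, ?_, ⟨_, hxC c (Subgroup.mem_zpowers c), ?_⟩⟩
  · rintro _ ⟨y, hy, rfl⟩
    exact mul_mem (mul_mem hx (hC.le hy)) (inv_mem hx)
  · have e : (C.map (cjm x)).subgroupOf (fixG G q) =
        (C.subgroupOf (fixG G q)).map (MulAut.conj (⟨x, hx⟩ : fixG G q)).toMonoidHom := by
      ext y
      simp only [Subgroup.mem_subgroupOf, Subgroup.mem_map]
      constructor
      · rintro ⟨z, hz, he⟩
        exact ⟨⟨z, hC.le hz⟩, hz, Subtype.ext he⟩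
      · rintro ⟨z, hz, he⟩
        exact ⟨z, hz, congrArg Subtype.val he⟩
    rw [e]
    exact frob_map_equiv hC.2 _
  · rw [← hCm]
    exact (Nat.card_congr (C.equivMapOfInjective _ (MulAut.conj x).injective).toEquiv).symm
  · show x * (x⁻¹ * c * x) * x⁻¹ = c
    group

theorem not_commute {q : Finset α} (hq : q.card = 4) {c t : Equiv.Perm α} (hc : c ∈ fixG G q) {r : ℕ}
    (hr : r.Prime) (hco : orderOf c = r) (hrm : r ∣ m) (ht : t ∈ fixG G q) (ht1 : t ≠ 1) {i : ℕ}
    (hti : t ^ 2 ^ i = 1) (htc : Commute t c) : False := by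
  obtain ⟨C, hC, hCm, hcC⟩ := compl_at S hq hc hr hco hrm
  have htC := hC.cen hcC (fun e => hr.ne_one (by rw [← hco, e, orderOf_one])) ht htc
  refine ht1 (eq_one_of_coprime_pow hti (b := m) ?_ ((Nat.coprime_two_left.2 S.odd).pow_left i))
  rw [← hCm]
  exact congrArg Subtype.val (pow_card_eq_one' (x := (⟨t, htC⟩ : C)))

theorem norm_mem {q : Finset α} {C : Subgroup (Equiv.Perm α)} (hC : IsCompl (fixG G q) C) {c g : Equiv.Perm α}
    (hcC : c ∈ C) (hc1 : c ≠ 1) (hg : g ∈ fixG G q) (hgc : g * c * g⁻¹ ∈ Subgroup.zpowers c) : g ∈ C :=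
  hC.ti hcC hc1 hg (Subgroup.zpowers_le.2 hcC hgc)

/-- Elements of the same prime order fixing the same four points. -/
theorem conj_quad {q : Finset α} (hq : q.card = 4) {c c' : Equiv.Perm α} (hc : c ∈ fixG G q)
    (hc' : c' ∈ fixG G q) {r : ℕ} (hr : r.Prime) (hco : orderOf c = r) (hco' : orderOf c' = r) (hrm : r ∣ m) :
    ∃ h ∈ fixG G q, h * c' * h⁻¹ ∈ Subgroup.zpowers c := by
  haveI := Fact.mk hr
  obtain ⟨C, hC, hCm, hcC⟩ := compl_at S hq hc hr hco hrm
  obtain ⟨x, hx, hxC⟩ := hC.le_conj (L := Subgroup.zpowers c') (Subgroup.zpowers_le.2 hc')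
    (by rw [Nat.card_zpowers, hco', hCm]; exact hrm)
  obtain ⟨a, ha, hac⟩ := hC.prime_conj le_rfl hcC (hxC c' (Subgroup.mem_zpowers c')) hco (by
    rw [show x⁻¹ * c' * x = MulAut.conj x⁻¹ c' by simp, MulEquiv.orderOf_eq, hco'])
  obtain ⟨i, hi⟩ := Subgroup.mem_zpowers_iff.1 hac
  refine ⟨a⁻¹ * x⁻¹, mul_mem (inv_mem (hC.le ha)) (inv_mem hx), Subgroup.mem_zpowers_iff.2 ⟨i, ?_⟩⟩
  rw [conj_zpow] at hi
  calc c ^ i = a⁻¹ * (a * c ^ i * a⁻¹) * a := by group
    _ = _ := by rw [hi]; group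

end K4

/-- An element of prime order dividing the order of the complements, fixing four points. -/
structure Elt (G : Subgroup (Equiv.Perm α)) (m : ℕ) (c : Equiv.Perm α) (r : ℕ) : Prop where
  mem : c ∈ G
  prime : r.Prime
  order : orderOf c = r
  dvd : r ∣ m
  four : 4 ≤ (fixed c).card

namespace K4

variable {G : Subgroup (Equiv.Perm α)} {m : ℕ} (S : K4 G m)
include S

theorem elt_mem {c : Equiv.Perm α} {r : ℕ} (e : Elt G m c r) {q : Finset α} (hq : q ⊆ fixed c) : c ∈ fixG G q :=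
  ⟨e.mem, fun _ hx => mem_fixed.1 (hq hx)⟩

omit S in
theorem elt_ne {c : Equiv.Perm α} {r : ℕ} (e : Elt G m c r) : c ≠ 1 := fun h =>
  e.prime.ne_one (by rw [← e.order, h, orderOf_one])

/-- Witt: the normaliser is four-fold transitive on the fixed points. -/
theorem witt {c : Equiv.Perm α} {r : ℕ} (e : Elt G m c r) : Trans4 (indG (NG G c) (fixed c)) := by
  intro a b c₁ d a' b' c' d' hd hd'
  have h2 : ∀ {a b c₁ d : fixed c}, D4 a b c₁ d → D4 (a : α) b c₁ d := fun {a b c₁ d} hd => by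
    obtain ⟨h1, h2, h3, h4, h5, h6⟩ := hd
    exact ⟨Subtype.coe_ne_coe.2 h1, Subtype.coe_ne_coe.2 h2, Subtype.coe_ne_coe.2 h3, Subtype.coe_ne_coe.2 h4,
      Subtype.coe_ne_coe.2 h5, Subtype.coe_ne_coe.2 h6⟩
  obtain ⟨g, hg, e1, e2, e3, e4⟩ := S.set.trans a b c₁ d a' b' c' d' (h2 hd) (h2 hd')
  set q : Finset α := {(a' : α), (b' : α), (c' : α), (d' : α)}
  have hq : q.card = 4 := card_quad (h2 hd')
  have hcq : c ∈ fixG G q := elt_mem S e (by simp [q, insert_subset_iff])
  have hgcq : g * c * g⁻¹ ∈ fixG G q := by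
    refine ⟨mul_mem (mul_mem hg e.mem) (inv_mem hg), fun x hx => ?_⟩
    simp only [q, mem_insert, mem_singleton] at hx
    rcases hx with rfl | rfl | rfl | rfl
    · rw [CfsgSharpTrans.conj_at g c e1, mem_fixed.1 a.2, e1]
    · rw [CfsgSharpTrans.conj_at g c e2, mem_fixed.1 b.2, e2]
    · rw [CfsgSharpTrans.conj_at g c e3, mem_fixed.1 c₁.2, e3]
    · rw [CfsgSharpTrans.conj_at g c e4, mem_fixed.1 d.2, e4]
  obtain ⟨h, hh, hhc⟩ := conj_quad S hq hcq hgcq e.prime e.order
    (by rw [show g * c * g⁻¹ = MulAut.conj g c from rfl, MulEquiv.orderOf_eq, e.order]) e.dvd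
  have hN : h * g ∈ NG G c := mem_NG.2 ⟨mul_mem hh.1 hg, by
    rw [show h * g * c * (h * g)⁻¹ = h * (g * c * g⁻¹) * h⁻¹ by group]; exact hhc⟩
  obtain ⟨p, hp, hpe⟩ := exists_perm hN (image_fixed_of_mem_NG hN)
  refine ⟨p, hp, ?_, ?_, ?_, ?_⟩ <;> refine Subtype.ext ((hpe _).symm.trans ?_) <;>
    simp only [Equiv.Perm.mul_apply, e1, e2, e3, e4] <;> exact hh.2 _ (by simp [q])

theorem norm_odd {c g : Equiv.Perm α} {r : ℕ} (e : Elt G m c r) {q : Finset α} (hq : q.card = 4)
    (hqc : q ⊆ fixed c) (hg : g ∈ NG G c) (hgq : g ∈ fixG G q) : orderOf g ∣ m := by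
  obtain ⟨C, hC, hCm, hcC⟩ := compl_at S hq (elt_mem S e hqc) e.prime e.order e.dvd
  have := norm_mem S hC hcC (elt_ne e) hgq (mem_NG.1 hg).2
  rw [← hCm, ← Subgroup.orderOf_mk _ this]
  exact orderOf_dvd_natCard _

theorem stab_odd {c : Equiv.Perm α} {r : ℕ} (e : Elt G m c r) {p : Equiv.Perm (fixed c)}
    (hp : p ∈ indG (NG G c) (fixed c)) {a b c₁ d : fixed c} (hd : D4 a b c₁ d) (ha : p a = a) (hb : p b = b)
    (hc : p c₁ = c₁) (hd' : p d = d) : orderOf p ∣ m := by
  obtain ⟨g, hg, hge⟩ := hp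
  obtain ⟨h1, h2, h3, h4, h5, h6⟩ := hd
  have h := norm_odd S e (q := {(a : α), (b : α), (c₁ : α), (d : α)})
    (card_quad ⟨Subtype.coe_ne_coe.2 h1, Subtype.coe_ne_coe.2 h2, Subtype.coe_ne_coe.2 h3,
      Subtype.coe_ne_coe.2 h4, Subtype.coe_ne_coe.2 h5, Subtype.coe_ne_coe.2 h6⟩)
    (by simp [insert_subset_iff]) hg ⟨(mem_NG.1 hg).1, fun x hx => by
      simp only [mem_insert, mem_singleton] at hx
      rcases hx with rfl | rfl | rfl | rfl
      exacts [by rw [hge, ha], by rw [hge, hb], by rw [hge, hc], by rw [hge, hd']]⟩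
  refine dvd_trans (orderOf_dvd_of_pow_eq_one (Equiv.ext fun x => Subtype.ext ?_)) h
  rw [← indG_pow hge, pow_orderOf_eq_one]
  rfl

theorem fixed_cases {c : Equiv.Perm α} {r : ℕ} (e : Elt G m c r) :
    (((fixed c).card = 4 ∨ (fixed c).card = 5) ∧ indG (NG G c) (fixed c) = ⊤) ∨
      (((fixed c).card = 6 ∨ (fixed c).card = 7) ∧ indG (NG G c) (fixed c) = alternatingGroup (fixed c)) ∨
      ((fixed c).card = 11 ∧ Nat.card (indG (NG G c) (fixed c)) = 7920) := by
  have h := odd_stab_cases (indG (NG G c) (fixed c)) (witt S e) (by rw [Fintype.card_coe]; exact e.four)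
    fun p hp a b c₁ d hd ha hb hc hd' => S.odd.of_dvd_nat (stab_odd S e hp hd ha hb hc hd')
  rwa [Fintype.card_coe] at h

theorem fixed_mem {c : Equiv.Perm α} {r : ℕ} (e : Elt G m c r) :
    (fixed c).card ∈ ({4, 5, 6, 7, 11} : Finset ℕ) := by
  rcases fixed_cases S e with ⟨h | h, -⟩ | ⟨h | h, -⟩ | ⟨h, -⟩ <;> simp [h]

/-- Symmetries of the fixed set with four fixed points among them. -/
theorem fix_four {c g : Equiv.Perm α} {r : ℕ} (e : Elt G m c r) (hg : g ∈ NG G c) {q : Finset α}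
    (hq : q.card = 4) (hqc : q ⊆ fixed c) (hgq : ∀ x ∈ q, g x = x) :
    (∀ x ∈ fixed c, (g ^ 3) x = x) ∧ ((fixed c).card ≠ 7 ∨ (orderOf g).Coprime 3 → ∀ x ∈ fixed c, g x = x) := by
  classical
  obtain ⟨p, hp, hpe⟩ := exists_perm hg (image_fixed_of_mem_NG hg)
  let q' : Finset (fixed c) := q.attach.map ⟨fun x => ⟨x.1, hqc x.2⟩, fun x y h => Subtype.ext (congrArg Subtype.val h : _)⟩
  have hq' : q'.card = 4 := by rw [card_map, card_attach, hq]
  have hfix : ∀ y ∈ q', p y = y := fun y hy => by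
    obtain ⟨x, -, rfl⟩ := mem_map.1 hy
    exact Subtype.ext ((hpe _).symm.trans (hgq _ x.2))
  have hsupp : p.support ⊆ q'ᶜ := fun y hy => mem_compl.2 fun h => (Equiv.Perm.mem_support.1 hy) (hfix y h)
  have hs : p.support.card ≤ (fixed c).card - 4 := by
    refine (card_le_card hsupp).trans ?_
    rw [card_compl, Fintype.card_coe, hq']
  have hsolve : (p = 1) ∨ ((fixed c).card = 7 ∧ p ^ 3 = 1) := by
    rcases fixed_cases S e with ⟨h45, -⟩ | ⟨h67, heq⟩ | ⟨h11, hcard⟩
    · exact .inl (Equiv.Perm.card_support_le_one.1 (by omega))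
    · have halt := heq ▸ hp
      rw [Equiv.Perm.mem_alternatingGroup] at halt
      by_cases h1 : p = 1
      · exact .inl h1
      have hne2 : p.support.card ≠ 2 := fun h2 => by
        rw [(Equiv.Perm.card_support_eq_two.1 h2).sign_eq] at halt
        exact absurd halt (by decide)
      have hle1 : ¬ p.support.card ≤ 1 := fun h => h1 (Equiv.Perm.card_support_le_one.1 h)
      have h3 : p.support.card = 3 := by omega
      refine .inr ⟨by omega, ?_⟩
      rw [← (card_support_eq_three_iff.1 h3).orderOf, pow_orderOf_eq_one]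
    · refine .inl ?_
      have h := (witt S e).card hq'
      rw [hcard, Fintype.card_coe, h11] at h
      have h1 : Nat.card (fixG (indG (NG G c) (fixed c)) q') = 1 := by
        have : (11 : ℕ).descFactorial 4 = 7920 := by decide
        rw [this] at h
        omega
      exact (Subgroup.eq_bot_iff_forall _).1 (Subgroup.card_eq_one.1 h1) p ⟨hp, hfix⟩
  refine ⟨fun x hx => ?_, fun h x hx => ?_⟩
  · have h3 : p ^ 3 = 1 := by
      rcases hsolve with h | ⟨-, h⟩
      · rw [h, one_pow]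
      · exact h
    have := indG_pow hpe 3 ⟨x, hx⟩
    rw [h3] at this
    exact this
  · have h1 : p = 1 := by
      rcases hsolve with h' | ⟨h7, h'⟩
      · exact h'
      · rcases h with h | h
        · exact absurd h7 h
        · refine eq_one_of_coprime_pow (a := orderOf g) ?_ h' h
          exact Equiv.ext fun y => Subtype.ext (by rw [← indG_pow hpe, pow_orderOf_eq_one]; rfl)
    rw [show g x = g ((⟨x, hx⟩ : (fixed c)) : α) from rfl, hpe, h1]
    rfl

/-- Symmetries of the fixed set induced by the centraliser. -/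
theorem cent {c : Equiv.Perm α} {r : ℕ} (e : Elt G m c r) {p : Equiv.Perm (fixed c)}
    (hp : (fixed c).card = 11 ∧ p ∈ indG (NG G c) (fixed c) ∨
      5 ≤ (fixed c).card ∧ (fixed c).card ≠ 11 ∧ p ∈ alternatingGroup (fixed c)) :
    ∃ g ∈ G, Commute g c ∧ ∀ x : fixed c, g x = p x := by
  classical
  set Y := indG (NG G c) (fixed c)
  suffices hp' : p ∈ indG (G ⊓ Subgroup.centralizer {c}) (fixed c) by
    obtain ⟨g, hg, hge⟩ := hp'
    exact ⟨g, hg.1, Subgroup.mem_centralizer_singleton_iff.1 hg.2, hge⟩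
  set Yc := indG (G ⊓ Subgroup.centralizer {c}) (fixed c)
  have hcomm : ∀ s ∈ Y, ∀ t ∈ Y, s * t * s⁻¹ * t⁻¹ ∈ Yc := by
    rintro s ⟨g, hg, hge⟩ t ⟨h, hh, hhe⟩
    have hgi : ∀ x : fixed c, g⁻¹ x = s⁻¹ x := fun x => g.symm_apply_eq.2 (by
      rw [hge, Equiv.Perm.inv_def, Equiv.apply_symm_apply])
    have hhi : ∀ x : fixed c, h⁻¹ x = t⁻¹ x := fun x => h.symm_apply_eq.2 (by
      rw [hhe, Equiv.Perm.inv_def, Equiv.apply_symm_apply])
    have hgG : g ∈ G := (mem_NG.1 hg).1
    have hhG : h ∈ G := (mem_NG.1 hh).1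
    refine ⟨g * h * g⁻¹ * h⁻¹, ⟨G.mul_mem (G.mul_mem (G.mul_mem hgG hhG) (G.inv_mem hgG)) (G.inv_mem hhG),
      Subgroup.mem_centralizer_singleton_iff.2 (comm_commute (mem_NG.1 hg).2 (mem_NG.1 hh).2).eq⟩, fun x => ?_⟩
    simp only [Equiv.Perm.mul_apply, hhi, hgi, hhe, hge]
  rcases hp with ⟨h11, hpY⟩ | ⟨h5, hn11, hpA⟩
  · obtain ⟨-, hcard⟩ : (fixed c).card = 11 ∧ Nat.card Y = 7920 := by
      rcases fixed_cases S e with ⟨h | h, -⟩ | ⟨h | h, -⟩ | h <;> first | omega | exact h
    have hβ : Fintype.card (fixed c) = 11 := by rw [Fintype.card_coe, h11]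
    haveI hpre : MulAction.IsMultiplyPretransitive Y (fixed c) 4 := by
      refine ⟨fun y z => ?_⟩
      have d4 : ∀ y : Fin 4 ↪ fixed c, D4 (y 0) (y 1) (y 2) (y 3) := fun y => by
        refine ⟨?_, ?_, ?_, ?_, ?_, ?_⟩ <;> exact fun e => absurd (y.injective e) (by decide)
      obtain ⟨s, hs, e0, e1, e2, e3⟩ := witt S e _ _ _ _ _ _ _ _ (d4 y) (d4 z)
      refine ⟨⟨s, hs⟩, Function.Embedding.ext fun i => ?_⟩
      fin_cases i <;> assumption
    haveI : MulAction.IsPretransitive Y (Fin 4 ↪ fixed c) := hpre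
    have hsharp : ∀ x : Fin 4 ↪ fixed c, MulAction.stabilizer Y x = ⊥ := fun x => by
      have h1 := Subgroup.index_mul_card (MulAction.stabilizer Y x)
      rw [@MulAction.index_stabilizer_of_transitive Y (Fin 4 ↪ fixed c) _ _ x hpre,
        Nat.card_eq_fintype_card (α := Fin 4 ↪ fixed c), Fintype.card_embedding_eq, Fintype.card_fin, hβ, hcard,
        show (11 : ℕ).descFactorial 4 = 7920 by decide] at h1
      exact Subgroup.card_eq_one.1 (by omega)
    haveI hs : IsSimpleGroup Y := (Cfsg.Agent.S0418.result hβ Y hsharp).1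
    have hK : Yc.subgroupOf Y = ⊤ := by
      have hle : commutator Y ≤ Yc.subgroupOf Y := by
        rw [commutator_def, Subgroup.commutator_le]
        exact fun s _ t _ => hcomm s s.2 t t.2
      have hN : (Yc.subgroupOf Y).Normal := ⟨fun n hn y => by
        have h1 : y * n * y⁻¹ * n⁻¹ ∈ Yc.subgroupOf Y := hle (Subgroup.commutator_mem_commutator trivial trivial)
        simpa [mul_assoc] using mul_mem h1 hn⟩
      refine (hN.eq_bot_or_eq_top).resolve_left fun hb => ?_
      have hcom : ∀ a b : Y, a * b = b * a := fun a b => by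
        have h1 : a * b * a⁻¹ * b⁻¹ ∈ Yc.subgroupOf Y :=
          hle (Subgroup.commutator_mem_commutator (Subgroup.mem_top a) (Subgroup.mem_top b))
        rw [hb, Subgroup.mem_bot, mul_inv_eq_one, mul_inv_eq_iff_eq_mul] at h1
        exact h1
      obtain ⟨q₀, -, hq₀⟩ := exists_subset_card_eq
        (show 4 ≤ (univ : Finset (fixed c)).card by rw [card_univ, Fintype.card_coe, h11]; omega)
      obtain ⟨a, b, u, v, hd, -⟩ := card_four hq₀
      obtain ⟨g1, g2, g3, g4, g5, g6⟩ := hd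
      obtain ⟨s₁, hs₁, a1, a2, a3, -⟩ := witt S e a b u v a u b v ⟨g1, g2, g3, g4, g5, g6⟩
        ⟨g2, g1, g3, g4.symm, g6, g5⟩
      obtain ⟨s₂, hs₂, b1, b2, b3, -⟩ := witt S e a b u v b a u v ⟨g1, g2, g3, g4, g5, g6⟩
        ⟨g1.symm, g4, g5, g2, g3, g6⟩
      have := congrArg (fun y : Y => (y : Equiv.Perm (fixed c)) a) (hcom ⟨s₁, hs₁⟩ ⟨s₂, hs₂⟩)
      simp only [Subgroup.coe_mul, Equiv.Perm.mul_apply, a1, b1, a2] at this
      exact g4 this.symm
    exact (Subgroup.subgroupOf_eq_top.1 hK) hpY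
  · rw [← Equiv.Perm.closure_three_cycles_eq_alternating] at hpA
    refine (Subgroup.closure_le Yc).2 (fun σ hσ => ?_) hpA
    obtain ⟨a, b, d, hab, had, hbd, hsupp⟩ := card_eq_three.1 (Equiv.Perm.IsThreeCycle.card_support hσ)
    have hA : alternatingGroup (fixed c) ≤ Y := by
      rcases fixed_cases S e with ⟨h | h, hY⟩ | ⟨-, hY⟩ | ⟨h, -⟩
      · omega
      · rw [show Y = ⊤ from hY]; exact le_top
      · rw [show Y = _ from hY]
      · omega
    obtain ⟨u, hu, v, hv, huv⟩ := one_lt_card.1 (show 1 < (univ \ ({a, b, d} : Finset (fixed c))).card by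
      rw [card_sdiff_of_subset (subset_univ _), card_univ, Fintype.card_coe,
        show ({a, b, d} : Finset (fixed c)).card = 3 from card_eq_three.2 ⟨a, b, d, hab, had, hbd, rfl⟩]
      omega)
    simp only [mem_sdiff, mem_univ, true_and, mem_insert, mem_singleton, not_or] at hu hv
    -- a three-cycle on the same points is a commutator
    have hτ : Equiv.swap a b * Equiv.swap a d ∈ Yc := by
      have h1 : Equiv.swap a d * Equiv.swap u v ∈ Y := hA (by
        rw [Equiv.Perm.mem_alternatingGroup, map_mul, Equiv.Perm.sign_swap had, Equiv.Perm.sign_swap huv]; rfl)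
      have h2 : Equiv.swap b d * Equiv.swap u v ∈ Y := hA (by
        rw [Equiv.Perm.mem_alternatingGroup, map_mul, Equiv.Perm.sign_swap hbd, Equiv.Perm.sign_swap huv]; rfl)
      have h3 := hcomm _ h1 _ h2
      have hne : ∀ {x y : fixed c}, u ≠ x → u ≠ y → v ≠ x → v ≠ y →
          Equiv.swap x y * Equiv.swap u v = Equiv.swap u v * Equiv.swap x y := fun {x y} k1 k2 k3 k4 => by
        rw [Equiv.mul_swap_eq_swap_mul, Equiv.swap_apply_of_ne_of_ne k1 k2, Equiv.swap_apply_of_ne_of_ne k3 k4]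
      have ead := hne hu.1 hu.2.2 hv.1 hv.2.2
      have ebd := hne hu.2.1 hu.2.2 hv.2.1 hv.2.2
      have e3 : ∀ {A B U : Equiv.Perm (fixed c)}, A * A = 1 → B * B = 1 → U * U = 1 → A * U = U * A → B * U = U * B →
          A * U * (B * U) * (A * U)⁻¹ * (B * U)⁻¹ = A * B * (A * B) := fun {A B U} hA2 hB2 hU2 hAU hBU => by
        have i1 : (A * U)⁻¹ = A * U := inv_eq_of_mul_eq_one_right (by
          rw [mul_assoc, ← mul_assoc U, ← hAU, mul_assoc A U, hU2, mul_one, hA2])
        have i2 : (B * U)⁻¹ = B * U := inv_eq_of_mul_eq_one_right (by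
          rw [mul_assoc, ← mul_assoc U, ← hBU, mul_assoc B U, hU2, mul_one, hB2])
        have k1 : A * U * (B * U) = A * B := by
          rw [mul_assoc, ← mul_assoc U, ← hBU, mul_assoc B U, hU2, mul_one]
        rw [i1, i2, mul_assoc (A * U * (B * U)), k1]
      rw [e3 (Equiv.swap_mul_self _ _) (Equiv.swap_mul_self _ _) (Equiv.swap_mul_self _ _) ead ebd] at h3
      have e4 : Equiv.swap a d * Equiv.swap b d * (Equiv.swap a d * Equiv.swap b d) =
          (Equiv.swap a b * Equiv.swap a d)⁻¹ := by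
        have k1 : Equiv.swap a d * Equiv.swap b d * Equiv.swap a d = Equiv.swap a b := by
          have h := Equiv.swap_apply_apply (Equiv.swap a d) b d
          rw [Equiv.swap_apply_of_ne_of_ne hab.symm hbd, Equiv.swap_apply_right, Equiv.swap_inv,
            Equiv.swap_comm b a] at h
          exact h.symm
        rw [← mul_assoc, k1, mul_inv_rev, Equiv.swap_inv, Equiv.swap_inv, Equiv.mul_swap_eq_swap_mul,
          Equiv.swap_apply_right, Equiv.swap_apply_of_ne_of_ne had.symm hbd.symm]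
      rw [e4] at h3
      exact inv_mem_iff.1 h3
    rcases three_cycle_cases hσ hab had hbd hsupp with rfl | rfl
    · exact hτ
    · exact inv_mem hτ
where
  three_cycle_cases {β : Type u} [Fintype β] [DecidableEq β] {σ : Equiv.Perm β} (hσ : σ.IsThreeCycle) {a b d : β}
      (hab : a ≠ b) (had : a ≠ d) (hbd : b ≠ d) (h : σ.support = {a, b, d}) :
      σ = Equiv.swap a b * Equiv.swap a d ∨ σ = (Equiv.swap a b * Equiv.swap a d)⁻¹ := by
    have hout : ∀ y, y ≠ a → y ≠ b → y ≠ d → σ y = y := fun y h1 h2 h3 =>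
      Equiv.Perm.notMem_support.1 (by simp [h, h1, h2, h3])
    have hin : ∀ y, y = a ∨ y = b ∨ y = d → σ y ≠ y ∧ (σ y = a ∨ σ y = b ∨ σ y = d) := fun y hy => by
      have hy' : y ∈ σ.support := by simp [h, hy]
      have := Equiv.Perm.apply_mem_support.2 hy'
      rw [h] at this
      exact ⟨Equiv.Perm.mem_support.1 hy', by simpa using this⟩
    obtain ⟨a1, a2⟩ := hin a (.inl rfl)
    obtain ⟨b1, b2⟩ := hin b (.inr (.inl rfl))
    obtain ⟨d1, d2⟩ := hin d (.inr (.inr rfl))
    have inj := σ.injective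
    rcases a2 with a2 | a2 | a2
    · exact absurd a2 a1
    · right
      have b3 : σ b = d := by
        rcases b2 with b2 | b2 | b2
        · exfalso
          rcases d2 with d2 | d2 | d2
          exacts [hbd (inj (b2.trans d2.symm)), had (inj (a2.trans d2.symm)), d1 d2]
        · exact absurd b2 b1
        · exact b2
      have d3 : σ d = a := by
        rcases d2 with d2 | d2 | d2
        exacts [d2, absurd (inj (d2.trans a2.symm)) (Ne.symm had), absurd d2 d1]
      rw [mul_inv_rev, Equiv.swap_inv, Equiv.swap_inv]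
      ext y
      simp only [Equiv.Perm.mul_apply, Equiv.swap_apply_def]
      by_cases ya : y = a
      · subst ya; simp_all [Ne.symm]
      by_cases yb : y = b
      · subst yb; simp_all [Ne.symm]
      by_cases yd : y = d
      · subst yd; simp_all [Ne.symm]
      simp [ya, yb, yd, hout y ya yb yd]
    · left
      have d3 : σ d = b := by
        rcases d2 with d2 | d2 | d2
        · exfalso
          rcases b2 with b2 | b2 | b2
          exacts [hbd (inj (b2.trans d2.symm)), b1 b2, hab (inj (a2.trans b2.symm))]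
        · exact d2
        · exact absurd d2 d1
      have b3 : σ b = a := by
        rcases b2 with b2 | b2 | b2
        exacts [b2, absurd b2 b1, absurd (inj (b2.trans a2.symm)) (Ne.symm hab)]
      ext y
      simp only [Equiv.Perm.mul_apply, Equiv.swap_apply_def]
      by_cases ya : y = a
      · subst ya; simp_all [Ne.symm]
      by_cases yb : y = b
      · subst yb; simp_all [Ne.symm]
      by_cases yd : y = d
      · subst yd; simp_all [Ne.symm]
      simp [ya, yb, yd, hout y ya yb yd]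

end K4

end CfsgLib.FourFrob
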