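import Cfsg.Agent.Lib.FourFrob.Four

/-!
Contradictions from Frobenius groups and from transfer inside three-point stabilisers.
-/

set_option autoImplicit false
set_option linter.unusedSectionVars false
set_option linter.style.haveILetI false

namespace CfsgLib.FourFrob

open Finset
open CfsgSharpTrans (D4 fixed mem_fixed)

universe u

variable {α : Type u} [Fintype α] [DecidableEq α]

theorem normalizes_of_cyclic {Γ : Type u} [Group Γ] {R : Subgroup Γ} [IsCyclic R] {g c : Γ}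
    (hg : g ∈ Subgroup.normalizer (R : Set Γ)) (hc : c ∈ R) : g * c * g⁻¹ ∈ Subgroup.zpowers c := by
  obtain ⟨⟨u, hu⟩, hgen⟩ := IsCyclic.exists_generator (α := R)
  obtain ⟨k, hk⟩ := Subgroup.mem_zpowers_iff.1 (hgen ⟨c, hc⟩)
  obtain ⟨n, hn⟩ := Subgroup.mem_zpowers_iff.1 (hgen ⟨_, (Subgroup.mem_normalizer_iff.1 hg u).1 hu⟩)
  have hk' : u ^ k = c := congrArg Subtype.val hk
  have hn' : u ^ n = g * u * g⁻¹ := congrArg Subtype.val hn
  exact Subgroup.mem_zpowers_iff.2 ⟨n, by rw [← hk', ← conj_zpow, ← hn', ← zpow_mul, ← zpow_mul, mul_comm]⟩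

theorem mem_normalizer_of_forall {Γ : Type u} [Group Γ] [Finite Γ] {N : Subgroup Γ} {g : Γ}
    (h : ∀ n ∈ N, g * n * g⁻¹ ∈ N) : g ∈ Subgroup.normalizer (N : Set Γ) := by
  have e : N.map (MulAut.conj g).toMonoidHom = N := by
    refine Subgroup.eq_of_le_of_card_ge ?_
      (Nat.card_congr (N.equivMapOfInjective _ (MulAut.conj g).injective).toEquiv).le
    rintro _ ⟨n, hn, rfl⟩
    exact h n hn
  refine Subgroup.mem_normalizer_iff.2 fun x => ⟨h x, fun hx => ?_⟩
  obtain ⟨n, hn, hnx⟩ := (e.symm ▸ hx : g * x * g⁻¹ ∈ N.map (MulAut.conj g).toMonoidHom)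
  exact (MulAut.conj g).injective hnx ▸ hn

/-- A two-group on which an element of odd prime order acts without fixed points fixes what it could swap. -/
theorem fix_pair {W : Subgroup (Equiv.Perm α)} (hW : IsPGroup 2 W) {c : Equiv.Perm α} {r : ℕ} (hr : r.Prime)
    (hr2 : r ≠ 2) (hco : orderOf c = r) (hnorm : ∀ w ∈ W, c * w * c⁻¹ ∈ W)
    (hfree : ∀ w ∈ W, Commute w c → w = 1) {e f : α} (he : c e = e) (hf : c f = f) (hef : e ≠ f)
    (hperm : ∀ w ∈ W, w e = e ∨ w e = f) : ∀ w ∈ W, w e = e := by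
  classical
  haveI := Fact.mk hr
  intro w₁ hw₁
  rcases hperm w₁ hw₁ with h | h
  · exact h
  exfalso
  let A : Subgroup (Equiv.Perm α) := Subgroup.zpowers c
  have hA : IsPGroup r A := IsPGroup.of_card (n := 1) (by rw [Nat.card_zpowers, hco, pow_one])
  let S := {w : W // (w : Equiv.Perm α) e = f}
  have hpw : ∀ a ∈ A, ∀ w ∈ W, a * w * a⁻¹ ∈ W := fun a ha w hw =>
    (Subgroup.mem_normalizer_iff.1
      ((Subgroup.zpowers_le.2 (mem_normalizer_of_forall hnorm)) ha) w).1 hw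
  have hfixA : ∀ a ∈ A, a e = e ∧ a f = f := fun a ha => by
    obtain ⟨i, rfl⟩ := Subgroup.mem_zpowers_iff.1 ha
    exact ⟨Equiv.Perm.zpow_apply_eq_self_of_apply_eq_self he i, Equiv.Perm.zpow_apply_eq_self_of_apply_eq_self hf i⟩
  letI : MulAction A S :=
    { smul := fun a s => ⟨⟨a * s.1 * (a : Equiv.Perm α)⁻¹, hpw a a.2 _ s.1.2⟩, by
        show ((a : Equiv.Perm α) * s.1 * (a : Equiv.Perm α)⁻¹) e = f
        rw [CfsgSharpTrans.conj_at (a : Equiv.Perm α) _ (hfixA a a.2).1, s.2, (hfixA a a.2).2]⟩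
      one_smul := fun s => Subtype.ext (Subtype.ext (by
        show (1 : Equiv.Perm α) * s.1 * (1 : Equiv.Perm α)⁻¹ = s.1
        group))
      mul_smul := fun a b s => Subtype.ext (Subtype.ext (by
        show ((a * b : A) : Equiv.Perm α) * s.1 * ((a * b : A) : Equiv.Perm α)⁻¹ =
          a * (b * s.1 * (b : Equiv.Perm α)⁻¹) * (a : Equiv.Perm α)⁻¹
        rw [Subgroup.coe_mul]; group)) }
  have hfp : MulAction.fixedPoints A S = ∅ := by
    rw [Set.eq_empty_iff_forall_notMem]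
    intro s hs
    have h1 : c * s.1 * c⁻¹ = s.1 :=
      congrArg (fun x : S => (x.1 : Equiv.Perm α)) (hs ⟨c, Subgroup.mem_zpowers c⟩)
    have h2 := hfree _ s.1.2 (mul_inv_eq_iff_eq_mul.1 h1).symm
    have := s.2
    rw [h2] at this
    exact hef this
  have hS := hA.card_modEq_card_fixedPoints S
  rw [hfp, Nat.card_coe_set_eq, Set.ncard_empty] at hS
  -- the set is a coset of the stabiliser
  let W₀ : Subgroup W := (MulAction.stabilizer (Equiv.Perm α) e).subgroupOf W
  have hcard : Nat.card S = Nat.card W₀ := Nat.card_congr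
    { toFun := fun s => ⟨⟨w₁, hw₁⟩⁻¹ * s.1, by
        show ((w₁⁻¹ * s.1 : Equiv.Perm α)) e = e
        rw [Equiv.Perm.mul_apply, s.2, Equiv.Perm.inv_def, Equiv.symm_apply_eq]; exact h.symm⟩
      invFun := fun v => ⟨⟨w₁, hw₁⟩ * v.1, by
        show ((w₁ * v.1 : Equiv.Perm α)) e = f
        rw [Equiv.Perm.mul_apply, show ((v.1 : W) : Equiv.Perm α) e = e from v.2, h]⟩
      left_inv := fun s => by simp
      right_inv := fun v => by simp }
  obtain ⟨k, hk⟩ := (hW.to_subgroup W₀).exists_card_eq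
  rw [hcard, hk, Nat.modEq_zero_iff_dvd] at hS
  exact hr2 ((Nat.prime_dvd_prime_iff_eq hr Nat.prime_two).1 (hr.dvd_of_dvd_pow hS))

namespace K4

variable {G : Subgroup (Equiv.Perm α)} {m : ℕ} (S : K4 G m)
include S

theorem ne_two {c : Equiv.Perm α} {r : ℕ} (e : Elt G m c r) : r ≠ 2 := fun h =>
  S.odd.not_two_dvd_nat (h ▸ e.dvd)

/-- No Frobenius group inside a three-point stabiliser contains all its two-elements. -/
theorem frob_kill {T : Finset α} (hT : T.card = 3) {X : Subgroup (Equiv.Perm α)} (hXM : X ≤ fixG G T)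
    (hX2 : ∀ g ∈ fixG G T, ∀ i : ℕ, g ^ 2 ^ i = 1 → g ∈ X) {q : Finset α} {C C₀ : Subgroup (Equiv.Perm α)}
    (hC : IsCompl (fixG G q) C) (hCm : Nat.card C = m) (hC₀ : C₀ ≤ C) (hC₀X : C₀ ≤ X) (hne : C₀ ≠ ⊥)
    (hN : ∀ c ∈ C₀, (orderOf c).Prime → ∀ g ∈ X, g * c * g⁻¹ ∈ Subgroup.zpowers c → g ∈ C₀) : False := by
  have hodd : Odd (Nat.card C₀) := (hCm ▸ S.odd).of_dvd_nat (Subgroup.card_dvd_of_le hC₀)
  have h := two_group_of_frob (Y := X) (Z := ⊥) (C₀ := C₀) bot_le
    (fun z hz y _ => by rw [Subgroup.mem_bot.1 hz]; exact Commute.one_left y) hC₀X hne hodd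
    (by rw [Subgroup.card_bot]; exact odd_one) (by rw [Subgroup.card_bot]; exact Nat.coprime_one_right _)
    (fun c hc hp g hg h => Subgroup.mem_sup_left (hN c hc hp g hg h))
    fun c hc c' hc' hp ho => by
      haveI := Fact.mk hp
      exact hC.prime_conj hC₀ hc hc' rfl ho
  refine not_two S hT (h.to_le ((Subgroup.closure_le _).2 ?_))
  rintro g ⟨hg, i, hi⟩
  exact Subgroup.subset_closure ⟨hX2 g hg i hi, i, hi⟩

/-- A two-element centralising an element of prime order of a complement, against Burnside's transfer. -/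
theorem transfer_kill {T : Finset α} (hT : T.card = 3) {X : Subgroup (Equiv.Perm α)} (hXM : X ≤ fixG G T)
    (hX2 : ∀ g ∈ fixG G T, ∀ i : ℕ, g ^ 2 ^ i = 1 → g ∈ X) {c : Equiv.Perm α} {r : ℕ} (e : Elt G m c r)
    (hcX : c ∈ X) (hr : ¬ r ∣ (fixed c).card - 3)
    (hcen : ∀ g ∈ X, g * c * g⁻¹ ∈ Subgroup.zpowers c → (orderOf g).Coprime r → Commute g c)
    {t : Equiv.Perm α} (ht : t ∈ fixG G T) (ht1 : t ≠ 1) {i : ℕ} (hti : t ^ 2 ^ i = 1) (htc : Commute t c) :
    False := by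
  classical
  haveI := Fact.mk e.prime
  have hTc : T ⊆ fixed c := fun x hx => mem_fixed.2 ((hXM hcX).2 x hx)
  -- a maximal r-group in the normaliser
  set Nx := X ⊓ NG G c with hNx
  have hcN : c ∈ Nx := ⟨hcX, cent_le_NG e.mem (Commute.refl c)⟩
  obtain ⟨P, hP⟩ := (IsPGroup.of_card (n := 1) (by rw [Nat.card_zpowers, Subgroup.orderOf_mk, e.order, pow_one]) :
    IsPGroup r (Subgroup.zpowers (⟨c, hcN⟩ : Nx))).exists_le_sylow
  set R := (P : Subgroup Nx).map Nx.subtype with hRdef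
  have hRp : IsPGroup r R := P.isPGroup'.map Nx.subtype
  have hRN : R ≤ Nx := Subgroup.map_subtype_le _
  have hcR : c ∈ R := ⟨⟨c, hcN⟩, hP (Subgroup.mem_zpowers _), rfl⟩
  have hsubF : fixS R ⊆ fixed c := fun x hx => mem_fixed.2 (mem_fixS.1 hx c hcR)
  have hTR : T ⊆ fixS R := fun x hx => mem_fixS.2 fun g hg => (hXM (hRN hg).1).2 x hx
  obtain ⟨x, hxR, hxT⟩ : ∃ x ∈ fixS R, x ∉ T := by
    by_contra h
    push Not at h
    have he : fixS R = T := Subset.antisymm h hTR
    have h1 := fix_mod S hRp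
    have h2 := fix_mod S (p := r) (R := Subgroup.zpowers c)
      (IsPGroup.of_card (n := 1) (by rw [Nat.card_zpowers, e.order, pow_one]))
    have h3 : fixS (Subgroup.zpowers c) = fixed c := by
      ext y
      rw [mem_fixS, mem_fixed]
      refine ⟨fun h => h c (Subgroup.mem_zpowers c), fun h g hg => ?_⟩
      obtain ⟨j, rfl⟩ := Subgroup.mem_zpowers_iff.1 hg
      exact Equiv.Perm.zpow_apply_eq_self_of_apply_eq_self h j
    rw [he, hT] at h1
    rw [h3] at h2
    exact hr ((Nat.modEq_iff_dvd' (by have := e.four; omega)).1 (h1.symm.trans h2))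
  have hq : (insert x T).card = 4 := card_insert S hT hxT
  have hqc : insert x T ⊆ fixed c := insert_subset (hsubF hxR) hTc
  obtain ⟨C, hC, hCm, hcC⟩ := compl_at S hq (elt_mem S e hqc) e.prime e.order e.dvd
  have hRC : R ≤ C := fun g hg => norm_mem S hC hcC (elt_ne e)
    ⟨(mem_NG.1 (hRN hg).2).1, fun y hy => mem_fixS.1 (insert_subset hxR hTR hy) g hg⟩ (mem_NG.1 (hRN hg).2).2
  haveI : IsCyclic R := hC.cyclic (ne_two S e) hRC hRp
  obtain ⟨N, hNX, hNn, hNcop, hN⟩ := exists_complement (X := X) (fun g hg => (hRN hg).1) hRp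
    (fun y hy hyn hyp => by
      have hyN : y ∈ Nx := ⟨hy, mem_NG.2 ⟨(hXM hy).1, normalizes_of_cyclic hyn hcR⟩⟩
      have hY : IsPGroup r (Subgroup.zpowers y) := by
        obtain ⟨j, hj⟩ := hyp
        obtain ⟨l, -, hl⟩ := (Nat.dvd_prime_pow e.prime).1 (orderOf_dvd_of_pow_eq_one hj)
        exact IsPGroup.of_card (n := l) (by rw [Nat.card_zpowers, hl])
      have hsup : IsPGroup r (R ⊔ Subgroup.zpowers y : Subgroup (Equiv.Perm α)) :=
        hRp.to_sup_of_normal_left' hY (Subgroup.zpowers_le.2 hyn)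
      have hle : R ⊔ Subgroup.zpowers y ≤ Nx := sup_le hRN (Subgroup.zpowers_le.2 hyN)
      have he := P.is_maximal' (Q := (R ⊔ Subgroup.zpowers y).subgroupOf Nx)
        (hsup.of_equiv (Subgroup.subgroupOfEquivOfLe hle).symm)
        (fun z hz => Subgroup.mem_sup_left (⟨z, hz, rfl⟩ : (z : Equiv.Perm α) ∈ R))
      have hy' : (⟨y, hyN⟩ : Nx) ∈ (R ⊔ Subgroup.zpowers y).subgroupOf Nx :=
        Subgroup.mem_sup_right (Subgroup.mem_zpowers y)
      rw [he] at hy'
      exact ⟨_, hy', rfl⟩)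
    hcR e.order hcen
  have h2r : ∀ {g : Equiv.Perm α} {j : ℕ}, g ^ 2 ^ j = 1 → (orderOf g).Coprime r := fun {g j} h =>
    (coprime_two S h).coprime_dvd_right e.dvd
  have h2N : ∀ g ∈ fixG G T, ∀ j : ℕ, g ^ 2 ^ j = 1 → g ∈ N := fun g hg j hj => hN g (hX2 g hg j hj) (h2r hj)
  have hnormN : Subgroup.zpowers c ≤ Subgroup.normalizer (N : Set (Equiv.Perm α)) :=
    Subgroup.zpowers_le.2 (mem_normalizer_of_forall (hNn c hcX))
  have hcopN : (Nat.card (Subgroup.zpowers c)).Coprime (Nat.card N) := by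
    rw [Nat.card_zpowers, e.order]; exact hNcop.symm
  obtain ⟨l, -, hl⟩ := (Nat.dvd_prime_pow Nat.prime_two).1 (orderOf_dvd_of_pow_eq_one hti)
  obtain ⟨Q, htQ, hcQ⟩ := CfsgLib.coprime_le_invariant_sylow (p := 2) hnormN hcopN (.inl inferInstance)
    (U := Subgroup.zpowers t) (Subgroup.zpowers_le.2 (h2N t ht i hti))
    (IsPGroup.of_card (n := l) (by rw [Nat.card_zpowers, hl]))
    (Subgroup.zpowers_le.2 (mem_normalizer_of_forall fun z hz => by
      obtain ⟨j, rfl⟩ := Subgroup.mem_zpowers_iff.1 hz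
      rw [(htc.symm.zpow_right j).eq, mul_inv_cancel_right]
      exact Subgroup.zpow_mem _ (Subgroup.mem_zpowers t) j))
  set S2 := (Q : Subgroup N).map N.subtype with hS2
  obtain ⟨z, hzT, hz⟩ := exists_pt S hT (Q.isPGroup'.map N.subtype)
    (((Subgroup.map_subtype_le _).trans hNX).trans hXM)
  have hzq : (insert z T).card = 4 := card_insert S hT hzT
  have hPN : PP G (insert z T) ≤ N := (Subgroup.closure_le _).2 fun g ⟨hg, j, hj⟩ =>
    h2N g (fixG_anti (subset_insert z T) hg) j hj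
  have heq : PP G (insert z T) = S2 := by
    refine le_antisymm (fun g hg => ?_) hz
    have he := Q.is_maximal' (Q := (PP G (insert z T)).subgroupOf N)
      ((S.set.two _ hzq).of_equiv (Subgroup.subgroupOfEquivOfLe hPN).symm)
      (fun w hw => hz ⟨w, hw, rfl⟩)
    have hg' : (⟨g, hPN hg⟩ : N) ∈ (PP G (insert z T)).subgroupOf N := hg
    rw [he] at hg'
    exact ⟨_, hg', rfl⟩
  have hcS : S2.map (cjm c) = S2 := by
    refine Subgroup.eq_of_le_of_card_ge ?_
      (Nat.card_congr (S2.equivMapOfInjective _ (MulAut.conj c).injective).toEquiv).le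
    rintro _ ⟨w, hw, rfl⟩
    exact (Subgroup.mem_normalizer_iff.1 (hcQ (Subgroup.mem_zpowers c)) w).1 hw
  rw [← heq, map_PP e.mem] at hcS
  have hqq : (insert z T).image c = insert z T :=
    PP_inj S (by rw [card_image_of_injective _ c.injective, hzq]) hzq hcS.le
  have hcz : c z = z := by
    have hcz : c z ∈ insert z T := hqq ▸ mem_image_of_mem c (mem_insert_self z T)
    refine (mem_insert.1 hcz).resolve_right fun h => hzT ?_
    have hh := mem_fixed.1 (hTc h)
    exact c.injective hh ▸ h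
  have htP : t ∈ PP G (insert z T) := heq ▸ htQ (Subgroup.mem_zpowers t)
  exact not_commute S hzq (elt_mem S e (insert_subset (mem_fixed.2 hcz) hTc)) e.prime e.order e.dvd
    ((twoPart_le _) htP) ht1 hti htc

end K4

end CfsgLib.FourFrob
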