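import Cfsg.Agent.Lib.FourFrob.FourTools

/-!
Blocks of four points: three divides the order of the complements.
-/

set_option autoImplicit false
set_option linter.unusedSectionVars false
set_option linter.style.haveILetI false

namespace CfsgLib.FourFrob

open Finset
open CfsgSharpTrans (D4 fixed mem_fixed)

universe u

variable {α : Type u} [Fintype α] [DecidableEq α]

/-- The elements of three-power order, as a subgroup. -/
def R3 (X : Subgroup (Equiv.Perm α)) : Subgroup (Equiv.Perm α) :=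
  Subgroup.closure {g | g ∈ X ∧ ∃ i, g ^ 3 ^ i = 1}

/-- Data used while three does not divide the order of the complements. -/
structure Ctx (G : Subgroup (Equiv.Perm α)) (m : ℕ) (q : Finset α) (C : Subgroup (Equiv.Perm α))
    (z : Equiv.Perm α) (r : ℕ) : Prop where
  three : ¬ 3 ∣ m
  hq : q.card = 4
  hC : IsCompl (fixG G q) C
  hCm : Nat.card C = m
  ez : Elt G m z r
  mem : z ∈ C
  cen : ∀ h ∈ C, Commute h z
  sub : q ⊆ fixed z
  triv : ∀ h ∈ C, ∀ x ∈ fixed z, h x = x
  same : ∀ c ∈ C, (orderOf c).Prime → fixed c = fixed z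
  big : 5 ≤ r

/-- A lift of a three-cycle on three fixed points. -/
structure Rot (G : Subgroup (Equiv.Perm α)) (z ρ : Equiv.Perm α) (a b c : α) : Prop where
  mem : ρ ∈ G
  comm : Commute ρ z
  cube : ρ ^ 3 = 1
  ha : a ∈ fixed z
  hb : b ∈ fixed z
  hc : c ∈ fixed z
  ab : a ≠ b
  ac : a ≠ c
  bc : b ≠ c
  mapa : ρ a = b
  mapb : ρ b = c
  mapc : ρ c = a
  others : ∀ v ∈ fixed z, v ≠ a → v ≠ b → v ≠ c → ρ v = v

variable {G : Subgroup (Equiv.Perm α)} {m : ℕ} {q : Finset α} {C : Subgroup (Equiv.Perm α)}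
  {z ρ : Equiv.Perm α} {r : ℕ} {a b c : α}

theorem Rot.order (R : Rot G z ρ a b c) : orderOf ρ = 3 :=
  haveI := Fact.mk Nat.prime_three
  orderOf_eq_prime R.cube fun h => R.ab (by rw [← R.mapa, h]; rfl)

theorem Rot.map_zpow (R : Rot G z ρ a b c) (i : ℤ) : ρ ^ i = 1 ∨ ρ ^ i = ρ ∨ ρ ^ i = ρ⁻¹ := by
  have h : ρ ^ i = ρ ^ (i % 3) := by
    have h3 : (3 : ℤ) = (orderOf ρ : ℤ) := by rw [R.order]; rfl
    rw [h3, zpow_mod_orderOf]
  rcases (show i % 3 = 0 ∨ i % 3 = 1 ∨ i % 3 = 2 by omega) with e | e | e <;> rw [e] at h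
  · exact .inl (by simpa using h)
  · exact .inr (.inl (by simpa using h))
  · refine .inr (.inr (h.trans (eq_inv_of_mul_eq_one_left ?_)))
    rw [show ρ ^ (2 : ℤ) = ρ ^ 2 by rfl, ← pow_succ]
    exact R.cube

theorem Rot.image_T (R : Rot G z ρ a b c) : ({a, b, c} : Finset α).image ρ = {a, b, c} := by
  ext x
  simp [R.mapa, R.mapb, R.mapc]
  tauto

theorem Rot.conj_fixG (R : Rot G z ρ a b c) : ∀ n ∈ fixG G {a, b, c}, ρ * n * ρ⁻¹ ∈ fixG G {a, b, c} := by
  intro n hn
  refine ⟨mul_mem (mul_mem R.mem hn.1) (inv_mem R.mem), fun x hx => ?_⟩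
  simp only [mem_insert, mem_singleton] at hx
  rcases hx with rfl | rfl | rfl
  · rw [CfsgSharpTrans.conj_at ρ n R.mapc, hn.2 _ (by simp), R.mapc]
  · rw [CfsgSharpTrans.conj_at ρ n R.mapa, hn.2 _ (by simp), R.mapa]
  · rw [CfsgSharpTrans.conj_at ρ n R.mapb, hn.2 _ (by simp), R.mapb]

theorem Rot.card_T (R : Rot G z ρ a b c) : ({a, b, c} : Finset α).card = 3 :=
  card_eq_three.2 ⟨a, b, c, R.ab, R.ac, R.bc, rfl⟩

theorem Rot.T_sub (R : Rot G z ρ a b c) : ({a, b, c} : Finset α) ⊆ fixed z := by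
  simp [insert_subset_iff, R.ha, R.hb, R.hc]

namespace K4

variable (S : K4 G m)
include S

theorem ctx_exists (h3 : ¬ 3 ∣ m) {q : Finset α} (hq : q.card = 4) :
    ∃ C z r, Ctx G m q C z r := by
  obtain ⟨C, hC, hCm⟩ := S.compl q hq
  obtain ⟨z, hz, r, hr, ho, hcen⟩ := hC.exists_central le_rfl hC.ne_bot (hCm.symm ▸ S.odd)
  have hdvd : ∀ c ∈ C, orderOf c ∣ m := fun c hc => by
    rw [← hCm, ← Subgroup.orderOf_mk _ hc]; exact orderOf_dvd_natCard _
  have helt : ∀ c ∈ C, (orderOf c).Prime → Elt G m c (orderOf c) ∧ q ⊆ fixed c := fun c hc hp => by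
    have hsub : q ⊆ fixed c := fun x hx => mem_fixed.2 ((hC.le hc).2 x hx)
    exact ⟨⟨(hC.le hc).1, hp, rfl, hdvd c hc, hq ▸ card_le_card hsub⟩, hsub⟩
  obtain ⟨ez, hzq⟩ := helt z hz (ho ▸ hr)
  have triv : ∀ c ∈ C, (orderOf c).Prime → ∀ h ∈ C, Commute h c → ∀ x ∈ fixed c, h x = x := fun c hc hp h hh hcomm => by
    obtain ⟨e, hsub⟩ := helt c hc hp
    refine (fix_four S e (cent_le_NG (hC.le hh).1 hcomm) hq hsub (hC.le hh).2).2 (.inr ?_)
    exact ((Nat.prime_three.coprime_iff_not_dvd.2 h3).symm).coprime_dvd_left (hdvd h hh)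
  refine ⟨C, z, r, h3, hq, hC, hCm, ho ▸ ez, hz, hcen, hzq, fun h hh => triv z hz (ho ▸ hr) h hh (hcen h hh), fun c hc hp => ?_, ?_⟩
  · refine Subset.antisymm (fun x hx => mem_fixed.2 ?_) fun x hx => mem_fixed.2 ?_
    · exact triv c hc hp z hz (hcen c hc).symm x hx
    · exact triv z hz (ho ▸ hr) c hc (hcen c hc) x hx
  · have h2 : r ≠ 2 := fun h => S.odd.not_two_dvd_nat (h ▸ ho ▸ hdvd z hz)
    have h3' : r ≠ 3 := fun h => h3 (h ▸ ho ▸ hdvd z hz)
    have h4 : r ≠ 4 := fun h => absurd (h ▸ hr) (by decide)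
    have := hr.two_le
    omega

variable (X : Ctx G m q C z r)
include X

theorem mem_compl {g : Equiv.Perm α} (hg : g ∈ G) (hcomm : Commute g z) (hF : ∀ x ∈ fixed z, g x = x) : g ∈ C :=
  X.hC.cen X.mem (elt_ne X.ez) ⟨hg, fun x hx => hF x (X.sub hx)⟩ hcomm

theorem case_four (h4 : (fixed z).card = 4) : False := by
  obtain ⟨T, hTq, hT⟩ := exists_subset_card_eq (show 3 ≤ q.card by have := X.hq; omega)
  have hF : fixed z = q := (eq_of_subset_of_card_le X.sub (by rw [h4, X.hq])).symm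
  refine frob_kill S hT le_rfl (fun g hg _ _ => hg) X.hC X.hCm le_rfl (X.hC.le.trans (fixG_anti hTq)) X.hC.ne_bot
    fun x hx hp g hg hgx => ?_
  have hgN : g ∈ NG G x := mem_NG.2 ⟨hg.1, hgx⟩
  have hFx : (q).image g = q := by rw [← hF, ← X.same x hx hp]; exact image_fixed_of_mem_NG hgN
  refine norm_mem S X.hC hx (fun h => hp.ne_one (by rw [h, orderOf_one])) ⟨hg.1, fun y hy => ?_⟩ hgx
  by_cases hyT : y ∈ T
  · exact hg.2 y hyT
  obtain ⟨d, hd⟩ := card_eq_one.1 (show (q \ T).card = 1 by rw [card_sdiff_of_subset hTq, X.hq, hT])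
  have h1 : y ∈ q \ T := mem_sdiff.2 ⟨hy, hyT⟩
  have h2 : g y ∈ q \ T := by
    refine mem_sdiff.2 ⟨hFx ▸ mem_image_of_mem g hy, fun h => hyT ?_⟩
    have := g.injective (hg.2 _ h)
    exact this ▸ h
  rw [hd, mem_singleton] at h1 h2
  rw [h2, h1]

theorem case_big (hl : (fixed z).card = 7 ∨ (fixed z).card = 11) : False := by
  classical
  obtain ⟨T, hTq, hT⟩ := exists_subset_card_eq (show 3 ≤ q.card by have := X.hq; omega)
  have hTz := hTq.trans X.sub
  have hlift : ∀ p : Equiv.Perm (fixed z), p ∈ indG (NG G z) (fixed z) →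
      ∃ u ∈ G, Commute u z ∧ ∀ x : fixed z, u x = p x := fun p hp => cent S X.ez (by
    rcases hl with hl | hl
    · refine .inr ⟨by omega, by omega, ?_⟩
      rcases fixed_cases S X.ez with ⟨h, -⟩ | ⟨-, h⟩ | ⟨h, -⟩
      · omega
      · exact h ▸ hp
      · omega
    · exact .inl ⟨hl, hp⟩)
  have hcen : ∀ g ∈ fixG G T, g * z * g⁻¹ ∈ Subgroup.zpowers z → (orderOf g).Coprime r → Commute g z := by
    intro g hg hgz _
    have hgN : g ∈ NG G z := mem_NG.2 ⟨hg.1, hgz⟩
    obtain ⟨p, hp, hpe⟩ := exists_perm hgN (image_fixed_of_mem_NG hgN)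
    obtain ⟨u, hu, huz, hue⟩ := hlift p hp
    have hv : u⁻¹ * g ∈ C := by
      refine X.hC.ti X.mem (elt_ne X.ez) ⟨mul_mem (inv_mem hu) hg.1, fun x hx => ?_⟩ ?_
      · rw [Equiv.Perm.mul_apply, Equiv.Perm.inv_def, Equiv.symm_apply_eq, hue ⟨x, X.sub hx⟩, ← hpe]
      · obtain ⟨i, hi⟩ := Subgroup.mem_zpowers_iff.1 hgz
        rw [show u⁻¹ * g * z * (u⁻¹ * g)⁻¹ = u⁻¹ * (g * z * g⁻¹) * u by group, ← hi,
          mul_assoc, ((huz.zpow_right i).eq).symm, inv_mul_cancel_left]
        exact Subgroup.zpow_mem _ X.mem i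
    have := huz.mul_left (X.cen _ hv)
    rwa [mul_inv_cancel_left] at this
  obtain ⟨p, hpY, hp2, hp1, hpT⟩ : ∃ p : Equiv.Perm (fixed z), p ∈ indG (NG G z) (fixed z) ∧ p ^ 2 = 1 ∧ p ≠ 1 ∧
      ∀ x : fixed z, (x : α) ∈ T → p x = x := by
    rcases hl with hl | hl
    · have hcard : (univ.filter fun x : fixed z => (x : α) ∉ T).card = 4 := by
        have h1 := card_filter_add_card_filter_not (s := (univ : Finset (fixed z))) (fun x => (x : α) ∈ T)
        have h2 : (univ.filter fun x : fixed z => (x : α) ∈ T).card = 3 := by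
          rw [← hT]
          exact card_bij (fun x _ => (x : α)) (fun x hx => (mem_filter.1 hx).2) (fun _ _ _ _ h => Subtype.ext h)
            fun y hy => ⟨⟨y, hTz hy⟩, mem_filter.2 ⟨mem_univ _, hy⟩, rfl⟩
        rw [card_univ, Fintype.card_coe, hl, h2] at h1
        omega
      obtain ⟨d, e, f, g, ⟨h1, h2, h3, h4, h5, h6⟩, he⟩ := card_four hcard
      refine ⟨Equiv.swap d e * Equiv.swap f g, ?_, ?_, ?_, fun x hx => ?_⟩
      · rcases fixed_cases S X.ez with ⟨h, -⟩ | ⟨-, h⟩ | ⟨h, -⟩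
        · omega
        · rw [h, Equiv.Perm.mem_alternatingGroup, map_mul, Equiv.Perm.sign_swap h1, Equiv.Perm.sign_swap h6]; rfl
        · omega
      · have hc : Equiv.swap d e * Equiv.swap f g = Equiv.swap f g * Equiv.swap d e := by
          rw [Equiv.mul_swap_eq_swap_mul, Equiv.swap_apply_of_ne_of_ne h2.symm h4.symm,
            Equiv.swap_apply_of_ne_of_ne h3.symm h5.symm]
        rw [sq, mul_assoc, ← mul_assoc (Equiv.swap f g), ← hc, mul_assoc (Equiv.swap d e), Equiv.swap_mul_self,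
          mul_one, Equiv.swap_mul_self]
      · intro h
        have := congrArg (fun s : Equiv.Perm (fixed z) => s d) h
        simp only [Equiv.Perm.mul_apply, Equiv.swap_apply_of_ne_of_ne h2 h3, Equiv.swap_apply_left,
          Equiv.Perm.one_apply] at this
        exact h1 this.symm
      · have hne : ∀ y ∈ ({d, e, f, g} : Finset (fixed z)), x ≠ y := fun y hy hxy => by
          rw [← he] at hy
          exact (mem_filter.1 hy).2 (hxy ▸ hx)
        rw [Equiv.Perm.mul_apply, Equiv.swap_apply_of_ne_of_ne (hne f (by simp)) (hne g (by simp)),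
          Equiv.swap_apply_of_ne_of_ne (hne d (by simp)) (hne e (by simp))]
    · set T' : Finset (fixed z) := univ.filter fun x => (x : α) ∈ T
      have hT' : T'.card = 3 := by
        rw [← hT]
        exact card_bij (fun x _ => (x : α)) (fun x hx => (mem_filter.1 hx).2) (fun _ _ _ _ h => Subtype.ext h)
          fun y hy => ⟨⟨y, hTz hy⟩, mem_filter.2 ⟨mem_univ _, hy⟩, rfl⟩
      obtain ⟨d, hd⟩ : ∃ d, d ∉ T' := by
        by_contra h
        push Not at h
        have := congrArg Finset.card (eq_univ_of_forall h)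
        rw [hT', card_univ, Fintype.card_coe, hl] at this
        omega
      have hY := witt S X.ez
      have h3 := hY.card_three hT' hd
      have h4 := hY.card (q := insert d T') (by rw [card_insert_of_notMem hd, hT'])
      rw [Fintype.card_coe, hl] at h3 h4
      have h5 : Nat.card (indG (NG G z) (fixed z)) = 7920 := by
        rcases fixed_cases S X.ez with ⟨h | h, -⟩ | ⟨h | h, -⟩ | ⟨-, h⟩ <;> first | omega | exact h
      rw [h5, show (11 : ℕ).descFactorial 4 = 7920 by decide] at h4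
      haveI := Fact.mk Nat.prime_two
      obtain ⟨⟨p, hp⟩, ho⟩ := exists_prime_orderOf_dvd_card' (G := fixG (indG (NG G z) (fixed z)) T') 2
        (by rw [h3]; exact (show 2 ∣ 11 - 3 by norm_num).mul_right _)
      rw [Subgroup.orderOf_mk] at ho
      exact ⟨p, hp.1, by rw [← ho, pow_orderOf_eq_one], fun h => by rw [h, orderOf_one] at ho; omega,
        fun x hx => hp.2 x (mem_filter.2 ⟨mem_univ _, hx⟩)⟩
  obtain ⟨u, hu, huz, hue⟩ := hlift p hpY
  have hev : 2 ∣ orderOf u := by
    haveI := Fact.mk Nat.prime_two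
    rw [← orderOf_eq_prime hp2 hp1]
    refine orderOf_dvd_of_pow_eq_one (Equiv.ext fun x => Subtype.ext ?_)
    rw [← indG_pow hue, pow_orderOf_eq_one]
    rfl
  obtain ⟨j, i, -, hji, hj1⟩ := exists_two_power hev
  have huT : u ∈ fixG G T := ⟨hu, fun x hx => by
    rw [show u x = u ((⟨x, hTz hx⟩ : fixed z) : α) from rfl, hue, hpT _ hx]⟩
  refine transfer_kill S hT le_rfl (fun g hg _ _ => hg) X.ez (fixG_anti hTq (X.hC.le X.mem)) ?_ hcen
    (pow_mem huT j) hj1 hji (huz.pow_left j)
  intro hd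
  have hbig := X.big
  rcases hl with hl | hl <;> rw [hl] at hd <;> have := Nat.le_of_dvd (by norm_num) hd <;> interval_cases r <;>
    first | omega | exact absurd X.ez.prime (by decide) | exact absurd hd (by decide)

theorem outside {y : Equiv.Perm α} (hy : Commute y z) {x : α} (hx : x ∉ fixed z) (hyx : y x = x) :
    (∀ j : ℕ, y ((z ^ j) x) = (z ^ j) x) ∧ ∀ i < r, ∀ j < r, (z ^ i) x = (z ^ j) x → i = j := by
  refine ⟨fun j => ?_, ?_⟩
  · rw [← Equiv.Perm.mul_apply, (hy.pow_right j).eq, Equiv.Perm.mul_apply, hyx]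
  · have key : ∀ i j : ℕ, i ≤ j → j < r → (z ^ i) x = (z ^ j) x → i = j := fun i j hij hj h => by
      by_contra hne
      have h1 : (z ^ (j - i)) x = x := (z ^ i).injective (by
        rw [← Equiv.Perm.mul_apply, ← pow_add, Nat.add_sub_cancel' hij]; exact h.symm)
      have hcop : (j - i).Coprime (orderOf z) := by
        rw [X.ez.order]
        exact ((X.ez.prime.coprime_iff_not_dvd).2 fun hd => by
          have := Nat.le_of_dvd (by omega) hd
          omega).symm
      obtain ⟨k, hk⟩ := exists_pow_eq_self_of_coprime hcop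
      refine hx (mem_fixed.2 ?_)
      rw [← hk]
      exact Equiv.Perm.pow_apply_eq_self_of_apply_eq_self h1 k
    intro i hi j hj h
    rcases le_total i j with hij | hij
    · exact key i j hij hj h
    · exact (key j i hij hi h.symm).symm

theorem rot_kill {a b c d e : α} {ρ : Equiv.Perm α} (R : Rot G z ρ a b c) (hd : d ∈ fixed z) (he : e ∈ fixed z)
    (hdT : d ∉ ({a, b, c} : Finset α)) (heT : e ∉ ({a, b, c} : Finset α)) (hde : d ≠ e) {x : α} (hx : x ∉ fixed z) (hρx : ρ x = x) : False := by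
  classical
  simp only [mem_insert, mem_singleton, not_or] at hdT heT
  have hρd := R.others d hd hdT.1 hdT.2.1 hdT.2.2
  have hρe := R.others e he heT.1 heT.2.1 heT.2.2
  let Y : Subgroup (Equiv.Perm α) := fixG G {d, e} ⊓ Subgroup.centralizer {ρ}
  let C₀ : Subgroup (Equiv.Perm α) := C ⊓ Subgroup.centralizer {ρ}
  have hC₀C : C₀ ≤ C := inf_le_left
  have hC₀Y : C₀ ≤ Y := fun g hg => ⟨⟨(X.hC.le hg.1).1, fun y hy => by
    simp only [mem_insert, mem_singleton] at hy
    rcases hy with rfl | rfl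
    exacts [X.triv g hg.1 _ hd, X.triv g hg.1 _ he]⟩, hg.2⟩
  have hzC₀ : z ∈ C₀ := ⟨X.mem, Subgroup.mem_centralizer_singleton_iff.2 R.comm.symm.eq⟩
  have hρY : ρ ∈ Y := ⟨⟨R.mem, fun y hy => by
    simp only [mem_insert, mem_singleton] at hy
    rcases hy with rfl | rfl <;> assumption⟩, Subgroup.mem_centralizer_singleton_iff.2 rfl⟩
  have h2 := two_group_of_frob (Y := Y) (Z := Subgroup.zpowers ρ) (C₀ := C₀) (Subgroup.zpowers_le.2 hρY)
    (fun w hw y hy => by
      obtain ⟨i, rfl⟩ := Subgroup.mem_zpowers_iff.1 hw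
      exact ((show Commute ρ y from (Subgroup.mem_centralizer_singleton_iff.1 hy.2).symm).zpow_left i))
    hC₀Y (fun h => elt_ne X.ez (by rwa [h, Subgroup.mem_bot] at hzC₀))
    ((X.hCm.symm ▸ S.odd).of_dvd_nat (Subgroup.card_dvd_of_le hC₀C))
    (by rw [Nat.card_zpowers, R.order]; decide)
    (by
      rw [Nat.card_zpowers, R.order]
      refine ((Nat.prime_three.coprime_iff_not_dvd.2 ?_).symm)
      exact fun h => X.three (h.trans (X.hCm ▸ Subgroup.card_dvd_of_le hC₀C)))
    (fun w hw hp g hg hgw => by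
      have hgN : g ∈ NG G w := mem_NG.2 ⟨hg.1.1, hgw⟩
      have hgρ : ρ * g = g * ρ := (Subgroup.mem_centralizer_singleton_iff.1 hg.2).symm
      have hgF := image_fixed_of_mem_NG hgN
      rw [X.same w hw.1 hp] at hgF
      have hga : g a = a ∨ g a = b ∨ g a = c := by
        by_contra h
        push Not at h
        have h1 : g a ∈ fixed z := hgF ▸ mem_image_of_mem g R.ha
        have h2 := R.others _ h1 h.1 h.2.1 h.2.2
        rw [← Equiv.Perm.mul_apply, hgρ, Equiv.Perm.mul_apply, R.mapa] at h2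
        exact R.ab (g.injective h2.symm)
      have hwρ : Commute ρ w := (Subgroup.mem_centralizer_singleton_iff.1 hw.2).symm
      -- reduce to an element fixing the four points
      have key : ∀ g' : Equiv.Perm α, g' ∈ G → ρ * g' = g' * ρ → g' d = d → g' a = a →
          g' * w * g'⁻¹ ∈ Subgroup.zpowers w → g' ∈ C₀ := fun g' hg' hρ' hgd hga' hgw' => by
        have hb' : g' b = b := by
          rw [← R.mapa, ← Equiv.Perm.mul_apply, ← hρ', Equiv.Perm.mul_apply, hga']
        have hc' : g' c = c := by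
          rw [← R.mapb, ← Equiv.Perm.mul_apply, ← hρ', Equiv.Perm.mul_apply, hb']
        have hwF := X.same w hw.1 hp
        have hq' : (insert d {a, b, c} : Finset α).card = 4 := by
          rw [card_insert_of_notMem (by simp [hdT.1, hdT.2.1, hdT.2.2]), R.card_T]
        have hsub : insert d ({a, b, c} : Finset α) ⊆ fixed w := by
          rw [hwF]; exact insert_subset hd R.T_sub
        have ew : Elt G m w (orderOf w) := ⟨(X.hC.le hw.1).1, hp, rfl,
          X.hCm ▸ Subgroup.orderOf_mk w hw.1 ▸ orderOf_dvd_natCard _, hq' ▸ card_le_card hsub⟩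
        have hfix : ∀ y ∈ insert d ({a, b, c} : Finset α), g' y = y := fun y hy => by
          simp only [mem_insert, mem_singleton] at hy
          rcases hy with rfl | rfl | rfl | rfl <;> assumption
        have hgN' : g' ∈ NG G w := mem_NG.2 ⟨hg', hgw'⟩
        have hall := (fix_four S ew hgN' hq' hsub hfix).2 (.inr
          (((Nat.prime_three.coprime_iff_not_dvd.2 X.three).symm).coprime_dvd_left
            (norm_odd S ew hq' hsub hgN' ⟨hg', hfix⟩)))
        rw [hwF] at hall
        exact ⟨norm_mem S X.hC hw.1 (fun h => hp.ne_one (by rw [h, orderOf_one]))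
          ⟨hg', fun y hy => hall y (X.sub hy)⟩ hgw', Subgroup.mem_centralizer_singleton_iff.2 hρ'.symm⟩
      have hgd : g d = d := hg.1.2 d (by simp)
      rcases hga with h | h | h
      · exact Subgroup.mem_sup_left (key g hg.1.1 hgρ hgd h hgw)
      · have h1 := key (ρ⁻¹ * g) (mul_mem (inv_mem R.mem) hg.1.1)
          (by rw [← mul_assoc, mul_inv_cancel, one_mul, mul_assoc, ← hgρ, inv_mul_cancel_left])
          (by rw [Equiv.Perm.mul_apply, hgd, Equiv.Perm.inv_def, Equiv.symm_apply_eq, hρd])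
          (by rw [Equiv.Perm.mul_apply, h, Equiv.Perm.inv_def, Equiv.symm_apply_eq, R.mapa])
          (by
            obtain ⟨i, hi⟩ := Subgroup.mem_zpowers_iff.1 hgw
            rw [show ρ⁻¹ * g * w * (ρ⁻¹ * g)⁻¹ = ρ⁻¹ * (g * w * g⁻¹) * ρ by group, ← hi, mul_assoc,
              ← (hwρ.zpow_right i).eq, inv_mul_cancel_left]
            exact Subgroup.zpow_mem _ (Subgroup.mem_zpowers w) i)
        have e1 : g = ρ * (ρ⁻¹ * g) := by group
        rw [e1]
        exact mul_mem (Subgroup.mem_sup_right (Subgroup.mem_zpowers ρ)) (Subgroup.mem_sup_left h1)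
      · have h1 := key (ρ * g) (mul_mem R.mem hg.1.1) (by rw [mul_assoc ρ g ρ, ← hgρ])
          (by rw [Equiv.Perm.mul_apply, hgd, hρd]) (by rw [Equiv.Perm.mul_apply, h, R.mapc])
          (by
            obtain ⟨i, hi⟩ := Subgroup.mem_zpowers_iff.1 hgw
            rw [show ρ * g * w * (ρ * g)⁻¹ = ρ * (g * w * g⁻¹) * ρ⁻¹ by group, ← hi,
              (hwρ.zpow_right i).eq, mul_inv_cancel_right]
            exact Subgroup.zpow_mem _ (Subgroup.mem_zpowers w) i)
        have e1 : g = ρ⁻¹ * (ρ * g) := by group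
        rw [e1]
        exact mul_mem (Subgroup.mem_sup_right (inv_mem (Subgroup.mem_zpowers ρ))) (Subgroup.mem_sup_left h1))
    (fun w hw w' hw' hp ho => by
      haveI := Fact.mk hp
      exact X.hC.prime_conj hC₀C hw hw' rfl ho)
  -- all four-point two-parts through `d`, `e`, `x` lie in one two-group
  set T2 := Subgroup.closure {g : Equiv.Perm α | g ∈ Y ∧ ∃ i, g ^ 2 ^ i = 1}
  have hdx : d ≠ x := fun h => hx (h ▸ hd)
  have hex : e ≠ x := fun h => hx (h ▸ he)
  have hT : ({d, e, x} : Finset α).card = 3 := card_eq_three.2 ⟨d, e, x, hde, hdx, hex, rfl⟩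
  obtain ⟨hfix, hinj⟩ := outside S X R.comm hx hρx
  have hbig := X.big
  have hy : ∀ j, 1 ≤ j → j < r → (z ^ j) x ∉ ({d, e, x} : Finset α) ∧
      PP G (insert ((z ^ j) x) {d, e, x}) ≤ T2 ⊓ fixG G {d, e, x} := fun j hj1 hjr => by
    have hnF : ∀ v ∈ fixed z, (z ^ j) x ≠ v := fun v hv h => hx (by
      have h1 : (z ^ j) v = v := Equiv.Perm.pow_apply_eq_self_of_apply_eq_self (mem_fixed.1 hv) j
      exact (z ^ j).injective (h.trans h1.symm) ▸ hv)
    have hne : (z ^ j) x ∉ ({d, e, x} : Finset α) := by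
      simp only [mem_insert, mem_singleton, not_or]
      refine ⟨hnF d hd, hnF e he, fun h => ?_⟩
      exact absurd (hinj j hjr 0 (by omega) (by simpa using h)) (by omega)
    refine ⟨hne, (Subgroup.closure_le _).2 ?_⟩
    rintro g ⟨hg, i, hi⟩
    have hqq : (insert ((z ^ j) x) {d, e, x} : Finset α).card = 4 := card_insert S hT hne
    refine ⟨Subgroup.subset_closure ⟨⟨fixG_anti (by simp [insert_subset_iff]) hg,
      Subgroup.mem_centralizer_singleton_iff.2 ?_⟩, i, hi⟩, fixG_anti (subset_insert _ _) hg⟩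
    obtain ⟨C', hC', hC'm⟩ := S.compl _ hqq
    have hρq : ρ ∈ fixG G (insert ((z ^ j) x) {d, e, x}) := ⟨R.mem, fun y hy => by
      simp only [mem_insert, mem_singleton] at hy
      rcases hy with rfl | rfl | rfl | rfl
      exacts [hfix j, hρd, hρe, hρx]⟩
    exact (hC'.commute hg hρq (hC'm.symm ▸ coprime_two S hi)
      (by rw [R.order, hC'm]; exact Nat.prime_three.coprime_iff_not_dvd.2 X.three)
      (by rw [R.order]; exact coprime_of_pow_eq_one Nat.prime_two hi (by norm_num))).eq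
  obtain ⟨h1, h1'⟩ := hy 1 le_rfl (by omega)
  obtain ⟨h2', h2''⟩ := hy 2 (by norm_num) (by omega)
  have := unique_pt S hT (h2.to_le inf_le_left) inf_le_right h1 h2' h1' h2''
  exact absurd (hinj 1 (by omega) 2 (by omega) this) (by norm_num)

theorem rot_fixed {a b c d e : α} {ρ : Equiv.Perm α} (R : Rot G z ρ a b c) (hd : d ∈ fixed z) (he : e ∈ fixed z)
    (hdT : d ∉ ({a, b, c} : Finset α)) (heT : e ∉ ({a, b, c} : Finset α)) (hde : d ≠ e) :
    fixed ρ = fixed z \ {a, b, c} := by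
  ext x
  rw [mem_sdiff, mem_fixed]
  refine ⟨fun h => ⟨?_, fun hT => ?_⟩, fun ⟨hF, hT⟩ => ?_⟩
  · by_contra hx
    exact rot_kill S X R hd he hdT heT hde hx h
  · simp only [mem_insert, mem_singleton] at hT
    rcases hT with rfl | rfl | rfl
    · exact R.ab (R.mapa ▸ h.symm : _)
    · exact R.bc (R.mapb ▸ h.symm : _)
    · exact R.ac (R.mapc ▸ h : _)
  · simp only [mem_insert, mem_singleton, not_or] at hT
    exact R.others x hF hT.1 hT.2.1 hT.2.2

omit X in
theorem R3_group {q : Finset α} (hq : q.card = 4) (h3 : ¬ 3 ∣ m) : IsPGroup 3 (R3 (fixG G q)) := by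
  haveI := Fact.mk Nat.prime_three
  obtain ⟨C, hC, hCm⟩ := S.compl q hq
  obtain ⟨K, hKH, -, hnil, -, hmem, -⟩ := hC.kernel
  haveI := hnil
  refine ((default : Sylow 3 K).isPGroup'.map K.subtype).to_le ((Subgroup.closure_le _).2 ?_)
  rintro g ⟨hg, i, hi⟩
  have hgK : g ∈ K := hmem g hg (hCm.symm ▸ coprime_of_pow_eq_one Nat.prime_three hi h3)
  obtain ⟨l, -, hl⟩ := (Nat.dvd_prime_pow Nat.prime_three).1 (orderOf_dvd_of_pow_eq_one hi)
  obtain ⟨P, hP⟩ := (IsPGroup.of_card (n := l) (by rw [Nat.card_zpowers, Subgroup.orderOf_mk, hl]) :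
    IsPGroup 3 (Subgroup.zpowers (⟨g, hgK⟩ : K))).exists_le_sylow
  haveI := Sylow.unique_of_normal (default : Sylow 3 K) inferInstance
  rw [Subsingleton.elim (default : Sylow 3 K) P]
  exact ⟨_, hP (Subgroup.mem_zpowers _), rfl⟩

omit S X in
theorem R3_map {g : Equiv.Perm α} (hg : g ∈ G) (q : Finset α) :
    (R3 (fixG G q)).map (cjm g) ≤ R3 (fixG G (q.image g)) := by
  rw [R3, MonoidHom.map_closure]
  refine Subgroup.closure_mono ?_
  rintro _ ⟨x, ⟨hx, i, hi⟩, rfl⟩
  exact ⟨map_fixG hg q ▸ Subgroup.mem_map_of_mem _ hx, i, by rw [← map_pow, hi, map_one]⟩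

/-- A three-element in the kernels fixes exactly four points, by induction on the degree. -/
theorem mod_three (IH : ∀ E : Finset α, E.card < Fintype.card α → ∀ G' : Subgroup (Equiv.Perm E), K4 G' m → 3 ∣ m)
    (h : 3 ∣ Nat.card (fixG G q)) : Fintype.card α % 3 = 1 := by
  classical
  haveI := Fact.mk Nat.prime_three
  set R := R3 (fixG G q) with hR
  have hRG : R ≤ fixG G q := (Subgroup.closure_le _).2 fun g hg => hg.1
  have hRp := R3_group S X.hq X.three
  set E := fixS R
  have hqE : q ⊆ E := (subset_fixS_fixG G q).trans (fixS_anti hRG)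
  have hn := fix_mod S hRp
  have key : ∀ q' : Finset α, q'.card = 4 → q' ⊆ E → R3 (fixG G q') = R := fun q' hq' hsub => by
    refine (Subgroup.eq_of_le_of_card_ge ((Subgroup.closure_le _).2 fun g hg => ?_) ?_).symm
    · refine Subgroup.subset_closure ⟨⟨hg.1.1, fun y hy => mem_fixS.1 (hsub hy) g (Subgroup.subset_closure hg)⟩, hg.2⟩
    · obtain ⟨x, hx, hxq⟩ := S.set.trans.exists_image hq' X.hq
      refine le_trans (Nat.card_congr ((R3 (fixG G q')).equivMapOfInjective (cjm x) (MulAut.conj x).injective).toEquiv).le ?_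
      have := R3_map (G := G) hx q'
      rw [hxq] at this
      exact Subgroup.card_le_of_le this
  have hE4 : ¬ 4 < E.card := fun hE => by
    have hK : K4 (indG G E) m := restrict S hE fun g hg q' hq' hsub himg => by
      have h1 := R3_map (G := G) hg q'
      have hc : (q'.image g).card = 4 := by rw [card_image_of_injective _ g.injective, hq']
      rw [key q' hq' hsub, key _ hc himg] at h1
      have h2 : R.map (cjm g) = R :=
        Subgroup.eq_of_le_of_card_ge h1
          (Nat.card_congr (R.equivMapOfInjective _ (MulAut.conj g).injective).toEquiv).le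
      rw [← map_fixS, h2]
    refine X.three (IH E ?_ _ hK)
    rw [← card_univ]
    refine card_lt_card (Finset.ssubset_univ_iff.2 fun hu => ?_)
    have hb : R = ⊥ := (Subgroup.eq_bot_iff_forall _).2 fun g hg => Equiv.ext fun y =>
      mem_fixS.1 (hu ▸ mem_univ y : y ∈ E) g hg
    obtain ⟨⟨w, hw⟩, ho⟩ := exists_prime_orderOf_dvd_card' (G := fixG G q) 3 h
    rw [Subgroup.orderOf_mk] at ho
    have : w ∈ R := Subgroup.subset_closure ⟨hw, 1, by rw [pow_one, ← ho, pow_orderOf_eq_one]⟩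
    rw [hb, Subgroup.mem_bot] at this
    rw [this, orderOf_one] at ho
    omega
  have : E.card = 4 := le_antisymm (not_lt.1 hE4) (X.hq ▸ card_le_card hqE)
  rw [this, Nat.ModEq] at hn
  omega

omit X in
theorem three_dvd_quad {y : Equiv.Perm α} (hy : y ∈ G) (hy3 : orderOf y = 3) {q' : Finset α} (hq' : q'.card = 4)
    (h : ∀ v ∈ q', y v = v) {q : Finset α} (hq : q.card = 4) : 3 ∣ Nat.card (fixG G q) := by
  rw [card_quad_eq S hq hq', ← hy3, ← Subgroup.orderOf_mk y (show y ∈ fixG G q' from ⟨hy, h⟩)]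
  exact orderOf_dvd_natCard _

end K4

end CfsgLib.FourFrob
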