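import Cfsg.Agent.Lib.FourFrob.FourNoThree

/-!
Blocks of four points: the fixed sets of five and six points, and the induction.
-/

set_option autoImplicit false
set_option linter.unusedSectionVars false
set_option linter.style.haveILetI false

namespace CfsgLib.FourFrob

open Finset
open CfsgSharpTrans (D4 fixed mem_fixed)

universe u

variable {α : Type u} [Fintype α] [DecidableEq α] {G : Subgroup (Equiv.Perm α)} {m : ℕ} {q : Finset α}
  {C : Subgroup (Equiv.Perm α)} {z ρ : Equiv.Perm α} {r : ℕ}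

theorem fixS_zpowers (g : Equiv.Perm α) : fixS (Subgroup.zpowers g) = fixed g := by
  ext y
  rw [mem_fixS, mem_fixed]
  refine ⟨fun h => h g (Subgroup.mem_zpowers g), fun h x hx => ?_⟩
  obtain ⟨j, rfl⟩ := Subgroup.mem_zpowers_iff.1 hx
  exact Equiv.Perm.zpow_apply_eq_self_of_apply_eq_self h j

theorem perm_pow_agree {F : Finset α} {g g' : Equiv.Perm α} (hF : ∀ v ∈ F, g' v ∈ F) (h : ∀ v ∈ F, g v = g' v) :
    ∀ (n : ℕ), ∀ v ∈ F, (g ^ n) v = (g' ^ n) v ∧ (g' ^ n) v ∈ F
  | 0, v, hv => ⟨rfl, hv⟩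
  | n + 1, v, hv => by
    obtain ⟨h1, h2⟩ := perm_pow_agree hF h n v hv
    rw [pow_succ', pow_succ', Equiv.Perm.mul_apply, Equiv.Perm.mul_apply, h1, h _ h2]
    exact ⟨rfl, hF _ h2⟩

namespace K4

variable (S : K4 G m) (X : Ctx G m q C z r)
include S X

theorem norm_normal {T : Finset α} {ρ : Equiv.Perm α} (hρT : ∀ n ∈ fixG G T, ρ * n * ρ⁻¹ ∈ fixG G T) (hρG : ρ ∈ G)
    (hρz : Commute ρ z) : ∀ n ∈ fixG G T ⊓ NG G z, ρ * n * ρ⁻¹ ∈ fixG G T ⊓ NG G z := fun n hn =>
  ⟨hρT n hn.1, (NG G z).mul_mem ((NG G z).mul_mem (cent_le_NG hρG hρz) hn.2)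
    ((NG G z).inv_mem (cent_le_NG hρG hρz))⟩

theorem case_five (IH : ∀ E : Finset α, E.card < Fintype.card α → ∀ G' : Subgroup (Equiv.Perm E), K4 G' m → 3 ∣ m)
    (hl : (fixed z).card = 5) : False := by
  classical
  haveI := Fact.mk Nat.prime_two
  haveI := Fact.mk Nat.prime_three
  obtain ⟨a, b, c, d, hd4, hq⟩ := card_four X.hq
  obtain ⟨hab, hac, had, hbc, hbd, hcd⟩ := hd4
  have hsub := X.sub
  rw [hq] at hsub
  simp only [insert_subset_iff, singleton_subset_iff] at hsub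
  obtain ⟨ha, hb, hc, hd⟩ := hsub
  obtain ⟨ρ, hρG, hρz, hρ3, e1, e2, e3, hoth⟩ := lift_three S X.ez X.three (by omega) (by omega) ha hb hc hab hac hbc
  have R : Rot G z ρ a b c := ⟨hρG, hρz, hρ3, ha, hb, hc, hab, hac, hbc, e1, e2, e3, hoth⟩
  have hdT : d ∉ ({a, b, c} : Finset α) := by simp [Ne.symm had, Ne.symm hbd, Ne.symm hcd]
  obtain ⟨e, hes, heT⟩ : ∃ e ∈ fixed z \ {a, b, c}, e ≠ d := by
    refine exists_mem_ne ?_ d
    rw [card_sdiff_of_subset R.T_sub, R.card_T, hl]; norm_num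
  obtain ⟨he, heT'⟩ := mem_sdiff.1 hes
  have hfix := rot_fixed S X R hd he hdT heT' (Ne.symm heT)
  have hmod := fix_mod S (p := 3) (R := Subgroup.zpowers ρ)
    (IsPGroup.of_card (n := 1) (by rw [Nat.card_zpowers, R.order, pow_one]))
  rw [fixS_zpowers, hfix, card_sdiff_of_subset R.T_sub, R.card_T, hl, Nat.ModEq] at hmod
  have h3H : ¬ 3 ∣ Nat.card (fixG G q) := fun h => by
    have := mod_three S X IH h
    omega
  have hT := R.card_T
  set T : Finset α := {a, b, c} with hTdef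
  have hqT : q = insert d T := by rw [hq, hTdef]; ext y; simp; tauto
  -- the three-point stabiliser has order prime to three
  have hM3 : ¬ 3 ∣ Nat.card (fixG G T) := by
    rw [S.set.trans.card_three hT hdT, ← hqT]
    intro h
    rcases Nat.prime_three.dvd_mul.1 h with h | h
    · have := gt_four S; omega
    · exact h3H h
  set N := fixG G T ⊓ NG G z with hN
  -- an element exchanging the two points
  have heven : 2 ∣ Nat.card N := by
    let D : fixed z := ⟨d, hd⟩
    let E : fixed z := ⟨e, he⟩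
    have hDE : D ≠ E := fun h => heT (congrArg Subtype.val h).symm
    have hp : Equiv.swap D E ∈ indG (NG G z) (fixed z) := by
      rcases fixed_cases S X.ez with ⟨-, h⟩ | ⟨h, -⟩ | ⟨h, -⟩
      · rw [h]; exact Subgroup.mem_top _
      · omega
      · omega
    obtain ⟨g, hg, hge⟩ := hp
    have hgT : g ∈ fixG G T := ⟨(mem_NG.1 hg).1, fun y hy => by
      rw [show g y = g ((⟨y, R.T_sub hy⟩ : fixed z) : α) from rfl, hge, Equiv.swap_apply_of_ne_of_ne]
      · intro h
        have h' : y = d := congrArg Subtype.val h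
        exact hdT (h' ▸ hy)
      · intro h
        have h' : y = e := congrArg Subtype.val h
        exact heT' (h' ▸ hy)⟩
    refine dvd_trans ?_ (Subgroup.orderOf_mk g (show g ∈ N from ⟨hgT, hg⟩) ▸ orderOf_dvd_natCard _)
    rw [← orderOf_eq_prime (p := 2) (by rw [sq, Equiv.swap_mul_self]) (fun h => hDE (Equiv.swap_eq_one_iff.1 h))]
    refine orderOf_dvd_of_pow_eq_one (Equiv.ext fun x => Subtype.ext ?_)
    rw [← indG_pow hge, pow_orderOf_eq_one]
    rfl
  have hA : ∀ {U : Subgroup (Equiv.Perm α)}, (∀ n ∈ U, ρ * n * ρ⁻¹ ∈ U) →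
      Subgroup.zpowers ρ ≤ Subgroup.normalizer (U : Set (Equiv.Perm α)) := fun h =>
    Subgroup.zpowers_le.2 (mem_normalizer_of_forall h)
  have hcop : ∀ {U : Subgroup (Equiv.Perm α)}, U ≤ fixG G T →
      (Nat.card (Subgroup.zpowers ρ)).Coprime (Nat.card U) := fun h => by
    rw [Nat.card_zpowers, R.order]
    exact Nat.prime_three.coprime_iff_not_dvd.2 fun h' => hM3 (h'.trans (Subgroup.card_dvd_of_le h))
  obtain ⟨P, hP⟩ := CfsgLib.coprime_exists_invariant_sylow (hA (norm_normal S X R.conj_fixG hρG hρz))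
    (hcop inf_le_left) (.inl inferInstance) 2
  obtain ⟨Q, hPQ, hQ⟩ := CfsgLib.coprime_le_invariant_sylow (hA R.conj_fixG) (hcop le_rfl) (.inl inferInstance)
    (p := 2) (U := (P : Subgroup N).map N.subtype) ((Subgroup.map_subtype_le _).trans inf_le_left)
    (P.isPGroup'.map N.subtype) hP
  obtain ⟨x, hxT, hx⟩ := exists_pt S hT (Q.isPGroup'.map (fixG G T).subtype) (Subgroup.map_subtype_le _)
  have hxq := card_insert S hT hxT
  have hPN : PP G (insert x T) ≤ fixG G T := (twoPart_le _).trans (fixG_anti (subset_insert x T))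
  have heq : PP G (insert x T) = (Q : Subgroup (fixG G T)).map (fixG G T).subtype := by
    refine le_antisymm (fun g hg => ?_) hx
    have he := Q.is_maximal' (Q := (PP G (insert x T)).subgroupOf (fixG G T))
      ((S.set.two _ hxq).of_equiv (Subgroup.subgroupOfEquivOfLe hPN).symm)
      (fun w hw => hx ⟨w, hw, rfl⟩)
    have hg' : (⟨g, hPN hg⟩ : fixG G T) ∈ (PP G (insert x T)).subgroupOf (fixG G T) := hg
    rw [he] at hg'
    exact ⟨_, hg', rfl⟩
  have hρS : ∀ w ∈ PP G (insert x T), ρ * w * ρ⁻¹ ∈ PP G (insert x T) := fun w hw => by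
    rw [heq] at hw ⊢
    exact (Subgroup.mem_normalizer_iff.1 (hQ (Subgroup.mem_zpowers ρ)) w).1 hw
  have himg : (insert x T).image ρ = insert x T := by
    refine PP_inj S (by rw [card_image_of_injective _ ρ.injective, hxq]) hxq ?_
    rw [← map_PP hρG]
    rintro _ ⟨w, hw, rfl⟩
    exact hρS w hw
  have hρx : ρ x = x := by
    have h : ρ x ∈ insert x T := himg ▸ mem_image_of_mem ρ (mem_insert_self x T)
    refine (mem_insert.1 h).resolve_right fun h => hxT ?_
    rw [show T = T.image ρ from R.image_T.symm] at h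
    obtain ⟨y, hy, hyx⟩ := mem_image.1 h
    exact ρ.injective hyx ▸ hy
  have hxF : x ∈ fixed z := by
    have h : x ∈ fixed ρ := mem_fixed.2 hρx
    rw [hfix] at h
    exact (mem_sdiff.1 h).1
  have hne : (P : Subgroup N) ≠ ⊥ := P.ne_bot_of_dvd_card heven
  haveI := (Subgroup.nontrivial_iff_ne_bot _).2 hne
  obtain ⟨⟨⟨t, ht⟩, htP⟩, ht1⟩ := exists_ne (1 : (P : Subgroup N))
  obtain ⟨i, hi⟩ := P.isPGroup' ⟨⟨t, ht⟩, htP⟩
  have htpow : t ^ 2 ^ i = 1 := by simpa using congrArg (fun w : (P : Subgroup N) => ((w : N) : Equiv.Perm α)) hi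
  have htPP : t ∈ PP G (insert x T) := heq ▸ hPQ ⟨⟨t, ht⟩, htP, rfl⟩
  have hdvd := norm_odd S X.ez hxq (insert_subset hxF R.T_sub) ht.2 (twoPart_le _ htPP)
  refine ht1 (Subtype.ext (Subtype.ext ?_))
  exact eq_one_of_coprime_pow htpow (orderOf_dvd_iff_pow_eq_one.1 hdvd)
    ((Nat.coprime_two_left.2 S.odd).pow_left i)

theorem case_six (IH : ∀ E : Finset α, E.card < Fintype.card α → ∀ G' : Subgroup (Equiv.Perm E), K4 G' m → 3 ∣ m)
    (hl : (fixed z).card = 6) : False := by
  classical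
  haveI := Fact.mk Nat.prime_two
  haveI := Fact.mk Nat.prime_three
  obtain ⟨a, b, c, d, hd4, hq⟩ := card_four X.hq
  obtain ⟨hab, hac, had, hbc, hbd, hcd⟩ := hd4
  have hsub := X.sub
  rw [hq] at hsub
  simp only [insert_subset_iff, singleton_subset_iff] at hsub
  obtain ⟨ha, hb, hc, hd⟩ := hsub
  have hdT : d ∉ ({a, b, c} : Finset α) := by simp [Ne.symm had, Ne.symm hbd, Ne.symm hcd]
  have hT : ({a, b, c} : Finset α).card = 3 := card_eq_three.2 ⟨a, b, c, hab, hac, hbc, rfl⟩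
  have hTF : ({a, b, c} : Finset α) ⊆ fixed z := by simp [insert_subset_iff, ha, hb, hc]
  obtain ⟨e, f, hef, hefD⟩ := card_eq_two.1 (show ((fixed z \ {a, b, c}).erase d).card = 2 by
    rw [card_erase_of_mem (mem_sdiff.2 ⟨hd, hdT⟩), card_sdiff_of_subset hTF, hT, hl])
  have hmem : ∀ v ∈ ({e, f} : Finset α), v ∈ fixed z ∧ v ∉ ({a, b, c} : Finset α) ∧ v ≠ d := fun v hv => by
    rw [← hefD] at hv
    obtain ⟨h1, h2⟩ := mem_erase.1 hv
    exact ⟨(mem_sdiff.1 h2).1, (mem_sdiff.1 h2).2, h1⟩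
  obtain ⟨he, heT, hed⟩ := hmem e (by simp)
  obtain ⟨hf, hfT, hfd⟩ := hmem f (by simp)
  have hsdiff : fixed z \ {a, b, c} = ({d, e, f} : Finset α) := by
    rw [← insert_erase (mem_sdiff.2 ⟨hd, hdT⟩), hefD]
  have hsdiff' : fixed z \ {d, e, f} = ({a, b, c} : Finset α) := by
    rw [← hsdiff, Finset.sdiff_sdiff_eq_self hTF]
  -- the lift of the second cycle
  obtain ⟨g, hgG, hgz, hg3, g1, g2, g3, hgo⟩ :=
    lift_three S X.ez X.three (by omega) (by omega) hd he hf (Ne.symm hed) (Ne.symm hfd) hef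
  have Rg : Rot G z g d e f := ⟨hgG, hgz, hg3, hd, he, hf, Ne.symm hed, Ne.symm hfd, hef, g1, g2, g3, hgo⟩
  obtain ⟨ρ₀, hρ₀G, hρ₀z, hρ₀3, e1, e2, e3, hoth⟩ :=
    lift_three S X.ez X.three (by omega) (by omega) ha hb hc hab hac hbc
  simp only [mem_insert, mem_singleton, not_or] at hdT heT hfT
  have hgT : ∀ v ∈ ({a, b, c} : Finset α), g v = v := fun v hv => by
    have hv' : v ∈ fixed z := hTF hv
    simp only [mem_insert, mem_singleton] at hv
    rcases hv with rfl | rfl | rfl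
    · exact hgo _ hv' (Ne.symm hdT.1) (Ne.symm heT.1) (Ne.symm hfT.1)
    · exact hgo _ hv' (Ne.symm hdT.2.1) (Ne.symm heT.2.1) (Ne.symm hfT.2.1)
    · exact hgo _ hv' (Ne.symm hdT.2.2) (Ne.symm heT.2.2) (Ne.symm hfT.2.2)
  have hρ₀D : ∀ v ∈ ({d, e, f} : Finset α), ρ₀ v = v := fun v hv => by
    simp only [mem_insert, mem_singleton] at hv
    rcases hv with rfl | rfl | rfl
    · exact hoth _ hd hdT.1 hdT.2.1 hdT.2.2
    · exact hoth _ he heT.1 heT.2.1 heT.2.2
    · exact hoth _ hf hfT.1 hfT.2.1 hfT.2.2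
  have hcases : ∀ v ∈ fixed z, v ∈ ({a, b, c} : Finset α) ∨ v ∈ ({d, e, f} : Finset α) := fun v hv => by
    by_cases h : v ∈ ({a, b, c} : Finset α)
    · exact .inl h
    · exact .inr (hsdiff ▸ mem_sdiff.2 ⟨hv, h⟩)
  have hgF : ∀ v ∈ fixed z, g v ∈ fixed z := fun v hv => by
    rw [mem_fixed] at hv ⊢
    rw [← Equiv.Perm.mul_apply, ← hgz.eq, Equiv.Perm.mul_apply, hv]
  have hρ₀F : ∀ v ∈ fixed z, ρ₀ v ∈ fixed z := fun v hv => by
    rw [mem_fixed] at hv ⊢
    rw [← Equiv.Perm.mul_apply, ← hρ₀z.eq, Equiv.Perm.mul_apply, hv]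
  have hcomm : ∀ v ∈ fixed z, ρ₀ (g v) = g (ρ₀ v) := fun v hv => by
    rcases hcases v hv with h | h
    · have h' : ρ₀ v ∈ ({a, b, c} : Finset α) := by
        simp only [mem_insert, mem_singleton] at h
        rcases h with rfl | rfl | rfl <;> simp [e1, e2, e3]
      rw [hgT v h, hgT _ h']
    · have h' : g v ∈ ({d, e, f} : Finset α) := by
        simp only [mem_insert, mem_singleton] at h
        rcases h with rfl | rfl | rfl <;> simp [g1, g2, g3]
      rw [hρ₀D v h, hρ₀D _ h']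
  -- conjugate to commute
  have hgn : g ∈ Subgroup.normalizer (C : Set (Equiv.Perm α)) := mem_normalizer_of_forall fun n hn => by
    refine mem_compl S X (mul_mem (mul_mem hgG (X.hC.le hn).1) (inv_mem hgG))
      ((hgz.mul_left (X.cen n hn)).mul_left hgz.inv_left) fun v hv => ?_
    have hv' : g⁻¹ v ∈ fixed z := by
      rw [mem_fixed] at hv ⊢
      rw [← Equiv.Perm.mul_apply, ← hgz.inv_left.eq, Equiv.Perm.mul_apply, hv]
    rw [Equiv.Perm.mul_apply, Equiv.Perm.mul_apply, X.triv n hn _ hv']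
    exact g.apply_symm_apply v
  have hC3 : ¬ 3 ∣ Nat.card C := X.hCm ▸ X.three
  obtain ⟨c₀, hc₀, hc₀g⟩ := conj_three hC3 hgn Rg.order
    (g' := ρ₀ * g * ρ₀⁻¹) (by rw [show ρ₀ * g * ρ₀⁻¹ = MulAut.conj ρ₀ g from rfl, MulEquiv.orderOf_eq, Rg.order])
    (mem_compl S X (mul_mem (inv_mem hgG) (mul_mem (mul_mem hρ₀G hgG) (inv_mem hρ₀G)))
      (hgz.inv_left.mul_left ((hρ₀z.mul_left hgz).mul_left hρ₀z.inv_left)) fun v hv => by
        obtain ⟨w, rfl⟩ := ρ₀.surjective v
        have hw : w ∈ fixed z := by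
          rw [mem_fixed] at hv ⊢
          refine ρ₀.injective ?_
          rw [← Equiv.Perm.mul_apply, hρ₀z.eq, Equiv.Perm.mul_apply, hv]
        simp only [Equiv.Perm.mul_apply, Equiv.Perm.inv_def, Equiv.symm_apply_apply]
        rw [Equiv.symm_apply_eq, hcomm w hw])
  set ρ₁ := c₀⁻¹ * ρ₀ with hρ₁
  have hρ₁z : Commute ρ₁ z := (X.cen c₀ hc₀).inv_left.mul_left hρ₀z
  have hρ₁g : Commute ρ₁ g := by
    refine mul_inv_eq_iff_eq_mul.1 ?_
    rw [hρ₁, show c₀⁻¹ * ρ₀ * g * (c₀⁻¹ * ρ₀)⁻¹ = c₀⁻¹ * (ρ₀ * g * ρ₀⁻¹) * c₀ by group, ← hc₀g]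
    group
  have hagree : ∀ v ∈ fixed z, ρ₁ v = ρ₀ v := fun v hv => by
    rw [hρ₁, Equiv.Perm.mul_apply, Equiv.Perm.inv_def, Equiv.symm_apply_eq, X.triv c₀ hc₀ _ (hρ₀F v hv)]
  have hρ₁G : ρ₁ ∈ G := mul_mem (inv_mem (X.hC.le hc₀).1) hρ₀G
  have hρ₁3 : ρ₁ ^ 3 ∈ C := mem_compl S X (pow_mem hρ₁G 3) (hρ₁z.pow_left 3) fun v hv => by
    rw [(perm_pow_agree hρ₀F hagree 3 v hv).1, hρ₀3]; rfl
  have hρ₁3m : ρ₁ ^ (3 * m) = 1 := by
    rw [pow_mul, ← X.hCm]
    exact congrArg Subtype.val (pow_card_eq_one' (x := (⟨_, hρ₁3⟩ : C)))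
  have hmm : m * m % 3 = 1 := by
    have h1 : m % 3 ≠ 0 := fun h => X.three (Nat.dvd_of_mod_eq_zero h)
    rw [Nat.mul_mod]
    rcases (show m % 3 = 1 ∨ m % 3 = 2 by omega) with h | h <;> rw [h]
  set ρ := ρ₁ ^ (m * m) with hρdef
  have hρagree : ∀ v ∈ fixed z, ρ v = ρ₀ v := fun v hv => by
    rw [hρdef, (perm_pow_agree hρ₀F hagree _ v hv).1, ← Nat.div_add_mod (m * m) 3, hmm, pow_add, pow_mul, hρ₀3,
      one_pow, one_mul, pow_one]
  have hρg : Commute ρ g := hρ₁g.pow_left _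
  have R : Rot G z ρ a b c := ⟨pow_mem hρ₁G _, hρ₁z.pow_left _,
    by rw [hρdef, ← pow_mul, show m * m * 3 = 3 * m * m by ring, pow_mul, hρ₁3m, one_pow], ha, hb, hc, hab, hac, hbc,
    by rw [hρagree a ha, e1], by rw [hρagree b hb, e2], by rw [hρagree c hc, e3],
    fun v hv h1 h2 h3 => by rw [hρagree v hv]; exact hoth v hv h1 h2 h3⟩
  have hρfix : fixed ρ = {d, e, f} := by
    rw [rot_fixed S X R hd he (by simp [hdT]) (by simp [heT]) (Ne.symm hed), hsdiff]
  have hgfix : fixed g = {a, b, c} := by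
    rw [rot_fixed S X Rg ha hb (by simp [Ne.symm hdT.1, Ne.symm heT.1, Ne.symm hfT.1])
      (by simp [Ne.symm hdT.2.1, Ne.symm heT.2.1, Ne.symm hfT.2.1]) hab, hsdiff']
  have hdef : ({d, e, f} : Finset α).card = 3 := card_eq_three.2 ⟨d, e, f, Ne.symm hed, Ne.symm hfd, hef, rfl⟩
  have hmod := fix_mod S (p := 3) (R := Subgroup.zpowers ρ)
    (IsPGroup.of_card (n := 1) (by rw [Nat.card_zpowers, R.order, pow_one]))
  rw [fixS_zpowers, hρfix, hdef, Nat.ModEq] at hmod
  have h3H : ¬ 3 ∣ Nat.card (fixG G q) := fun h => by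
    have := mod_three S X IH h
    omega
  -- the mixed products fix nothing
  have hmix : ∀ i j : ℤ, ρ ^ i * g ^ j ≠ 1 → ∀ x, (ρ ^ i * g ^ j) x = x →
      (g ^ j = 1 ∧ x ∈ ({d, e, f} : Finset α)) ∨ (ρ ^ i = 1 ∧ x ∈ ({a, b, c} : Finset α)) := by
    intro i j hne x hx
    by_cases hi : ρ ^ i = 1
    · refine .inr ⟨hi, ?_⟩
      rw [hi, one_mul] at hx hne
      rw [← hgfix, mem_fixed]
      rcases Rg.map_zpow j with h | h | h <;> rw [h] at hx hne
      · exact absurd rfl hne
      · exact hx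
      · exact (Equiv.symm_apply_eq g).1 hx |>.symm
    by_cases hj : g ^ j = 1
    · refine .inl ⟨hj, ?_⟩
      rw [hj, mul_one] at hx hne
      rw [← hρfix, mem_fixed]
      rcases R.map_zpow i with h | h | h <;> rw [h] at hx hne
      · exact absurd rfl hne
      · exact hx
      · exact (Equiv.symm_apply_eq ρ).1 hx |>.symm
    exfalso
    by_cases hxF : x ∈ fixed z
    · rcases hcases x hxF with h | h
      · rw [Equiv.Perm.mul_apply, Equiv.Perm.zpow_apply_eq_self_of_apply_eq_self (hgT x h) j] at hx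
        have h1 : ρ x = x := by
          rcases R.map_zpow i with h' | h' | h'
          · exact absurd h' hi
          · rwa [h'] at hx
          · rw [h'] at hx; exact ((Equiv.symm_apply_eq ρ).1 hx).symm
        have h2 : x ∈ ({d, e, f} : Finset α) := hρfix ▸ mem_fixed.2 h1
        rw [← hsdiff] at h2
        exact (mem_sdiff.1 h2).2 h
      · have hfixρ : ρ x = x := by rw [← mem_fixed, hρfix]; exact h
        rw [((hρg.zpow_left i).zpow_right j).eq, Equiv.Perm.mul_apply,
          Equiv.Perm.zpow_apply_eq_self_of_apply_eq_self hfixρ i] at hx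
        have h1 : g x = x := by
          rcases Rg.map_zpow j with h' | h' | h'
          · exact absurd h' hj
          · rwa [h'] at hx
          · rw [h'] at hx; exact ((Equiv.symm_apply_eq g).1 hx).symm
        have h2 : x ∈ ({a, b, c} : Finset α) := hgfix ▸ mem_fixed.2 h1
        rw [← hsdiff'] at h2
        exact (mem_sdiff.1 h2).2 h
    · obtain ⟨hfix, hinj⟩ := outside S X ((R.comm.zpow_left i).mul_left (Rg.comm.zpow_left j)) hxF hx
      have hbig := X.big
      set s := (Finset.range 4).image fun k => (z ^ k) x with hs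
      have hs4 : s.card = 4 := by
        rw [hs, card_image_of_injOn, card_range]
        intro u hu v hv huv
        rw [mem_coe, mem_range] at hu hv
        exact hinj u (by omega) v (by omega) huv
      have hord : orderOf (ρ ^ i * g ^ j) = 3 := by
        refine orderOf_eq_prime ?_ hne
        rw [((hρg.zpow_left i).zpow_right j).mul_pow, ← zpow_natCast, ← zpow_mul, mul_comm, zpow_mul, zpow_natCast,
          R.cube, one_zpow, one_mul, ← zpow_natCast, ← zpow_mul, mul_comm, zpow_mul, zpow_natCast, Rg.cube, one_zpow]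
      refine h3H (three_dvd_quad S (mul_mem (zpow_mem R.mem i) (zpow_mem hgG j)) hord hs4 (fun v hv => ?_) X.hq)
      obtain ⟨k, -, rfl⟩ := mem_image.1 hv
      exact hfix k
  set D := Subgroup.zpowers ρ ⊔ Subgroup.zpowers g with hD
  have hgρn : Subgroup.zpowers g ≤ Subgroup.normalizer (Subgroup.zpowers ρ : Set (Equiv.Perm α)) :=
    Subgroup.zpowers_le.2 (mem_normalizer_of_forall fun n hn => by
      obtain ⟨k, rfl⟩ := Subgroup.mem_zpowers_iff.1 hn
      rw [(hρg.symm.zpow_right k).eq, mul_inv_cancel_right]; exact Subgroup.zpow_mem _ (Subgroup.mem_zpowers ρ) k)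
  have hDmem : ∀ w ∈ D, ∃ i j : ℤ, ρ ^ i * g ^ j = w := fun w hw => by
    obtain ⟨u, hu, v, hv, e⟩ := CfsgLib.mem_sup_of_le_normalizer hgρn hw
    obtain ⟨i, rfl⟩ := Subgroup.mem_zpowers_iff.1 hu
    obtain ⟨j, rfl⟩ := Subgroup.mem_zpowers_iff.1 hv
    exact ⟨i, j, e⟩
  have hD3 : IsPGroup 3 D :=
    (IsPGroup.of_card (n := 1) (by rw [Nat.card_zpowers, R.order, pow_one])).to_sup_of_normal_left'
      (IsPGroup.of_card (n := 1) (by rw [Nat.card_zpowers, Rg.order, pow_one])) hgρn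
  have hD9 : 9 ∣ Nat.card D := by
    obtain ⟨l, hl⟩ := hD3.exists_card_eq
    have h1 : 3 ∣ Nat.card D := by
      have := Subgroup.card_dvd_of_le (le_sup_left : Subgroup.zpowers ρ ≤ D)
      rwa [Nat.card_zpowers, R.order] at this
    rcases (show l = 0 ∨ l = 1 ∨ 2 ≤ l by omega) with rfl | rfl | hl2
    · rw [hl] at h1; norm_num at h1
    · exfalso
      rw [pow_one] at hl
      have h2 := Subgroup.eq_of_le_of_card_ge (le_sup_left : Subgroup.zpowers ρ ≤ D)
        (by rw [Nat.card_zpowers, R.order, hl])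
      have h3 : g ∈ Subgroup.zpowers ρ := h2 ▸ Subgroup.mem_sup_right (Subgroup.mem_zpowers g)
      obtain ⟨i, hi⟩ := Subgroup.mem_zpowers_iff.1 h3
      have hρd : ρ d = d := by rw [← mem_fixed, hρfix]; simp
      rw [← hi, Equiv.Perm.zpow_apply_eq_self_of_apply_eq_self hρd i] at g1
      exact hed g1.symm
    · rw [hl]; exact (show (9 : ℕ) = 3 ^ 2 by norm_num) ▸ pow_dvd_pow 3 hl2
  -- `D` is semiregular outside the six points
  have hn9 : 9 ∣ Fintype.card α - 6 := by
    let O := {x : α // x ∉ fixed z}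
    have hDO : ∀ (w : D) (x : O), (w : Equiv.Perm α) x.1 ∉ fixed z := fun w x hwx => x.2 <| by
      obtain ⟨i, j, e⟩ := hDmem w w.2
      have hwz : Commute (w : Equiv.Perm α) z := e ▸ (R.comm.zpow_left i).mul_left (Rg.comm.zpow_left j)
      rw [mem_fixed] at hwx ⊢
      refine (w : Equiv.Perm α).injective ?_
      rw [← Equiv.Perm.mul_apply, hwz.eq, Equiv.Perm.mul_apply, hwx]
    letI : MulAction D O :=
      { smul := fun w x => ⟨(w : Equiv.Perm α) x.1, hDO w x⟩
        one_smul := fun _ => Subtype.ext rfl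
        mul_smul := fun _ _ _ => Subtype.ext rfl }
    have hfree : ∀ x : O, MulAction.stabilizer D x = ⊥ := fun x => by
      rw [Subgroup.eq_bot_iff_forall]
      intro w hw
      by_contra hw1
      obtain ⟨i, j, e⟩ := hDmem w w.2
      have hwx : (ρ ^ i * g ^ j) x.1 = x.1 := e ▸ congrArg Subtype.val hw
      rcases hmix i j (fun h => hw1 (Subtype.ext (e.symm.trans h))) x.1 hwx with ⟨-, h⟩ | ⟨-, h⟩
      · rw [← hsdiff] at h; exact x.2 (mem_sdiff.1 h).1
      · exact x.2 (hTF h)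
    have hO : Nat.card O = Fintype.card α - 6 := by
      rw [Nat.card_eq_fintype_card, Fintype.card_subtype_compl, Fintype.card_coe, hl]
    rw [← hO, Nat.card_congr (MulAction.selfEquivSigmaOrbitsQuotientStabilizer D O), Nat.card_sigma]
    refine hD9.trans (Finset.dvd_sum fun o _ => dvd_of_eq ?_)
    rw [← Subgroup.index_eq_card, hfree, Subgroup.index_bot]
  set T : Finset α := {a, b, c} with hTdef
  have hqT : q = insert d T := by rw [hq, hTdef]; ext y; simp; tauto
  have hgM : g ∈ fixG G T := ⟨hgG, hgT⟩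
  have hn6 : 6 ≤ Fintype.card α := hl ▸ (fixed z).card_le_univ
  have hM9 : ¬ 9 ∣ Nat.card (fixG G T) := by
    rw [S.set.trans.card_three hT (show d ∉ T by simp [hTdef, hdT]), ← hqT]
    obtain ⟨k, hk⟩ := hn9
    rw [show Fintype.card α - 3 = 3 * (3 * k + 1) by omega, mul_assoc, show (9 : ℕ) = 3 * 3 by rfl]
    intro h
    rcases Nat.prime_three.dvd_mul.1 (Nat.dvd_of_mul_dvd_mul_left (by norm_num) h) with h | h
    · omega
    · exact h3H h
  -- no element of the stabiliser inverts the lift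
  have hcen : ∀ y ∈ fixG G T, y * g * y⁻¹ ∈ Subgroup.zpowers g → (orderOf y).Coprime 3 → Commute y g := by
    intro y hy hyg _
    obtain ⟨k, hk⟩ := Subgroup.mem_zpowers_iff.1 hyg
    rcases Rg.map_zpow k with h | h | h
    · rw [h] at hk
      have h1 : g = 1 := by
        have h2 : y * g * y⁻¹ = 1 := hk.symm
        rwa [mul_inv_eq_one, mul_eq_left] at h2
      exact absurd (Rg.order) (by rw [h1, orderOf_one]; norm_num)
    · exact mul_inv_eq_iff_eq_mul.1 (hk.symm.trans h)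
    exfalso
    have hyinv : y * g * y⁻¹ = g⁻¹ := hk.symm.trans h
    set L := fixG G T ⊔ Subgroup.zpowers ρ with hL
    have hρn : Subgroup.zpowers ρ ≤ Subgroup.normalizer (fixG G T : Set (Equiv.Perm α)) :=
      Subgroup.zpowers_le.2 (mem_normalizer_of_forall R.conj_fixG)
    have hLcard : Nat.card L ∣ Nat.card (fixG G T) * 3 := by
      haveI hn : ((fixG G T).subgroupOf L).Normal :=
        (Subgroup.normal_subgroupOf_iff_le_normalizer le_sup_left).2 (sup_le Subgroup.le_normalizer hρn)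
      rw [← ((fixG G T).subgroupOf L).card_mul_index,
        Nat.card_congr (Subgroup.subgroupOfEquivOfLe (le_sup_left : fixG G T ≤ L)).toEquiv]
      refine mul_dvd_mul_left _ ?_
      rw [Subgroup.index_eq_card, ← R.order, ← Nat.card_zpowers]
      refine Subgroup.card_dvd_of_surjective
        ((QuotientGroup.mk' ((fixG G T).subgroupOf L)).comp (Subgroup.inclusion (le_sup_right : Subgroup.zpowers ρ ≤ L)))
        fun w => ?_
      obtain ⟨⟨w, hw⟩, rfl⟩ := QuotientGroup.mk'_surjective _ w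
      obtain ⟨u, hu, v, hv, e⟩ := CfsgLib.mem_sup_of_le_normalizer hρn hw
      refine ⟨⟨v, hv⟩, (QuotientGroup.eq (s := (fixG G T).subgroupOf L)).2 ?_⟩
      show v⁻¹ * w ∈ fixG G T
      rw [← e, ← mul_assoc]
      have := (Subgroup.mem_normalizer_iff.1 (inv_mem (hρn hv)) u).1 hu
      simpa using this
    set Γ := L ⊓ Subgroup.centralizer {g} with hΓ
    have hρΓ : ρ ∈ Γ := ⟨Subgroup.mem_sup_right (Subgroup.mem_zpowers ρ),
      Subgroup.mem_centralizer_singleton_iff.2 hρg.eq⟩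
    have hgΓ : g ∈ Γ := ⟨Subgroup.mem_sup_left hgM, Subgroup.mem_centralizer_singleton_iff.2 rfl⟩
    have hDΓ : D ≤ Γ := sup_le (Subgroup.zpowers_le.2 hρΓ) (Subgroup.zpowers_le.2 hgΓ)
    have h27 : ¬ 27 ∣ Nat.card Γ := fun h27 => hM9 (Nat.dvd_of_mul_dvd_mul_right (by norm_num)
      (show 9 * 3 ∣ Nat.card (fixG G T) * 3 from (h27.trans (Subgroup.card_dvd_of_le inf_le_left)).trans hLcard))
    have hsyl : ∀ P : Sylow 3 Γ, Nat.card (P : Subgroup Γ) ≤ 9 := fun P => by
      obtain ⟨l, hl⟩ := P.isPGroup'.exists_card_eq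
      rw [hl]
      by_contra hlt
      rcases (show l ≤ 2 ∨ 3 ≤ l by omega) with h' | h'
      · exact hlt ((Nat.pow_le_pow_right (by norm_num) h').trans (by norm_num))
      · exact h27 (((show (27 : ℕ) = 3 ^ 3 by norm_num) ▸ pow_dvd_pow 3 h' : 27 ∣ 3 ^ l).trans
          (hl ▸ Subgroup.card_subgroup_dvd_card _))
    have hDP : ∀ U : Subgroup (Equiv.Perm α), U ≤ Γ → IsPGroup 3 U → 9 ∣ Nat.card U →
        ∃ P : Sylow 3 Γ, (P : Subgroup Γ) = U.subgroupOf Γ := fun U hU hU3 h9 => by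
      obtain ⟨P, hP⟩ := (hU3.of_equiv (Subgroup.subgroupOfEquivOfLe hU).symm).exists_le_sylow
      refine ⟨P, (Subgroup.eq_of_le_of_card_ge hP ?_).symm⟩
      rw [Nat.card_congr (Subgroup.subgroupOfEquivOfLe hU).toEquiv]
      exact (hsyl P).trans (Nat.le_of_dvd Nat.card_pos h9)
    set D' := D.map (cjm y) with hD'
    have hD'Γ : D' ≤ Γ := by
      rw [hD', hD, Subgroup.map_sup, MonoidHom.map_zpowers, MonoidHom.map_zpowers]
      refine sup_le (Subgroup.zpowers_le.2 ?_) (Subgroup.zpowers_le.2 ?_)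
      · refine ⟨L.mul_mem (L.mul_mem (Subgroup.mem_sup_left hy) hρΓ.1) (L.inv_mem (Subgroup.mem_sup_left hy)),
          Subgroup.mem_centralizer_singleton_iff.2 ?_⟩
        have h1 : Commute (y * ρ * y⁻¹) (y * g * y⁻¹) := hρg.map (MulAut.conj y)
        rw [hyinv, Commute.inv_right_iff] at h1
        exact h1.eq
      · rw [cjm_apply, hyinv]; exact inv_mem hgΓ
    obtain ⟨P, hP⟩ := hDP D hDΓ hD3 hD9
    obtain ⟨P', hP'⟩ := hDP D' hD'Γ (hD3.map _)
      (by rw [hD', ← Nat.card_congr (D.equivMapOfInjective (cjm y) (MulAut.conj y).injective).toEquiv]; exact hD9)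
    obtain ⟨h₁, hh₁⟩ := MulAction.exists_smul_eq Γ P P'
    set u : Equiv.Perm α := (h₁ : Equiv.Perm α)⁻¹ * y with hu
    have hug : u * g * u⁻¹ = g⁻¹ := by
      have hc : Commute (h₁ : Equiv.Perm α) g := Subgroup.mem_centralizer_singleton_iff.1 h₁.2.2
      rw [hu, show (h₁ : Equiv.Perm α)⁻¹ * y * g * ((h₁ : Equiv.Perm α)⁻¹ * y)⁻¹ =
        (h₁ : Equiv.Perm α)⁻¹ * (y * g * y⁻¹) * h₁ by group, hyinv, mul_assoc, ← (hc.inv_right).eq,
        inv_mul_cancel_left]
    have huD : ∀ w ∈ D, u * w * u⁻¹ ∈ D := fun w hw => by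
      have h1 : (⟨y * w * y⁻¹, hD'Γ ⟨w, hw, rfl⟩⟩ : Γ) ∈ (P' : Subgroup Γ) := by
        rw [hP']; exact ⟨w, hw, rfl⟩
      rw [← hh₁, Sylow.coe_subgroup_smul, CfsgLib.mem_conj_smul_iff, hP] at h1
      have h2 : (h₁ : Equiv.Perm α)⁻¹ * (y * w * y⁻¹) * h₁ ∈ D := h1
      rw [hu]
      convert h2 using 1
      group
    -- drop the rotation
    have huL : u ∈ L := L.mul_mem (L.inv_mem h₁.2.1) (Subgroup.mem_sup_left hy)
    obtain ⟨x, hx, v, hv, hxv⟩ := CfsgLib.mem_sup_of_le_normalizer hρn huL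
    obtain ⟨i₀, rfl⟩ := Subgroup.mem_zpowers_iff.1 hv
    have hxu : x = u * (ρ ^ i₀)⁻¹ := by rw [← hxv, mul_inv_cancel_right]
    have hxg : x * g * x⁻¹ = g⁻¹ := by
      rw [hxu, show u * (ρ ^ i₀)⁻¹ * g * (u * (ρ ^ i₀)⁻¹)⁻¹ = u * ((ρ ^ i₀)⁻¹ * g * ρ ^ i₀) * u⁻¹ by group,
        ((hρg.zpow_left i₀).inv_left).eq, inv_mul_cancel_right, hug]
    have hxρD : x * ρ * x⁻¹ ∈ D := by
      rw [hxu, show u * (ρ ^ i₀)⁻¹ * ρ * (u * (ρ ^ i₀)⁻¹)⁻¹ = u * ((ρ ^ i₀)⁻¹ * ρ * ρ ^ i₀) * u⁻¹ by group,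
        ((Commute.refl ρ).zpow_left i₀).inv_left.eq, inv_mul_cancel_right]
      exact huD ρ (Subgroup.mem_sup_left (Subgroup.mem_zpowers ρ))
    obtain ⟨i, j, hij⟩ := hDmem _ hxρD
    have hxT : ∀ v ∈ T, x v = v := hx.2
    have hρd : ρ d = d := by rw [← mem_fixed, hρfix]; simp
    have hconj : ∀ v, ρ v = v → (ρ ^ i * g ^ j) (x v) = x v := fun v hv => by
      rw [hij, CfsgSharpTrans.conj_at x ρ rfl, hv]
    have hxd : x d ∉ T := fun h => (by simp [hTdef, hdT] : d ∉ T) (x.injective (hxT _ h) ▸ h)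
    have hne : ρ ^ i * g ^ j ≠ 1 := by
      rw [hij]
      intro h
      rw [mul_inv_eq_one, mul_eq_left] at h
      exact absurd R.order (by rw [h, orderOf_one]; norm_num)
    have hgj : g ^ j = 1 := by
      rcases hmix i j hne (x d) (hconj d hρd) with ⟨h, -⟩ | ⟨-, h⟩
      · exact h
      · exact absurd h hxd
    have hxρ : Commute x ρ := by
      rw [hgj, mul_one] at hij
      have hab' : (x * ρ * x⁻¹) a = b := by
        rw [CfsgSharpTrans.conj_at x ρ (hxT a (by simp [hTdef])), R.mapa, hxT b (by simp [hTdef])]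
      rcases R.map_zpow i with h | h | h <;> rw [h] at hij
      · rw [← hij] at hab'; exact absurd hab' hab
      · exact mul_inv_eq_iff_eq_mul.1 hij.symm
      · rw [← hij, Equiv.Perm.inv_def, Equiv.symm_apply_eq, R.mapb] at hab'; exact absurd hab' hac
    have hxperm : ∀ v ∈ ({d, e, f} : Finset α), x v ∈ ({d, e, f} : Finset α) := fun v hv => by
      rw [← hρfix, mem_fixed] at hv ⊢
      rw [← Equiv.Perm.mul_apply, ← hxρ.eq, Equiv.Perm.mul_apply, hv]
    have hxgv : ∀ v, x (g v) = g⁻¹ (x v) := fun v => by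
      rw [← Equiv.Perm.mul_apply, mul_inv_eq_iff_eq_mul.1 hxg, Equiv.Perm.mul_apply]
    obtain ⟨v, hv, hxv⟩ : ∃ v ∈ ({d, e, f} : Finset α), x v = v := by
      have h := hxperm d (by simp)
      simp only [mem_insert, mem_singleton] at h
      rcases h with h | h | h
      · exact ⟨d, by simp, h⟩
      · refine ⟨f, by simp, ?_⟩
        have h1 := hxgv d
        rw [g1, h, Equiv.Perm.inv_def, (Equiv.symm_apply_eq g).2 g1.symm] at h1
        have h2 := hxgv e
        rw [g2, h1, Equiv.Perm.inv_def, (Equiv.symm_apply_eq g).2 g3.symm] at h2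
        exact h2
      · refine ⟨e, by simp, ?_⟩
        have h1 := hxgv d
        rw [g1, h, Equiv.Perm.inv_def, (Equiv.symm_apply_eq g).2 g2.symm] at h1
        exact h1
    -- the other two points
    set w := g v with hw
    set w' := g⁻¹ v with hw'
    have hgv : g v ≠ v := fun h => by
      have h1 : v ∈ fixed g := mem_fixed.2 h
      rw [hgfix, ← hsdiff'] at h1
      exact (mem_sdiff.1 h1).2 hv
    have hww : x w = w' := by rw [hw, hxgv, hxv, hw']
    have hw'w : x w' = w := by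
      have h1 := hxgv w'
      rw [hw', Equiv.Perm.inv_def, Equiv.apply_symm_apply, hxv, eq_comm, Equiv.symm_apply_eq] at h1
      rw [hw', hw, Equiv.Perm.inv_def]
      exact h1
    have hne' : w ≠ w' := fun h => hgv <| by
      have h2 : g (g v) = v := by
        rw [← hw, h, hw', ← Equiv.Perm.mul_apply, mul_inv_cancel, Equiv.Perm.one_apply]
      have h3 : (g ^ 3) v = g v := by
        rw [pow_succ', pow_succ', pow_one, Equiv.Perm.mul_apply, Equiv.Perm.mul_apply, h2]
      rw [Rg.cube] at h3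
      exact h3.symm
    have heven : 2 ∣ orderOf x := by
      by_contra h
      refine hne' ?_
      have h' : x (x w) = w := by rw [hww, hw'w]
      rw [← hww, CfsgFourTransOdd.fix_of_sq (Nat.odd_iff.2 (by omega)) h']
    obtain ⟨j', k', hj', hjk, hj1⟩ := exists_two_power heven
    set t := x ^ j' with ht
    have htw : t w = w' := by
      obtain ⟨k, rfl⟩ := hj'
      have : ∀ n : ℕ, (x ^ (2 * n)) w = w := fun n => by
        induction n with
        | zero => rfl
        | succ n ih => rw [mul_add, mul_one, pow_add, sq, Equiv.Perm.mul_apply, Equiv.Perm.mul_apply, hww, hw'w, ih]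
      rw [ht, pow_succ', Equiv.Perm.mul_apply, this, hww]
    have hvT : v ∉ T := by
      rw [← hsdiff] at hv
      exact (mem_sdiff.1 hv).2
    have hvq : (insert v T).card = 4 := card_insert S hT hvT
    have htfix : t ∈ fixG G (insert v T) := ⟨pow_mem hx.1 _, fun y hy => by
      rcases mem_insert.1 hy with rfl | hy
      · exact Equiv.Perm.pow_apply_eq_self_of_apply_eq_self hxv _
      · exact Equiv.Perm.pow_apply_eq_self_of_apply_eq_self (hxT y hy) _⟩
    have hvF : v ∈ fixed z := by rw [← hsdiff] at hv; exact (mem_sdiff.1 hv).1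
    have hzq : z ∈ fixG G (insert v T) := elt_mem S X.ez (insert_subset hvF hTF)
    set W := PP G (insert v T) ⊓ Subgroup.centralizer {ρ} with hW
    have hwD : w ∈ ({d, e, f} : Finset α) := by
      simp only [mem_insert, mem_singleton] at hv
      rcases hv with rfl | rfl | rfl <;> simp [hw, g1, g2, g3]
    have hw'D : w' ∈ ({d, e, f} : Finset α) := hww ▸ hxperm w hwD
    have hF' : ∀ y ∈ ({d, e, f} : Finset α), y = v ∨ y = w ∨ y = w' := by
      have hsub : ({v, w, w'} : Finset α) ⊆ {d, e, f} := by simp [insert_subset_iff, hv, hwD, hw'D]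
      have hc : ({v, w, w'} : Finset α).card = 3 := by
        refine card_eq_three.2 ⟨v, w, w', fun h => hgv h.symm, fun h => hgv ?_, hne', rfl⟩
        exact ((Equiv.symm_apply_eq g).1 (h.symm : g⁻¹ v = v)).symm
      have he' := eq_of_subset_of_card_le hsub (by rw [hc, hdef])
      intro y hy
      rw [← he'] at hy
      simpa using hy
    have hzρ : Commute z ρ := R.comm.symm
    refine hne' (((fix_pair (W := W) ((S.set.two _ hvq).to_le inf_le_left) X.ez.prime (ne_two S X.ez) X.ez.order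
      ?_ ?_ (e := w) (f := w') ?_ ?_ hne' ?_) t ⟨le_twoPart ?_ ?_ (Subgroup.mem_zpowers t), ?_⟩).symm.trans htw)
    · intro u hu
      refine ⟨?_, Subgroup.mem_centralizer_singleton_iff.2
        ((hzρ.mul_left (show Commute u ρ from Subgroup.mem_centralizer_singleton_iff.1 hu.2)).mul_left
          hzρ.inv_left).eq⟩
      have himg : (insert v T).image z = insert v T := by
        refine (image_congr fun y hy => ?_).trans image_id
        exact hzq.2 y hy
      have := map_PP hzq.1 (insert v T)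
      rw [himg] at this
      rw [← this]
      exact ⟨u, hu.1, rfl⟩
    · intro u hu huz
      by_contra hu1
      obtain ⟨i', hi'⟩ := S.set.two _ hvq ⟨u, hu.1⟩
      exact not_commute S hvq hzq X.ez.prime X.ez.order X.ez.dvd (twoPart_le _ hu.1) hu1
        (congrArg Subtype.val hi') huz
    · exact mem_fixed.1 (by rw [← hsdiff] at hwD; exact (mem_sdiff.1 hwD).1)
    · exact mem_fixed.1 (by rw [← hsdiff] at hw'D; exact (mem_sdiff.1 hw'D).1)
    · intro u hu
      have hu' : u w ∈ ({d, e, f} : Finset α) := by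
        rw [← hρfix, mem_fixed] at hwD ⊢
        rw [← Equiv.Perm.mul_apply, ← (Subgroup.mem_centralizer_singleton_iff.1 hu.2), Equiv.Perm.mul_apply, hwD]
      rcases hF' _ hu' with h | h | h
      · have huv : u v = v := (twoPart_le _ hu.1).2 v (mem_insert_self v T)
        exact absurd (u.injective (h.trans huv.symm)) hgv
      · exact .inl h
      · exact .inr h
    · obtain ⟨l, -, hl⟩ := (Nat.dvd_prime_pow Nat.prime_two).1 (orderOf_dvd_of_pow_eq_one hjk)
      exact IsPGroup.of_card (n := l) (by rw [Nat.card_zpowers, hl])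
    · exact Subgroup.zpowers_le.2 htfix
    · exact Subgroup.mem_centralizer_singleton_iff.2 (hxρ.pow_left j').eq
  -- the normal three-complement
  obtain ⟨N, hNM, -, hNcop, hN⟩ := exists_complement (X := fixG G T) (R := Subgroup.zpowers g)
    (Subgroup.zpowers_le.2 hgM) (IsPGroup.of_card (n := 1) (by rw [Nat.card_zpowers, Rg.order, pow_one]))
    (fun y hy hyn hyp => by
      obtain ⟨l, hl⟩ := hyp
      obtain ⟨l', -, hl'⟩ := (Nat.dvd_prime_pow Nat.prime_three).1 (orderOf_dvd_of_pow_eq_one hl)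
      have hU := (IsPGroup.of_card (n := 1) (by rw [Nat.card_zpowers, Rg.order, pow_one]) :
        IsPGroup 3 (Subgroup.zpowers g)).to_sup_of_normal_left'
          (IsPGroup.of_card (n := l') (by rw [Nat.card_zpowers, hl'])) (Subgroup.zpowers_le.2 hyn)
      obtain ⟨k, hk⟩ := hU.exists_card_eq
      have hle : Subgroup.zpowers g ⊔ Subgroup.zpowers y ≤ fixG G T :=
        sup_le (Subgroup.zpowers_le.2 hgM) (Subgroup.zpowers_le.2 hy)
      have hk1 : k ≤ 1 := by
        by_contra hk1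
        exact hM9 (((show (9 : ℕ) = 3 ^ 2 by norm_num) ▸ pow_dvd_pow 3 (show 2 ≤ k by omega) : 9 ∣ 3 ^ k).trans
          (hk ▸ Subgroup.card_dvd_of_le hle))
      have heq := Subgroup.eq_of_le_of_card_ge
        (le_sup_left : Subgroup.zpowers g ≤ Subgroup.zpowers g ⊔ Subgroup.zpowers y)
        (by rw [hk, Nat.card_zpowers, Rg.order]; exact Nat.pow_le_pow_right (by norm_num) hk1 |>.trans (by norm_num))
      rw [heq]
      exact Subgroup.mem_sup_right (Subgroup.mem_zpowers y))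
    (Subgroup.mem_zpowers g) Rg.order hcen
  have hN3 : ∀ y ∈ N, y ^ 3 = 1 → y = 1 := fun y hy h =>
    eq_one_of_coprime_pow (congrArg Subtype.val (pow_card_eq_one' (x := (⟨y, hy⟩ : N)))) h hNcop
  have hCN : C ≤ N := fun x hx => hN x (fixG_anti (hqT ▸ subset_insert d T) (X.hC.le hx)) (by
    refine (Nat.prime_three.coprime_iff_not_dvd.2 fun h => X.three (h.trans ?_)).symm
    rw [← X.hCm, ← Subgroup.orderOf_mk x hx]
    exact orderOf_dvd_natCard _)
  refine frob_kill S hT hNM (fun y hy i hi => hN y hy (coprime_of_pow_eq_one Nat.prime_two hi (by norm_num))) X.hC X.hCm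
    le_rfl hCN X.hC.ne_bot fun w hw hp y hy hyw => ?_
  have hwF := X.same w hw hp
  have hyM := hNM hy
  have hyN : y ∈ NG G w := mem_NG.2 ⟨hyM.1, hyw⟩
  have hyF := image_fixed_of_mem_NG hyN
  rw [hwF] at hyF
  have hyd : y d ∈ ({d, e, f} : Finset α) := by
    rw [← hsdiff, mem_sdiff]
    refine ⟨hyF ▸ mem_image_of_mem y hd, fun h => ?_⟩
    have h1 := y.injective (hyM.2 _ h)
    exact (by simp [hTdef, hdT] : d ∉ T) (h1 ▸ h)
  obtain ⟨i, hi⟩ : ∃ i : ℤ, (g ^ i) (y d) = d := by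
    simp only [mem_insert, mem_singleton] at hyd
    rcases hyd with h | h | h <;> rw [h]
    · exact ⟨0, rfl⟩
    · exact ⟨-1, by rw [zpow_neg_one, Equiv.Perm.inv_def, (Equiv.symm_apply_eq g).2 g1.symm]⟩
    · exact ⟨1, by rw [zpow_one, g3]⟩
  have hgi : g ^ i * y ∈ C := by
    refine X.hC.ti hw (fun h => hp.ne_one (by rw [h, orderOf_one]))
      ⟨mul_mem (zpow_mem hgG i) hyM.1, fun v hv => ?_⟩ ?_
    · rw [hqT, mem_insert] at hv
      rcases hv with rfl | hv
      · exact hi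
      · rw [Equiv.Perm.mul_apply, hyM.2 v hv, Equiv.Perm.zpow_apply_eq_self_of_apply_eq_self (hgT v hv) i]
    · rw [show g ^ i * y * w * (g ^ i * y)⁻¹ = g ^ i * (y * w * y⁻¹) * (g ^ i)⁻¹ by group]
      exact (Subgroup.mem_normalizer_iff.1 (zpow_mem hgn i) _).1 (Subgroup.zpowers_le.2 hw hyw)
  have hgiN : g ^ i ∈ N := by
    have := mul_mem (hCN hgi) (inv_mem hy)
    rwa [mul_inv_cancel_right] at this
  have hgi1 := hN3 _ hgiN (by rw [← zpow_natCast, ← zpow_mul, mul_comm, zpow_mul, zpow_natCast, hg3, one_zpow])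
  rwa [hgi1, one_mul] at hgi

end K4

theorem three_dvd_aux : ∀ n : ℕ, ∀ {β : Type u} [Fintype β] [DecidableEq β] {H : Subgroup (Equiv.Perm β)} {k : ℕ},
    Fintype.card β = n → K4 H k → 3 ∣ k := by
  intro n
  induction n using Nat.strong_induction_on with
  | _ n ih =>
    intro β _ _ H k hn S
    by_contra h3
    obtain ⟨q₀, -, hq⟩ := exists_subset_card_eq (show 4 ≤ (univ : Finset β).card by rw [card_univ]; exact S.four)
    obtain ⟨C₀, z₀, r₀, X⟩ := S.ctx_exists h3 hq
    have IH : ∀ E : Finset β, E.card < Fintype.card β → ∀ G' : Subgroup (Equiv.Perm E), K4 G' k → 3 ∣ k :=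
      fun E hE G' S' => ih E.card (hn ▸ hE) (Fintype.card_coe E) S'
    have hl := S.fixed_mem X.ez
    simp only [mem_insert, mem_singleton] at hl
    rcases hl with h | h | h | h | h
    · exact S.case_four X h
    · exact S.case_five X IH h
    · exact S.case_six X IH h
    · exact S.case_big X (.inl h)
    · exact S.case_big X (.inr h)

/-- Three divides the order of the complements. -/
theorem K4.three_dvd (S : K4 G m) : 3 ∣ m := three_dvd_aux _ rfl S

end CfsgLib.FourFrob
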