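import Cfsg.Agent.Lib.FourFrob.FourSmall

/-!
Blocks of four points: no element of order three fixes six points.
-/

set_option autoImplicit false
set_option linter.unusedSectionVars false
set_option linter.style.haveILetI false

namespace CfsgLib.FourFrob

open Finset
open CfsgSharpTrans (D4 fixed mem_fixed)

universe u

variable {α : Type u} [Fintype α] [DecidableEq α]

/-- The fixed points outside those of a centralised element move along with conjugation. -/
theorem out_conj {σ c u : Equiv.Perm α} (h : Commute σ c) :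
    fixed (σ * u * σ⁻¹) \ fixed c = (fixed u \ fixed c).image σ := by
  rw [image_sdiff _ _ σ.injective, CfsgSharpTrans.fixed_conj, ← CfsgSharpTrans.fixed_conj σ c, h.eq,
    mul_inv_cancel_right]

theorem conj_commute {σ c u : Equiv.Perm α} (h : Commute σ c) (hu : Commute u c) : Commute (σ * u * σ⁻¹) c :=
  (h.mul_left hu).mul_left h.inv_left

theorem conj_mul_of_commute {σ c u : Equiv.Perm α} (h : Commute σ c) (i : ℤ) :
    σ * (u * c ^ i) * σ⁻¹ = σ * u * σ⁻¹ * c ^ i := by
  calc σ * (u * c ^ i) * σ⁻¹ = σ * u * (c ^ i * σ⁻¹) := by group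
    _ = σ * u * (σ⁻¹ * c ^ i) := by rw [((h.inv_left.zpow_right i).eq)]
    _ = _ := by group

variable {G : Subgroup (Equiv.Perm α)} {m : ℕ} {q : Finset α} {C : Subgroup (Equiv.Perm α)}
  {c δ y : Equiv.Perm α} {a b x d e : α}

theorem Pair.swap (P : Pair G c δ a b x d e) {f : α} (hf : f ∈ fixed c) (hfT : f ∉ ({a, b, x} : Finset α))
    (hfd : f ≠ d) (hfe : f ≠ e) : Pair G c δ d e f a b := by
  have hd := P.hdT; have he := P.heT
  simp only [mem_insert, mem_singleton, not_or] at hd he hfT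
  exact ⟨P.mem, P.comm, P.sq, P.hd, P.he, hf, P.ha, P.hb, P.de, hfd.symm, hfe.symm, P.ab,
    by simp [Ne.symm hd.1, Ne.symm he.1, Ne.symm hfT.1], by simp [Ne.symm hd.2.1, Ne.symm he.2.1, Ne.symm hfT.2.1],
    P.mapd, P.mapa, fun z hz h1 h2 h3 h4 => P.others z hz h3 h4 h1 h2⟩

namespace K4

variable (S : K4 G m)
include S

theorem norm_six {u g : Equiv.Perm α} (eu : Elt G m u 3) (hu : (fixed u).card = 6) (hg : g ∈ NG G u) :
    Commute g u := by
  obtain ⟨p, hp, hpe⟩ := exists_perm hg (image_fixed_of_mem_NG hg)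
  have hpA : p ∈ alternatingGroup (fixed u) := by
    rcases fixed_cases S eu with ⟨h, -⟩ | ⟨-, h⟩ | ⟨h, -⟩
    · omega
    · exact h ▸ hp
    · omega
  obtain ⟨v, hv, hvu, hve⟩ := cent S eu (.inr ⟨by omega, by omega, hpA⟩)
  obtain ⟨q', hqu, hq'⟩ := exists_subset_card_eq eu.four
  have hn : v⁻¹ * g ∈ NG G u := (NG G u).mul_mem ((NG G u).inv_mem (cent_le_NG hv hvu)) hg
  have hfix : v⁻¹ * g ∈ fixG G q' := ⟨(mem_NG.1 hn).1, fun z hz => by
    rw [Equiv.Perm.mul_apply, Equiv.Perm.inv_def, Equiv.symm_apply_eq,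
      show g z = g ((⟨z, hqu hz⟩ : fixed u) : α) from rfl, hpe, ← hve]⟩
  have h1 := odd_commute eu.order (S.odd.of_dvd_nat (norm_odd S eu hq' hqu hn hfix)) (mem_NG.1 hn).2
  have h2 : Commute (v * (v⁻¹ * g)) u := hvu.mul_left h1
  rwa [mul_inv_cancel_left] at h2

/-- Nothing inverts an element of order three fixing six points. -/
theorem no_invert {u g : Equiv.Perm α} (eu : Elt G m u 3) (hu : (fixed u).card = 6) (hg : g ∈ G)
    (h : g * u * g⁻¹ = u⁻¹) : False := by
  have hc := norm_six S eu hu (mem_NG.2 ⟨hg, h ▸ inv_mem (Subgroup.mem_zpowers u)⟩)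
  rw [hc.eq, mul_inv_cancel_right] at h
  have h2 : u ^ 2 = 1 := by rw [sq]; nth_rewrite 2 [h]; exact mul_inv_cancel u
  exact elt_ne eu (eq_one_of_coprime_pow h2 (by rw [← eu.order, pow_orderOf_eq_one]) (by norm_num : Nat.Coprime 2 3))

variable (X : Ctx3 G m q C c)
include X

/-- An element commuting with `c` agreeing on its fixed points differs by a power of `c`. -/
theorem same_image {u g : Equiv.Perm α} (hu : u ∈ G) (hg : g ∈ G) (huc : Commute u c) (hgc : Commute g c)
    (h : ∀ z ∈ fixed c, u z = g z) : u = g ∨ u = g * c ∨ u = g * c⁻¹ := by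
  have hm : g⁻¹ * u ∈ C ⊓ Subgroup.centralizer {c} :=
    mem_C0 S X (mul_mem (inv_mem hg) hu) (hgc.inv_left.mul_left huc) fun z hz => by
      rw [Equiv.Perm.mul_apply, h z hz, Equiv.Perm.inv_def, Equiv.symm_apply_apply]
  obtain ⟨i, hi⟩ := Subgroup.mem_zpowers_iff.1 ((compl_three S X).2 ▸ hm.1 : g⁻¹ * u ∈ Subgroup.zpowers c)
  have hu' : u = g * c ^ i := by rw [hi, mul_inv_cancel_left]
  rcases zpow_three (cube S X) i with e | e | e <;> rw [e] at hu'
  · exact .inl (hu'.trans (mul_one g))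
  · exact .inr (.inl hu')
  · exact .inr (.inr hu')

/-- The two translates of an inverted element with six fixed points. -/
theorem six_lines (hl : (fixed c).card = 6) (P : Pair G c δ a b x d e) (L : Line G c δ y a b x) :
    (fixed (y * c)).card = 6 ∧ (fixed (y * c⁻¹)).card = 6 ∧ (fixed y).card ≠ 6 ∧
      fixed (y * c⁻¹) \ fixed c = (fixed (y * c) \ fixed c).image δ := by
  have hconj : δ * (y * c) * δ⁻¹ = (y * c⁻¹)⁻¹ := by
    have h := conj_mul_of_commute (u := y) P.comm 1
    rw [zpow_one, L.inv] at h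
    rw [h, mul_inv_rev, inv_inv, L.comm.inv_left.eq]
  have hout : fixed (y * c⁻¹) \ fixed c = (fixed (y * c) \ fixed c).image δ := by
    rw [← out_conj P.comm, hconj, fixed_inv]
  have hceq : (fixed (y * c⁻¹)).card = (fixed (y * c)).card := by
    rw [← fixed_inv (y * c⁻¹), ← hconj, CfsgSharpTrans.fixed_conj, card_image_of_injective _ δ.injective]
  have hy6 : (fixed y).card ≠ 6 := fun h => by
    have hy1 := line_ne S X P L 0
    rw [zpow_zero, mul_one] at hy1
    haveI := Fact.mk Nat.prime_three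
    exact no_invert S ⟨L.mem, Nat.prime_three, orderOf_eq_prime L.cube hy1, S.three_dvd, by omega⟩ h P.mem L.inv
  obtain ⟨k, o, ho, hko⟩ := line_point S X P L
  obtain ⟨-, -, hcard⟩ := line_elt S X P L ho hko
  rcases zpow_three (cube S X) k with h | h | h <;> rw [h] at hcard
  · rw [mul_one] at hcard; exact absurd (hcard.trans hl) hy6
  · exact ⟨hcard.trans hl, hceq.trans (hcard.trans hl), hy6, hout⟩
  · exact ⟨hceq.symm.trans (hcard.trans hl), hcard.trans hl, hy6, hout⟩

theorem six_false (hl : (fixed c).card = 6) : False := by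
  classical
  obtain ⟨T, hTF, hT⟩ := exists_subset_card_eq (show 3 ≤ (fixed c).card by omega)
  obtain ⟨a, b, x, hab, hax, hbx, rfl⟩ := card_eq_three.1 hT
  obtain ⟨d, e, f, hde, hdf, hef, hD⟩ := card_eq_three.1 (show (fixed c \ {a, b, x}).card = 3 by
    rw [card_sdiff_of_subset hTF, hT, hl])
  have hm : ∀ z ∈ ({d, e, f} : Finset α), z ∈ fixed c ∧ z ∉ ({a, b, x} : Finset α) := fun z hz => by
    rw [← hD] at hz; exact mem_sdiff.1 hz
  obtain ⟨hd, hdT⟩ := hm d (by simp)
  obtain ⟨he, heT⟩ := hm e (by simp)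
  obtain ⟨hf, hfT⟩ := hm f (by simp)
  simp only [insert_subset_iff, singleton_subset_iff] at hTF
  obtain ⟨ha, hb, hx⟩ := hTF
  have hcases : ∀ z ∈ fixed c, z = a ∨ z = b ∨ z = x ∨ z = d ∨ z = e ∨ z = f := fun z hz => by
    by_cases h : z ∈ ({a, b, x} : Finset α)
    · simp only [mem_insert, mem_singleton] at h; tauto
    · have := mem_sdiff.2 ⟨hz, h⟩
      rw [hD] at this
      simp only [mem_insert, mem_singleton] at this; tauto
  obtain ⟨δ, P⟩ := pair_exists S X ha hb hx hd he hab hax hbx hde hdT heT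
  have P' := P.swap hf hfT hdf.symm hef.symm
  simp only [mem_insert, mem_singleton, not_or] at hdT heT hfT
  obtain ⟨nda, ndb, ndx⟩ := hdT
  obtain ⟨nea, neb, nex⟩ := heT
  obtain ⟨nfa, nfb, nfx⟩ := hfT
  obtain ⟨y, L, -⟩ := line_exists S X P
  obtain ⟨g, M, -⟩ := line_exists S X P'
  obtain ⟨y1, y2, y0, yout⟩ := six_lines S X hl P L
  obtain ⟨g1, g2, g0, gout⟩ := six_lines S X hl P' M
  have hya : y a = b := L.mapa
  have hyd : y d = d := L.others d hd (by simp [*])
  have hye : y e = e := L.others e he (by simp [*])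
  have hyf : y f = f := L.others f hf (by simp [*])
  have hga : g a = a := M.others a ha (by simp [Ne.symm nda, Ne.symm nea, Ne.symm nfa])
  have hgb : g b = b := M.others b hb (by simp [Ne.symm ndb, Ne.symm neb, Ne.symm nfb])
  have hgx : g x = x := M.others x hx (by simp [Ne.symm ndx, Ne.symm nex, Ne.symm nfx])
  -- the two elements commute
  have hgy : Commute g y := by
    have hI := same_image S X (G.mul_mem (G.mul_mem M.mem L.mem) (G.inv_mem M.mem)) L.mem
      (conj_commute M.comm L.comm) L.comm (fun z hz => by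
        have hz' := commute_apply_fixed M.comm.inv_left hz
        obtain ⟨w, hw, rfl⟩ : ∃ w ∈ fixed c, g w = z := ⟨g⁻¹ z, hz', by simp⟩
        rw [Equiv.Perm.mul_apply, Equiv.Perm.mul_apply, Equiv.Perm.inv_def, Equiv.symm_apply_apply]
        rcases hcases w hw with rfl | rfl | rfl | rfl | rfl | rfl <;>
          simp only [hya, L.mapb, L.mapx, hyd, hye, hyf, hga, hgb, hgx, M.mapa, M.mapb, M.mapx])
    have hcj : ∀ i : ℤ, (fixed (g * y * g⁻¹ * c ^ i)).card = (fixed (y * c ^ i)).card := fun i => by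
      rw [← conj_mul_of_commute M.comm i, CfsgSharpTrans.fixed_conj, card_image_of_injective _ g.injective]
    rcases hI with h | h | h
    · exact mul_inv_eq_iff_eq_mul.1 h
    · have := hcj (-1)
      rw [h, zpow_neg_one, mul_inv_cancel_right, y2] at this
      exact absurd this y0
    · have := hcj 1
      rw [h, zpow_one, inv_mul_cancel_right, y1] at this
      exact absurd this y0
  set O := fixed (y * c) \ fixed c with hO
  set O' := fixed (y * c⁻¹) \ fixed c with hO'
  obtain ⟨o, ho⟩ : O.Nonempty := by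
    rw [nonempty_iff_ne_empty, hO, Ne, sdiff_eq_empty_iff_subset]
    intro h
    have := eq_of_subset_of_card_le h (by rw [y1, hl])
    have hmem : a ∈ fixed (y * c) := this ▸ ha
    rw [← zpow_one c] at hmem
    exact line_moves P L 1 ha (by simp) (mem_fixed.1 hmem)
  obtain ⟨hoy, hoc⟩ := mem_sdiff.1 ho
  have hOeq : O = ({o, c o, c (c o)} : Finset α) := by
    obtain ⟨-, hfix, -⟩ := line_elt S X P L (k := 1) hoc (by rw [zpow_one]; exact mem_fixed.1 hoy)
    rw [zpow_one] at hfix
    rw [hO, hfix, union_sdiff_distrib, sdiff_eq_empty_iff_subset.2 sdiff_subset, empty_union]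
    exact sdiff_eq_self_of_disjoint (orb_card S X hoc).2.symm
  have hne : O ≠ O' := fun h => by
    have h2 : o ∈ O' := h ▸ ho
    have e1 := mem_fixed.1 hoy
    have e2 := mem_fixed.1 (mem_sdiff.1 h2).1
    have e3 : c o = c⁻¹ o := y.injective (e1.trans e2.symm)
    rw [Equiv.Perm.inv_def, Equiv.eq_symm_apply] at e3
    have e4 : c (c (c o)) = o := by
      have := congrArg (fun g : Equiv.Perm α => g o) (cube S X)
      simpa [pow_succ] using this
    rw [e3] at e4
    exact hoc (mem_fixed.2 e4)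
  -- the lines of `g` share the two orbits
  have hgo : g o ∈ O := by
    have hcomm : Commute g (y * c) := hgy.mul_right M.comm
    have h := out_conj (u := y * c) M.comm
    rw [hcomm.eq, mul_inv_cancel_right] at h
    rw [hO, h]
    exact mem_image_of_mem g ho
  obtain ⟨i, hi⟩ : ∃ i : ℤ, g o = (c ^ i) o := by
    rw [hOeq] at hgo
    simp only [mem_insert, mem_singleton] at hgo
    rcases hgo with h | h | h
    · exact ⟨0, by rw [h]; simp⟩
    · exact ⟨1, by rw [h]; simp⟩
    · exact ⟨2, by rw [h, zpow_two]; rfl⟩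
  have hgi : (g * c ^ (-i)) o = o := by
    rw [(M.comm.zpow_right (-i)).eq, Equiv.Perm.mul_apply, hi, zpow_neg]; simp
  obtain ⟨-, hfixg, hcardg⟩ := line_elt S X P' M (k := -i) hoc hgi
  have hOg : fixed (g * c ^ (-i)) \ fixed c = O := by
    rw [hfixg, union_sdiff_distrib, sdiff_eq_empty_iff_subset.2 sdiff_subset, empty_union, hOeq]
    exact sdiff_eq_self_of_disjoint (orb_card S X hoc).2.symm
  have hgl : (fixed (g * c) \ fixed c = O ∧ fixed (g * c⁻¹) \ fixed c = O') ∨
      (fixed (g * c) \ fixed c = O' ∧ fixed (g * c⁻¹) \ fixed c = O) := by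
    rcases zpow_three (cube S X) (-i) with h | h | h <;> rw [h] at hOg hcardg
    · rw [mul_one] at hcardg; exact absurd (hcardg.trans hl) g0
    · exact .inl ⟨hOg, by rw [gout, hOg, yout]⟩
    · refine .inr ⟨?_, hOg⟩
      rw [yout, ← hOg, gout, image_image]
      conv_lhs => rw [← image_id (s := fixed (g * c) \ fixed c)]
      exact image_congr fun z _ => (P.apply_apply z).symm
  -- a lift exchanging the two triples
  obtain ⟨δ₁, P₁⟩ := pair_exists S X ha hd he hb hx (Ne.symm nda) (Ne.symm nea) hde hbx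
    (by simp [Ne.symm hab, Ne.symm ndb, Ne.symm neb]) (by simp [Ne.symm hax, Ne.symm ndx, Ne.symm nex])
  obtain ⟨δ₂, P₂⟩ := pair_exists S X hb he ha hx hf (Ne.symm neb) (Ne.symm hab) nea (Ne.symm nfx)
    (by simp [Ne.symm hbx, Ne.symm nex, Ne.symm hax]) (by simp [nfb, hef.symm, nfa])
  set w := δ₁ * δ₂ with hw
  have hwG : w ∈ G := mul_mem P₁.mem P₂.mem
  have hwc : Commute w c := P₁.comm.mul_left P₂.comm
  have wa : w a = d := by rw [hw, Equiv.Perm.mul_apply, P₂.fixx, P₁.mapa]
  have wd : w d = a := by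
    rw [hw, Equiv.Perm.mul_apply, P₂.others d hd ndb hde ndx hdf, P₁.mapb]
  have wb : w b = e := by rw [hw, Equiv.Perm.mul_apply, P₂.mapa, P₁.fixx]
  have we : w e = x := by rw [hw, Equiv.Perm.mul_apply, P₂.mapb, P₁.mapd]
  have wx : w x = f := by
    rw [hw, Equiv.Perm.mul_apply, P₂.mapd, P₁.others f hf nfa hdf.symm nfb nfx]
  have wf : w f = b := by
    rw [hw, Equiv.Perm.mul_apply, show δ₂ f = x by rw [← P₂.mapd, P₂.apply_apply],
      show δ₁ x = b by rw [← P₁.mapd, P₁.apply_apply]]
  have hcz : ∀ z ∈ fixed c, c z = z ∧ c⁻¹ z = z := fun z hz =>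
    ⟨mem_fixed.1 hz, mem_fixed.1 (fixed_inv c ▸ hz)⟩
  have himg : ∀ u : Equiv.Perm α, u ∈ G → Commute u c → (fixed u).card = 6 →
      (∀ z ∈ fixed c, u z = y z) → (fixed u \ fixed c).image w = O ∨ (fixed u \ fixed c).image w = O' := by
    intro u hu huc hu6 huy
    have hI := same_image S X (G.mul_mem (G.mul_mem hwG hu) (G.inv_mem hwG)) M.mem (conj_commute hwc huc) M.comm
      (fun z hz => by
        obtain ⟨v, hv, rfl⟩ : ∃ v ∈ fixed c, w v = z :=
          ⟨w⁻¹ z, commute_apply_fixed hwc.inv_left hz, by simp⟩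
        rw [Equiv.Perm.mul_apply, Equiv.Perm.mul_apply, Equiv.Perm.inv_def, Equiv.symm_apply_apply, huy v hv]
        rcases hcases v hv with rfl | rfl | rfl | rfl | rfl | rfl <;>
          simp only [hya, L.mapb, L.mapx, hyd, hye, hyf, wa, wb, wx, wd, we, wf, hga, hgb, hgx, M.mapa, M.mapb,
            M.mapx])
    have h6 : (fixed (w * u * w⁻¹)).card = 6 := by
      rw [CfsgSharpTrans.fixed_conj, card_image_of_injective _ w.injective, hu6]
    rw [← out_conj hwc]
    rcases hI with h | h | h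
    · exact absurd (h ▸ h6) g0
    · rw [h]; rcases hgl with ⟨e1, -⟩ | ⟨e1, -⟩ <;> simp [e1]
    · rw [h]; rcases hgl with ⟨-, e1⟩ | ⟨-, e1⟩ <;> simp [e1]
  have hiO := himg (y * c) (mul_mem L.mem X.ec.mem) (L.comm.mul_left (Commute.refl c)) y1
    fun z hz => by rw [Equiv.Perm.mul_apply, (hcz z hz).1]
  have hiO' := himg (y * c⁻¹) (mul_mem L.mem (inv_mem X.ec.mem)) (L.comm.mul_left (Commute.refl c).inv_left) y2
    fun z hz => by rw [Equiv.Perm.mul_apply, (hcz z hz).2]
  rw [← hO] at hiO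
  rw [← hO'] at hiO'
  have hsq : (O.image w).image w = O := by
    rcases hiO with h | h
    · rw [h, h]
    · rw [h]
      refine hiO'.resolve_right fun h' => hne ?_
      exact image_injective w.injective (h.trans h'.symm)
  set W := w * w with hW
  have hWG : W ∈ G := mul_mem hwG hwG
  have hWc : Commute W c := hwc.mul_left hwc
  have hWO : fixed (W * (y * c) * W⁻¹) \ fixed c = O := by
    rw [out_conj hWc, hW, Equiv.Perm.coe_mul, ← image_image]
    exact hsq
  have hW6 : (fixed (W * (y * c) * W⁻¹)).card = 6 := by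
    rw [CfsgSharpTrans.fixed_conj, card_image_of_injective _ W.injective, y1]
  have yi : ∀ {u v : α}, y u = v → y⁻¹ v = u := fun h => by
    rw [Equiv.Perm.inv_def, Equiv.symm_apply_eq]; exact h.symm
  have hI := same_image S X (G.mul_mem (G.mul_mem hWG (G.mul_mem L.mem X.ec.mem)) (G.inv_mem hWG)) (G.inv_mem L.mem)
    (conj_commute hWc (L.comm.mul_left (Commute.refl c))) L.comm.inv_left
    (fun z hz => by
      obtain ⟨v, hv, rfl⟩ : ∃ v ∈ fixed c, W v = z :=
        ⟨W⁻¹ z, commute_apply_fixed hWc.inv_left hz, by simp⟩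
      rw [Equiv.Perm.mul_apply, Equiv.Perm.mul_apply, Equiv.Perm.inv_def, Equiv.symm_apply_apply,
        show (y * c) v = y v by rw [Equiv.Perm.mul_apply, (hcz v hv).1]]
      rcases hcases v hv with rfl | rfl | rfl | rfl | rfl | rfl <;>
        simp only [hW, Equiv.Perm.mul_apply, hya, L.mapb, L.mapx, hyd, hye, hyf, wa, wb, wx, wd, we, wf,
          ← Equiv.Perm.inv_def, yi hya, yi L.mapb, yi L.mapx, yi hyd, yi hye, yi hyf])
  rcases hI with h | h | h
  · exact y0 (by rw [← fixed_inv y, ← h, hW6])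
  · refine hne ?_
    rw [← hWO, h, hO', ← fixed_inv (y * c⁻¹), mul_inv_rev, inv_inv, L.comm.inv_left.eq]
  · refine no_invert S (u := y * c) ?_ y1 hWG (h.trans ?_)
    · have := (line_elt S X P L (k := 1) hoc (by rw [zpow_one]; exact mem_fixed.1 hoy)).1
      rwa [zpow_one] at this
    · rw [mul_inv_rev, L.comm.inv_inv.eq]

end K4

end CfsgLib.FourFrob
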