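import Cfsg.Agent.Lib.FourFrob.FourThree
import Cfsg.Agent.Lib.CoprimeGen

/-!
Blocks of four points, five or six fixed points of the elements of order three: the complements have order three.
-/

set_option autoImplicit false
set_option linter.unusedSectionVars false
set_option linter.style.haveILetI false

namespace CfsgLib.FourFrob

open Finset
open CfsgSharpTrans (D4 fixed mem_fixed)

universe u

variable {α : Type u} [Fintype α] [DecidableEq α]

theorem zpow_three {Γ : Type u} [Group Γ] {g : Γ} (hg : g ^ 3 = 1) (i : ℤ) : g ^ i = 1 ∨ g ^ i = g ∨ g ^ i = g⁻¹ := by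
  have h : g ^ i = g ^ (i % 3) := by
    conv_lhs => rw [← Int.emod_add_mul_ediv i 3, zpow_add, zpow_mul, show g ^ (3 : ℤ) = 1 from (zpow_natCast g 3).trans hg,
      one_zpow, mul_one]
  rcases (show i % 3 = 0 ∨ i % 3 = 1 ∨ i % 3 = 2 by omega) with e | e | e <;> rw [e] at h
  · exact .inl (by simpa using h)
  · exact .inr (.inl (by simpa using h))
  · refine .inr (.inr (h.trans (eq_inv_of_mul_eq_one_left ?_)))
    rw [show g ^ (2 : ℤ) = g ^ 2 from zpow_natCast g 2, ← pow_succ]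
    exact hg

theorem fixed_inv (g : Equiv.Perm α) : fixed g⁻¹ = fixed g := by
  ext x
  rw [mem_fixed, mem_fixed, Equiv.Perm.inv_def, Equiv.symm_apply_eq]
  exact eq_comm

theorem commute_apply_fixed {g c : Equiv.Perm α} (h : Commute g c) {x : α} (hx : x ∈ fixed c) : g x ∈ fixed c := by
  rw [mem_fixed] at hx ⊢
  rw [← Equiv.Perm.mul_apply, ← h.eq, Equiv.Perm.mul_apply, hx]

/-- An involution centralising `c` and inducing a double transposition on its fixed points. -/
structure Pair (G : Subgroup (Equiv.Perm α)) (c δ : Equiv.Perm α) (a b x d e : α) : Prop where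
  mem : δ ∈ G
  comm : Commute δ c
  sq : δ * δ = 1
  ha : a ∈ fixed c
  hb : b ∈ fixed c
  hx : x ∈ fixed c
  hd : d ∈ fixed c
  he : e ∈ fixed c
  ab : a ≠ b
  ax : a ≠ x
  bx : b ≠ x
  de : d ≠ e
  hdT : d ∉ ({a, b, x} : Finset α)
  heT : e ∉ ({a, b, x} : Finset α)
  mapa : δ a = b
  mapd : δ d = e
  others : ∀ z ∈ fixed c, z ≠ a → z ≠ b → z ≠ d → z ≠ e → δ z = z

/-- An element of order three centralising `c`, inverted by `δ`, a three-cycle on the fixed points. -/
structure Line (G : Subgroup (Equiv.Perm α)) (c δ y : Equiv.Perm α) (a b x : α) : Prop where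
  mem : y ∈ G
  comm : Commute y c
  cube : y ^ 3 = 1
  mapa : y a = b
  mapb : y b = x
  mapx : y x = a
  others : ∀ z ∈ fixed c, z ∉ ({a, b, x} : Finset α) → y z = z
  inv : δ * y * δ⁻¹ = y⁻¹

variable {G : Subgroup (Equiv.Perm α)} {m : ℕ} {q : Finset α} {C : Subgroup (Equiv.Perm α)}
  {c δ y : Equiv.Perm α} {a b x d e : α}

theorem Pair.inv_eq (P : Pair G c δ a b x d e) : δ⁻¹ = δ := inv_eq_of_mul_eq_one_left P.sq

theorem Pair.apply_apply (P : Pair G c δ a b x d e) (z : α) : δ (δ z) = z := by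
  rw [← Equiv.Perm.mul_apply, P.sq]; rfl

theorem Pair.mapb (P : Pair G c δ a b x d e) : δ b = a := by rw [← P.mapa, P.apply_apply]

theorem Pair.fixx (P : Pair G c δ a b x d e) : δ x = x := by
  have h1 := P.hdT; have h2 := P.heT
  simp only [mem_insert, mem_singleton, not_or] at h1 h2
  exact P.others x P.hx P.ax.symm P.bx.symm (Ne.symm h1.2.2) (Ne.symm h2.2.2)

theorem Pair.card_T (P : Pair G c δ a b x d e) : ({a, b, x} : Finset α).card = 3 :=
  card_eq_three.2 ⟨a, b, x, P.ab, P.ax, P.bx, rfl⟩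

theorem Pair.T_sub (P : Pair G c δ a b x d e) : ({a, b, x} : Finset α) ⊆ fixed c := by
  simp [insert_subset_iff, P.ha, P.hb, P.hx]

namespace K4

variable (S : K4 G m) (X : Ctx3 G m q C c)
include S X

theorem three_small : (fixed c).card = 5 ∨ (fixed c).card = 6 := by
  have h := S.fixed_mem X.ec
  simp only [mem_insert, mem_singleton] at h
  rcases h with h | h | h | h | h
  · exact (three_four S X h).elim
  · exact .inl h
  · exact .inr h
  · exact (three_big S X (.inl h)).elim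
  · exact (three_big S X (.inr h)).elim

theorem cube : c ^ 3 = 1 := by rw [← X.ec.order, pow_orderOf_eq_one]

theorem mem_C0 {g : Equiv.Perm α} (hg : g ∈ G) (hgc : Commute g c) (hF : ∀ z ∈ fixed c, g z = z) :
    g ∈ C ⊓ Subgroup.centralizer {c} :=
  ⟨X.hC.cen X.mem (elt_ne X.ec) ⟨hg, fun z hz => hF z (X.sub hz)⟩ hgc,
    Subgroup.mem_centralizer_singleton_iff.2 hgc.eq⟩

theorem of_C0 {g : Equiv.Perm α} (hg : g ∈ C ⊓ Subgroup.centralizer {c}) :
    g ∈ G ∧ Commute g c ∧ ∀ z ∈ fixed c, g z = z := by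
  have hgc : Commute g c := Subgroup.mem_centralizer_singleton_iff.1 hg.2
  have hgG : g ∈ G := (X.hC.le hg.1).1
  refine ⟨hgG, hgc, (fix_four S X.ec (cent_le_NG hgG hgc) X.hq X.sub (X.hC.le hg.1).2).2 (.inl ?_)⟩
  have := three_small S X
  omega

theorem conj_C0 {g h : Equiv.Perm α} (hg : g ∈ G) (hgc : Commute g c)
    (hh : h ∈ C ⊓ Subgroup.centralizer {c}) : g * h * g⁻¹ ∈ C ⊓ Subgroup.centralizer {c} := by
  obtain ⟨hhG, hhc, hhF⟩ := of_C0 S X hh
  refine mem_C0 S X (mul_mem (mul_mem hg hhG) (inv_mem hg)) ((hgc.mul_left hhc).mul_left hgc.inv_left) fun z hz => ?_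
  simp only [Equiv.Perm.mul_apply]
  rw [hhF _ (commute_apply_fixed hgc.inv_left hz), Equiv.Perm.inv_def, Equiv.apply_symm_apply]

theorem odd_order {g : Equiv.Perm α} (hg : g ∈ C) : Odd (orderOf g) :=
  S.odd.of_dvd_nat (by rw [← X.hCm, ← Subgroup.orderOf_mk g hg]; exact orderOf_dvd_natCard _)

theorem pair_exists {a b x d e : α} (ha : a ∈ fixed c) (hb : b ∈ fixed c) (hx : x ∈ fixed c) (hd : d ∈ fixed c)
    (he : e ∈ fixed c) (hab : a ≠ b) (hax : a ≠ x) (hbx : b ≠ x) (hde : d ≠ e)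
    (hdT : d ∉ ({a, b, x} : Finset α)) (heT : e ∉ ({a, b, x} : Finset α)) :
    ∃ δ, Pair G c δ a b x d e := by
  classical
  have hdT' := hdT; have heT' := heT
  simp only [mem_insert, mem_singleton, not_or] at hdT' heT'
  let A : fixed c := ⟨a, ha⟩
  let B : fixed c := ⟨b, hb⟩
  let D : fixed c := ⟨d, hd⟩
  let E : fixed c := ⟨e, he⟩
  have hAB : A ≠ B := fun h => hab (congrArg Subtype.val h)
  have hDE : D ≠ E := fun h => hde (congrArg Subtype.val h)
  have hAD : A ≠ D := fun h => hdT'.1 (congrArg Subtype.val h).symm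
  have hBD : B ≠ D := fun h => hdT'.2.1 (congrArg Subtype.val h).symm
  have hAE : A ≠ E := fun h => heT'.1 (congrArg Subtype.val h).symm
  have hBE : B ≠ E := fun h => heT'.2.1 (congrArg Subtype.val h).symm
  set p := Equiv.swap A B * Equiv.swap D E with hp
  have hpA : p ∈ alternatingGroup (fixed c) := by
    rw [Equiv.Perm.mem_alternatingGroup, map_mul, Equiv.Perm.sign_swap hAB, Equiv.Perm.sign_swap hDE]; rfl
  have hl := three_small S X
  obtain ⟨u, hu, huc, hue⟩ := cent S X.ec (.inr ⟨by omega, by omega, hpA⟩)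
  have hpA' : p A = B := by
    rw [hp, Equiv.Perm.mul_apply, Equiv.swap_apply_of_ne_of_ne hAD hAE, Equiv.swap_apply_left]
  have hpD : p D = E := by
    rw [hp, Equiv.Perm.mul_apply, Equiv.swap_apply_left, Equiv.swap_apply_of_ne_of_ne hAE.symm hBE.symm]
  have hpsq : p * p = 1 := by
    refine Equiv.ext fun z => ?_
    rw [hp]
    simp only [Equiv.Perm.mul_apply, Equiv.Perm.one_apply]
    by_cases z1 : z = A
    · subst z1; simp [Equiv.swap_apply_of_ne_of_ne hAD hAE, Equiv.swap_apply_of_ne_of_ne hBD hBE]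
    by_cases z2 : z = B
    · subst z2; simp [Equiv.swap_apply_of_ne_of_ne hAD hAE, Equiv.swap_apply_of_ne_of_ne hBD hBE]
    by_cases z3 : z = D
    · subst z3; simp [Equiv.swap_apply_of_ne_of_ne hAE.symm hBE.symm, Equiv.swap_apply_of_ne_of_ne hAD.symm hBD.symm]
    by_cases z4 : z = E
    · subst z4; simp [Equiv.swap_apply_of_ne_of_ne hAE.symm hBE.symm, Equiv.swap_apply_of_ne_of_ne hAD.symm hBD.symm]
    simp [Equiv.swap_apply_of_ne_of_ne z1 z2, Equiv.swap_apply_of_ne_of_ne z3 z4]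
  have h2 : 2 ∣ orderOf u := by
    have hp2 : orderOf p = 2 := by
      refine orderOf_eq_prime (p := 2) (by rw [sq, hpsq]) fun h => hAB ?_
      rw [← hpA', h]; rfl
    rw [← hp2]
    refine orderOf_dvd_of_pow_eq_one (Equiv.ext fun z => Subtype.ext ?_)
    rw [← indG_pow hue, pow_orderOf_eq_one]
    rfl
  obtain ⟨j, i, hj, hji, -⟩ := exists_two_power h2
  have hact : ∀ z : fixed c, (u ^ j) z = p z := fun z => by
    obtain ⟨k, rfl⟩ := hj
    rw [indG_pow hue, pow_succ, pow_mul, sq, hpsq, one_pow, one_mul]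
  have hsq : u ^ j * u ^ j = 1 := by
    have hmem := mem_C0 S X (mul_mem (pow_mem hu j) (pow_mem hu j)) ((huc.pow_left j).mul_left (huc.pow_left j))
      fun z hz => by
        rw [Equiv.Perm.mul_apply, show (u ^ j) z = (u ^ j) ((⟨z, hz⟩ : fixed c) : α) from rfl, hact, hact,
          ← Equiv.Perm.mul_apply, hpsq]
        rfl
    refine eq_one_of_coprime_pow (a := 2 ^ i) ?_ (pow_orderOf_eq_one _)
      ((Nat.coprime_two_left.2 (odd_order S X hmem.1)).pow_left i)
    rw [(Commute.refl (u ^ j)).mul_pow, hji, one_mul]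
  refine ⟨u ^ j, pow_mem hu j, huc.pow_left j, hsq, ha, hb, hx, hd, he, hab, hax, hbx, hde, hdT, heT, ?_, ?_,
    fun z hz h1 h2 h3 h4 => ?_⟩
  · exact (hact A).trans (congrArg Subtype.val hpA')
  · exact (hact D).trans (congrArg Subtype.val hpD)
  · refine (hact ⟨z, hz⟩).trans (congrArg Subtype.val (show p ⟨z, hz⟩ = ⟨z, hz⟩ from ?_))
    have k1 : (⟨z, hz⟩ : fixed c) ≠ A := fun h => h1 (congrArg Subtype.val h)
    have k2 : (⟨z, hz⟩ : fixed c) ≠ B := fun h => h2 (congrArg Subtype.val h)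
    have k3 : (⟨z, hz⟩ : fixed c) ≠ D := fun h => h3 (congrArg Subtype.val h)
    have k4 : (⟨z, hz⟩ : fixed c) ≠ E := fun h => h4 (congrArg Subtype.val h)
    rw [hp, Equiv.Perm.mul_apply, Equiv.swap_apply_of_ne_of_ne k3 k4, Equiv.swap_apply_of_ne_of_ne k1 k2]

theorem cycle_exists (P : Pair G c δ a b x d e) :
    ∃ v ∈ G, Commute v c ∧ v a = b ∧ v b = x ∧ v x = a ∧
      ∀ z ∈ fixed c, z ∉ ({a, b, x} : Finset α) → v z = z := by
  classical
  let A : fixed c := ⟨a, P.ha⟩
  let B : fixed c := ⟨b, P.hb⟩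
  let W : fixed c := ⟨x, P.hx⟩
  have hAB : A ≠ B := fun h => P.ab (congrArg Subtype.val h)
  have hBW : B ≠ W := fun h => P.bx (congrArg Subtype.val h)
  have hAW : A ≠ W := fun h => P.ax (congrArg Subtype.val h)
  set p := Equiv.swap A B * Equiv.swap B W with hp
  have hpA : p ∈ alternatingGroup (fixed c) := by
    rw [Equiv.Perm.mem_alternatingGroup, map_mul, Equiv.Perm.sign_swap hAB, Equiv.Perm.sign_swap hBW]; rfl
  have hl := three_small S X
  obtain ⟨u, hu, huc, hue⟩ := cent S X.ec (.inr ⟨by omega, by omega, hpA⟩)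
  refine ⟨u, hu, huc, ?_, ?_, ?_, fun z hz hzT => ?_⟩
  · refine (hue A).trans (congrArg Subtype.val (show p A = B from ?_))
    rw [hp, Equiv.Perm.mul_apply, Equiv.swap_apply_of_ne_of_ne hAB hAW, Equiv.swap_apply_left]
  · refine (hue B).trans (congrArg Subtype.val (show p B = W from ?_))
    rw [hp, Equiv.Perm.mul_apply, Equiv.swap_apply_left, Equiv.swap_apply_of_ne_of_ne hAW.symm hBW.symm]
  · refine (hue W).trans (congrArg Subtype.val (show p W = A from ?_))
    rw [hp, Equiv.Perm.mul_apply, Equiv.swap_apply_right, Equiv.swap_apply_right]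
  · simp only [mem_insert, mem_singleton, not_or] at hzT
    refine (hue ⟨z, hz⟩).trans (congrArg Subtype.val (show p ⟨z, hz⟩ = ⟨z, hz⟩ from ?_))
    have k1 : (⟨z, hz⟩ : fixed c) ≠ A := fun h => hzT.1 (congrArg Subtype.val h)
    have k2 : (⟨z, hz⟩ : fixed c) ≠ B := fun h => hzT.2.1 (congrArg Subtype.val h)
    have k3 : (⟨z, hz⟩ : fixed c) ≠ W := fun h => hzT.2.2 (congrArg Subtype.val h)
    rw [hp, Equiv.Perm.mul_apply, Equiv.swap_apply_of_ne_of_ne k2 k3, Equiv.swap_apply_of_ne_of_ne k1 k2]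

/-- The inverted element of order three and a Sylow subgroup of the pointwise stabiliser centralised by it. -/
theorem line_exists (P : Pair G c δ a b x d e) :
    ∃ y, Line G c δ y a b x ∧ ∃ R : Subgroup (Equiv.Perm α), R ≤ C ⊓ Subgroup.centralizer {c} ∧ IsPGroup 3 R ∧
      IsCyclic R ∧ c ∈ R ∧ (∀ g ∈ R, Commute y g) ∧
      ∀ h ∈ C ⊓ Subgroup.centralizer {c}, h ∈ Subgroup.normalizer (R : Set (Equiv.Perm α)) →
        (∃ i, h ^ 3 ^ i = 1) → h ∈ R := by
  classical
  haveI := Fact.mk Nat.prime_three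
  set C₀ := C ⊓ Subgroup.centralizer {c} with hC₀
  have hA : Subgroup.zpowers δ ≤ Subgroup.normalizer (C₀ : Set (Equiv.Perm α)) :=
    Subgroup.zpowers_le.2 (mem_normalizer_of_forall fun h hh => conj_C0 S X P.mem P.comm hh)
  have hδ2 : orderOf δ ∣ 2 := orderOf_dvd_of_pow_eq_one (by rw [sq, P.sq])
  have hcop : (Nat.card (Subgroup.zpowers δ)).Coprime (Nat.card C₀) := by
    rw [Nat.card_zpowers]
    refine Nat.Coprime.coprime_dvd_left hδ2 (Nat.coprime_two_left.2 ((X.hCm.symm ▸ S.odd).of_dvd_nat ?_))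
    exact Subgroup.card_dvd_of_le inf_le_left
  obtain ⟨Q, hQ⟩ := CfsgLib.coprime_exists_invariant_sylow hA hcop (.inl inferInstance) 3
  set R := (Q : Subgroup C₀).map C₀.subtype with hR
  have hRp : IsPGroup 3 R := Q.isPGroup'.map C₀.subtype
  have hR0 : R ≤ C₀ := Subgroup.map_subtype_le _
  haveI : IsCyclic R := X.hC.cyclic (by norm_num) (hR0.trans inf_le_left) hRp
  have hmax : ∀ h ∈ C₀, h ∈ Subgroup.normalizer (R : Set (Equiv.Perm α)) → (∃ i, h ^ 3 ^ i = 1) → h ∈ R := by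
    rintro h hh hhn ⟨i, hi⟩
    obtain ⟨l, -, hl⟩ := (Nat.dvd_prime_pow Nat.prime_three).1 (orderOf_dvd_of_pow_eq_one hi)
    have hY : IsPGroup 3 (Subgroup.zpowers h) := IsPGroup.of_card (n := l) (by rw [Nat.card_zpowers, hl])
    have hle : R ⊔ Subgroup.zpowers h ≤ C₀ := sup_le hR0 (Subgroup.zpowers_le.2 hh)
    have he := Q.is_maximal' (Q := (R ⊔ Subgroup.zpowers h).subgroupOf C₀)
      ((hRp.to_sup_of_normal_left' hY (Subgroup.zpowers_le.2 hhn)).of_equiv
        (Subgroup.subgroupOfEquivOfLe hle).symm)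
      (fun z hz => Subgroup.mem_sup_left (⟨z, hz, rfl⟩ : (z : Equiv.Perm α) ∈ R))
    have hh' : (⟨h, hh⟩ : C₀) ∈ (R ⊔ Subgroup.zpowers h).subgroupOf C₀ :=
      Subgroup.mem_sup_right (Subgroup.mem_zpowers h)
    rw [he] at hh'
    exact ⟨_, hh', rfl⟩
  have hcR : c ∈ R := by
    refine hmax c (mem_C0 S X X.ec.mem (Commute.refl c) fun z hz => mem_fixed.1 hz)
      (mem_normalizer_of_forall fun g hg => ?_) ⟨1, by rw [pow_one]; exact cube S X⟩
    rw [((of_C0 S X (hR0 hg)).2.1).symm.eq, mul_inv_cancel_right]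
    exact hg
  have hδR : ∀ g ∈ R, Commute δ g := fun g hg =>
    commute_of_cyclic hRp (hQ (Subgroup.mem_zpowers δ)) (Nat.Coprime.coprime_dvd_left hδ2 (by norm_num)) hcR
      X.ec.order P.comm hg
  -- a lift of the cycle normalising the Sylow subgroup
  obtain ⟨v, hvG, hvc, hva, hvb, hvx, hvo⟩ := cycle_exists S X P
  have hR' : R.map (cjm v) ≤ C₀ := by
    rintro _ ⟨g, hg, rfl⟩
    exact conj_C0 S X hvG hvc (hR0 hg)
  obtain ⟨Q', hQ'⟩ := ((hRp.map (cjm v)).of_equiv
    (Subgroup.subgroupOfEquivOfLe hR').symm).exists_le_sylow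
  obtain ⟨h, hh⟩ := MulAction.exists_smul_eq C₀ Q' Q
  set t := (h : Equiv.Perm α) * v with ht
  obtain ⟨hhG, hhc, hhF⟩ := of_C0 S X h.2
  have htG : t ∈ G := mul_mem hhG hvG
  have htc : Commute t c := hhc.mul_left hvc
  have htR : ∀ g ∈ R, t * g * t⁻¹ ∈ R := fun g hg => by
    refine ⟨h * ⟨v * g * v⁻¹, hR' ⟨g, hg, rfl⟩⟩ * h⁻¹, ?_, ?_⟩
    · rw [← hh, Sylow.coe_subgroup_smul]
      exact ⟨⟨v * g * v⁻¹, hR' ⟨g, hg, rfl⟩⟩, hQ' ⟨g, hg, rfl⟩, rfl⟩
    · show (h : Equiv.Perm α) * (v * g * v⁻¹) * (h : Equiv.Perm α)⁻¹ = _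
      rw [ht]; group
  have hta : t a = b := by rw [ht, Equiv.Perm.mul_apply, hva, hhF b P.hb]
  have htb : t b = x := by rw [ht, Equiv.Perm.mul_apply, hvb, hhF x P.hx]
  have htx : t x = a := by rw [ht, Equiv.Perm.mul_apply, hvx, hhF a P.ha]
  have hto : ∀ z ∈ fixed c, z ∉ ({a, b, x} : Finset α) → t z = z := fun z hz hzT => by
    rw [ht, Equiv.Perm.mul_apply, hvo z hz hzT, hhF z hz]
  set w := t⁻¹ * δ * t * δ with hw
  have hwG : w ∈ G := mul_mem (mul_mem (mul_mem (inv_mem htG) P.mem) htG) P.mem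
  have hwc : Commute w c := ((htc.inv_left.mul_left P.comm).mul_left htc).mul_left P.comm
  have ti : ∀ {u v : α}, t u = v → t⁻¹ v = u := fun h => by
    rw [Equiv.Perm.inv_def, Equiv.symm_apply_eq]; exact h.symm
  have hwa : w a = b := by
    simp only [hw, Equiv.Perm.mul_apply]; rw [P.mapa, htb, P.fixx, ti htb]
  have hwb : w b = x := by
    simp only [hw, Equiv.Perm.mul_apply]; rw [P.mapb, hta, P.mapb, ti htx]
  have hwx : w x = a := by
    simp only [hw, Equiv.Perm.mul_apply]; rw [P.fixx, htx, P.mapa, ti hta]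
  have hwo : ∀ z ∈ fixed c, z ∉ ({a, b, x} : Finset α) → w z = z := fun z hz hzT => by
    have hz' : δ z ∉ ({a, b, x} : Finset α) := fun h => hzT (by
      simp only [mem_insert, mem_singleton] at h ⊢
      rcases h with h | h | h
      · exact .inr (.inl (δ.injective (h.trans P.mapb.symm)))
      · exact .inl (δ.injective (h.trans P.mapa.symm))
      · exact .inr (.inr (δ.injective (h.trans P.fixx.symm))))
    simp only [hw, Equiv.Perm.mul_apply]
    rw [hto _ (commute_apply_fixed P.comm hz) hz', P.apply_apply, ti (hto z hz hzT)]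
  have hwinv : δ * w * δ⁻¹ = w⁻¹ :=
    calc δ * w * δ⁻¹ = δ * t⁻¹ * δ * t := by rw [hw]; group
      _ = δ⁻¹ * t⁻¹ * δ⁻¹ * t := by rw [P.inv_eq]
      _ = w⁻¹ := by rw [hw]; group
  have hwR : ∀ g ∈ R, Commute w g := fun g hg => by
    have h1 : Commute δ (t * g * t⁻¹) := hδR _ (htR g hg)
    have h2 : Commute (t⁻¹ * δ * t) g := by
      show t⁻¹ * δ * t * g = g * (t⁻¹ * δ * t)
      calc t⁻¹ * δ * t * g = t⁻¹ * (δ * (t * g * t⁻¹)) * t := by group
        _ = t⁻¹ * ((t * g * t⁻¹) * δ) * t := by rw [h1.eq]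
        _ = g * (t⁻¹ * δ * t) := by group
    exact h2.mul_left (hδR g hg)
  have hw3F : ∀ z ∈ fixed c, (w ^ 3) z = z := fun z hz => by
    simp only [pow_succ, pow_zero, one_mul, Equiv.Perm.mul_apply]
    by_cases hzT : z ∈ ({a, b, x} : Finset α)
    · simp only [mem_insert, mem_singleton] at hzT
      rcases hzT with rfl | rfl | rfl <;> simp only [hwa, hwb, hwx]
    · simp only [hwo z hz hzT]
  have hw3 := mem_C0 S X (pow_mem hwG 3) (hwc.pow_left 3) hw3F
  obtain ⟨i, j, hj, hij⟩ := Nat.exists_eq_pow_mul_and_not_dvd (orderOf_pos (w ^ 3)).ne' 3 (by norm_num)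
  have hjj : j * j = 3 * (j * j / 3) + 1 := by
    have : j * j % 3 = 1 := by
      rw [Nat.mul_mod]
      rcases (show j % 3 = 1 ∨ j % 3 = 2 by omega) with h | h <;> rw [h]
    omega
  set k := j * j / 3
  set y := w ^ (j * j) with hy
  have hyF : ∀ z ∈ fixed c, y z = w z := fun z hz => by
    rw [hy, hjj, pow_succ, pow_mul, Equiv.Perm.mul_apply]
    exact (of_C0 S X (pow_mem hw3 k)).2.2 _ (commute_apply_fixed hwc hz)
  have hyinv : δ * y * δ⁻¹ = y⁻¹ := by rw [hy, ← conj_pow, hwinv, inv_pow]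
  have hy3 : y ^ 3 = (w ^ 3) ^ (j * j) := by rw [hy, ← pow_mul, ← pow_mul, mul_comm]
  have hy3R : y ^ 3 ∈ R := by
    refine hmax _ (hy3 ▸ pow_mem hw3 _) (mem_normalizer_of_forall fun g hg => ?_) ⟨i, ?_⟩
    · rw [(((hwR g hg).pow_left _).pow_left 3).eq, mul_inv_cancel_right]
      exact hg
    · rw [hy3, ← pow_mul, show j * j * 3 ^ i = 3 ^ i * j * j by ring, pow_mul, ← hij, pow_orderOf_eq_one, one_pow]
  have hy31 : y ^ 3 = 1 := by
    have h1 : δ * y ^ 3 * δ⁻¹ = (y ^ 3)⁻¹ := by rw [← conj_pow, hyinv, inv_pow]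
    rw [(hδR _ hy3R).eq, mul_inv_cancel_right] at h1
    refine eq_one_of_coprime_pow (a := 2) ?_ (pow_orderOf_eq_one _)
      (Nat.coprime_two_left.2 (odd_order S X (hR0 hy3R).1))
    rw [sq]
    nth_rewrite 2 [h1]
    exact mul_inv_cancel _
  refine ⟨y, ⟨pow_mem hwG _, hwc.pow_left _, hy31, ?_, ?_, ?_, fun z hz hzT => ?_, hyinv⟩, R, hR0, hRp, inferInstance,
    hcR, fun g hg => (hwR g hg).pow_left _, hmax⟩
  · rw [hyF a P.ha, hwa]
  · rw [hyF b P.hb, hwb]
  · rw [hyF x P.hx, hwx]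
  · rw [hyF z hz, hwo z hz hzT]

variable (P : Pair G c δ a b x d e) (L : Line G c δ y a b x)
include P L

omit S X in
theorem line_moves (k : ℤ) {z : α} (hz : z ∈ fixed c) (hzT : z ∈ ({a, b, x} : Finset α)) : (y * c ^ k) z ≠ z := by
  rw [Equiv.Perm.mul_apply, Equiv.Perm.zpow_apply_eq_self_of_apply_eq_self (mem_fixed.1 hz) k]
  simp only [mem_insert, mem_singleton] at hzT
  rcases hzT with rfl | rfl | rfl
  · rw [L.mapa]; exact P.ab.symm
  · rw [L.mapb]; exact P.bx.symm
  · rw [L.mapx]; exact P.ax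

omit S X P in
theorem line_fixes (k : ℤ) {z : α} (hz : z ∈ fixed c) (hzT : z ∉ ({a, b, x} : Finset α)) : (y * c ^ k) z = z := by
  rw [Equiv.Perm.mul_apply, Equiv.Perm.zpow_apply_eq_self_of_apply_eq_self (mem_fixed.1 hz) k, L.others z hz hzT]

/-- Some translate of the inverted element fixes a further point. -/
theorem line_point : ∃ (k : ℤ) (o : α), o ∉ fixed c ∧ (y * c ^ k) o = o := by
  classical
  by_contra hno
  push Not at hno
  haveI := Fact.mk Nat.prime_three
  set T : Finset α := {a, b, x} with hTdef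
  set q₀ := insert d T with hq₀
  have hq₀4 : q₀.card = 4 := card_insert S P.card_T P.hdT
  have hq₀c : q₀ ⊆ fixed c := insert_subset P.hd P.T_sub
  let A : Subgroup (Equiv.Perm α) :=
    { carrier := {g | ∃ i j : ℤ, g = y ^ i * c ^ j}
      one_mem' := ⟨0, 0, by simp⟩
      mul_mem' := by
        rintro _ _ ⟨i, j, rfl⟩ ⟨i', j', rfl⟩
        refine ⟨i + i', j + j', ?_⟩
        rw [zpow_add, zpow_add, mul_assoc, ← mul_assoc (c ^ j), ← (L.comm.zpow_zpow i' j).eq]
        group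
      inv_mem' := by
        rintro _ ⟨i, j, rfl⟩
        exact ⟨-i, -j, by rw [(L.comm.zpow_zpow i j).eq, mul_inv_rev, zpow_neg, zpow_neg]⟩ }
  have hyA : y ∈ A := ⟨1, 0, by simp⟩
  have hcA : c ∈ A := ⟨0, 1, by simp⟩
  haveI : IsMulCommutative A := ⟨⟨fun g h => by
    obtain ⟨i, j, hg⟩ := g.2
    obtain ⟨i', j', hh⟩ := h.2
    have hy' : ∀ i i' : ℤ, Commute (y ^ i) (y ^ i') := fun i i' => (Commute.refl y).zpow_zpow i i'
    have : Commute (y ^ i * c ^ j) (y ^ i' * c ^ j') :=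
      ((hy' i i').mul_right (L.comm.zpow_zpow i j')).mul_left
        (((L.comm.symm.zpow_zpow j i')).mul_right ((Commute.refl c).zpow_zpow j j'))
    exact Subtype.ext (by rw [Subgroup.coe_mul, Subgroup.coe_mul, hg, hh, this.eq])⟩⟩
  have hA3 : ∀ g ∈ A, g ^ 3 = 1 := by
    rintro _ ⟨i, j, rfl⟩
    rw [(L.comm.zpow_zpow i j).mul_pow, ← zpow_natCast (y ^ i), ← zpow_natCast (c ^ j), ← zpow_mul, ← zpow_mul,
      mul_comm i, mul_comm j, zpow_mul, zpow_mul, zpow_natCast, zpow_natCast, L.cube, cube S X, one_zpow, one_zpow,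
      one_mul]
  have hAc : ¬ IsCyclic A := fun h => by
    obtain ⟨⟨g, hg⟩, hgen⟩ := h.exists_generator
    have hle : Nat.card A ≤ Nat.card (Subgroup.zpowers c) := by
      rw [← orderOf_eq_card_of_forall_mem_zpowers hgen, Subgroup.orderOf_mk, Nat.card_zpowers, X.ec.order]
      exact Nat.le_of_dvd (by norm_num) (orderOf_dvd_of_pow_eq_one (hA3 g hg))
    have he := Subgroup.eq_of_le_of_card_ge (Subgroup.zpowers_le.2 hcA) hle
    obtain ⟨i, hi⟩ := Subgroup.mem_zpowers_iff.1 (he.symm ▸ hyA : y ∈ Subgroup.zpowers c)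
    have := L.mapa
    rw [← hi, Equiv.Perm.zpow_apply_eq_self_of_apply_eq_self (mem_fixed.1 P.ha)] at this
    exact P.ab this
  have hconj : ∀ {g : Equiv.Perm α}, g ∈ G → q₀.image g = q₀ → ∀ w ∈ PP G q₀, g * w * g⁻¹ ∈ PP G q₀ :=
    fun {g} hg hi w hw => by
      have := map_PP hg q₀
      rw [hi] at this
      exact this ▸ ⟨w, hw, rfl⟩
  have hcq : q₀.image c = q₀ := (image_congr fun z hz => mem_fixed.1 (hq₀c hz)).trans image_id
  have hyq : q₀.image y = q₀ := by
    refine eq_of_subset_of_card_le (fun z hz => ?_) (by rw [card_image_of_injective _ y.injective])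
    obtain ⟨u, hu, rfl⟩ := mem_image.1 hz
    simp only [hq₀, hTdef, mem_insert, mem_singleton] at hu ⊢
    rcases hu with rfl | rfl | rfl | rfl
    · exact .inl (L.others _ P.hd P.hdT)
    · exact .inr (.inr (.inl L.mapa))
    · exact .inr (.inr (.inr L.mapb))
    · exact .inr (.inl L.mapx)
  have hAP : A ≤ Subgroup.normalizer (PP G q₀ : Set (Equiv.Perm α)) := by
    rintro _ ⟨i, j, rfl⟩
    exact mul_mem (zpow_mem (mem_normalizer_of_forall (hconj L.mem hyq)) i)
      (zpow_mem (mem_normalizer_of_forall (hconj X.ec.mem hcq)) j)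
  have hApG : IsPGroup 3 A := fun g => ⟨1, Subtype.ext (by rw [pow_one]; exact hA3 g g.2)⟩
  have hcop : (Nat.card A).Coprime (Nat.card (PP G q₀)) := by
    haveI := Fact.mk Nat.prime_two
    obtain ⟨k, hk⟩ := hApG.exists_card_eq
    obtain ⟨l, hl⟩ := (S.set.two q₀ hq₀4).exists_card_eq
    rw [hk, hl]
    exact Nat.Coprime.pow k l (by norm_num)
  have hfix : ∀ w ∈ PP G q₀, w e = e := by
    have hgen := CfsgLib.coprime_generated_by_centralizers hAc hAP hcop
    intro w hw
    rw [← hgen] at hw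
    refine (iSup₂_le (a := MulAction.stabilizer (Equiv.Perm α) e) fun g hg => ?_) hw
    obtain ⟨⟨i, j, rfl⟩, hg1⟩ := hg
    have hfree : ∀ w ∈ PP G q₀, Commute w c → w = 1 := fun w hw hwc => by
      by_contra hw1
      obtain ⟨l, hl⟩ := S.set.two q₀ hq₀4 ⟨w, hw⟩
      exact not_commute S hq₀4 (elt_mem S X.ec hq₀c) X.ec.prime X.ec.order X.ec.dvd (twoPart_le _ hw) hw1
        (congrArg Subtype.val hl) hwc
    rintro w ⟨hwP, hwg⟩
    have hwg' : Commute w (y ^ i * c ^ j) := Subgroup.mem_centralizer_singleton_iff.1 hwg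
    show w e = e
    -- reduce to a translate of `y`
    have hkw : (∃ k : ℤ, Commute w (y * c ^ k)) ∨ w = 1 := by
      rcases zpow_three L.cube i with h | h | h <;> rw [h] at hwg' hg1
      · right
        rw [one_mul] at hwg' hg1
        rcases zpow_three (cube S X) j with h' | h' | h' <;> rw [h'] at hwg' hg1
        · exact absurd rfl hg1
        · exact hfree w hwP hwg'
        · exact hfree w hwP (inv_inv c ▸ hwg'.inv_right)
      · exact .inl ⟨j, hwg'⟩
      · left
        refine ⟨-j, ?_⟩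
        have := hwg'.inv_right
        rwa [mul_inv_rev, inv_inv, ← zpow_neg, ← (L.comm.zpow_right (-j)).eq] at this
    rcases hkw with ⟨k, hk⟩ | rfl
    rotate_left
    · rfl
    -- the translate fixes only points of the fixed set
    have hfixed : ∀ z, (y * c ^ k) z = z → z ∈ fixed c \ T := fun z hz => by
      have hzc : z ∈ fixed c := by by_contra h; exact hno k z h hz
      exact mem_sdiff.2 ⟨hzc, fun h => line_moves P L k hzc h hz⟩
    have hperm : ∀ v ∈ PP G q₀ ⊓ Subgroup.centralizer {y * c ^ k}, v e ∈ (fixed c \ T).erase d := fun v hv => by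
      have hvy : Commute v (y * c ^ k) := Subgroup.mem_centralizer_singleton_iff.1 hv.2
      have hvd : v d = d := (twoPart_le _ hv.1).2 d (mem_insert_self d T)
      refine mem_erase.2 ⟨fun h => P.de (v.injective (hvd.trans h.symm)), hfixed _ ?_⟩
      rw [← Equiv.Perm.mul_apply, ← hvy.eq, Equiv.Perm.mul_apply, line_fixes L k P.he P.heT]
    have he' : e ∈ (fixed c \ T).erase d := mem_erase.2 ⟨P.de.symm, mem_sdiff.2 ⟨P.he, P.heT⟩⟩
    have hcard : ((fixed c \ T).erase d).card = (fixed c).card - 4 := by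
      rw [card_erase_of_mem (mem_sdiff.2 ⟨P.hd, P.hdT⟩), card_sdiff_of_subset P.T_sub, P.card_T]; omega
    rcases three_small S X with hl | hl
    · obtain ⟨u, hu⟩ := card_eq_one.1 (show ((fixed c \ T).erase d).card = 1 by omega)
      have h1 := hperm w ⟨hwP, Subgroup.mem_centralizer_singleton_iff.2 hk.eq⟩
      rw [hu, mem_singleton] at h1 he'
      rw [h1, he']
    obtain ⟨f, hf⟩ := card_eq_one.1 (show (((fixed c \ T).erase d).erase e).card = 1 by
      rw [card_erase_of_mem he', hcard, hl])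
    have hfe : f ∈ ((fixed c \ T).erase d).erase e := hf ▸ mem_singleton_self f
    refine fix_pair (W := PP G q₀ ⊓ Subgroup.centralizer {y * c ^ k}) ((S.set.two q₀ hq₀4).to_le inf_le_left)
      Nat.prime_three (by norm_num) X.ec.order (fun v hv => ⟨hconj X.ec.mem hcq v hv.1, ?_⟩)
      (fun v hv => hfree v hv.1) (mem_fixed.1 P.he)
      (mem_fixed.1 (mem_sdiff.1 (mem_of_mem_erase (mem_of_mem_erase hfe))).1) (ne_of_mem_erase hfe).symm
      (fun v hv => ?_) w ⟨hwP, Subgroup.mem_centralizer_singleton_iff.2 hk.eq⟩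
    · have hcy : Commute c (y * c ^ k) := L.comm.symm.mul_right ((Commute.refl c).zpow_right k)
      exact Subgroup.mem_centralizer_singleton_iff.2
        ((hcy.mul_left (Subgroup.mem_centralizer_singleton_iff.1 hv.2)).mul_left hcy.inv_left).eq
    · by_cases h : v e = e
      · exact .inl h
      · right
        have := mem_erase.2 ⟨h, hperm v hv⟩
        rwa [hf, mem_singleton] at this
  have he : e ∈ Blk G q₀ := mem_fixS.2 hfix
  rw [S.blk q₀ hq₀4] at he
  rcases mem_insert.1 he with h | h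
  · exact P.de h.symm
  · exact P.heT h

omit P L in
/-- The orbit of a moved point. -/
theorem orb_card {o : α} (ho : o ∉ fixed c) :
    ({o, c o, c (c o)} : Finset α).card = 3 ∧ Disjoint (fixed c) {o, c o, c (c o)} := by
  rw [mem_fixed] at ho
  have h3 : c (c (c o)) = o := by
    have := congrArg (fun g : Equiv.Perm α => g o) (cube S X)
    simpa [pow_succ] using this
  refine ⟨card_eq_three.2 ⟨_, _, _, Ne.symm ho, fun h => ho ?_, fun h => ho (c.injective h).symm, rfl⟩,
    disjoint_left.2 fun z hz hz' => ?_⟩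
  · conv_lhs => rw [h, h3]
  · rw [mem_fixed] at hz
    simp only [mem_insert, mem_singleton] at hz'
    rcases hz' with rfl | rfl | rfl
    · exact ho hz
    · exact ho (c.injective hz)
    · exact ho (c.injective (c.injective hz))

omit L in
/-- The fixed points of a translate fixing a further point. -/
theorem line_fixed {u : Equiv.Perm α} {o : α} (huG : u ∈ G) (huc : Commute u c) (hu3 : u ^ 3 = 1) (hu1 : u ≠ 1)
    (ho : o ∉ fixed c) (huo : u o = o) {D : Finset α} (hD : D ⊆ fixed c) (hDu : ∀ z ∈ D, u z = z)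
    (hDc : D.card + 3 = (fixed c).card) :
    Elt G m u 3 ∧ fixed u = D ∪ {o, c o, c (c o)} ∧ (fixed u).card = (fixed c).card := by
  haveI := Fact.mk Nat.prime_three
  obtain ⟨h3, hdis⟩ := orb_card S X ho
  have hsub : D ∪ {o, c o, c (c o)} ⊆ fixed u := union_subset (fun z hz => mem_fixed.2 (hDu z hz)) (by
    have h1 : u (c o) = c o := by rw [← Equiv.Perm.mul_apply, huc.eq, Equiv.Perm.mul_apply, huo]
    have h2 : u (c (c o)) = c (c o) := by rw [← Equiv.Perm.mul_apply, huc.eq, Equiv.Perm.mul_apply, h1]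
    simp [insert_subset_iff, mem_fixed, huo, h1, h2])
  have hcu : (D ∪ {o, c o, c (c o)}).card = (fixed c).card := by
    rw [card_union_of_disjoint (hdis.mono_left hD), h3, hDc]
  have h4 := card_le_card hsub
  have eu : Elt G m u 3 :=
    ⟨huG, Nat.prime_three, orderOf_eq_prime hu3 hu1, S.three_dvd, by have := X.ec.four; omega⟩
  have hcard := elt3_card S eu X.ec
  exact ⟨eu, (eq_of_subset_of_card_le hsub (by omega)).symm, hcard⟩

theorem line_ne (k : ℤ) : y * c ^ k ≠ 1 := fun h => by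
  have := line_moves P L k P.ha (by simp)
  rw [h] at this
  exact this rfl

theorem line_pow_three (k : ℤ) : (y * c ^ k) ^ 3 = 1 := by
  rw [(L.comm.zpow_right k).mul_pow, L.cube, one_mul, ← zpow_natCast, ← zpow_mul, mul_comm, zpow_mul, zpow_natCast,
    cube S X, one_zpow]

theorem line_elt {k : ℤ} {o : α} (ho : o ∉ fixed c) (hko : (y * c ^ k) o = o) :
    Elt G m (y * c ^ k) 3 ∧ fixed (y * c ^ k) = (fixed c \ {a, b, x}) ∪ {o, c o, c (c o)} ∧
      (fixed (y * c ^ k)).card = (fixed c).card :=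
  line_fixed S X P (mul_mem L.mem (zpow_mem X.ec.mem k)) (L.comm.mul_left ((Commute.refl c).zpow_left k))
    (line_pow_three S X P L k) (line_ne S X P L k) ho hko sdiff_subset
    (fun z hz => line_fixes L k (mem_sdiff.1 hz).1 (mem_sdiff.1 hz).2)
    (by rw [card_sdiff_of_subset P.T_sub, P.card_T]; have := three_small S X; omega)

/-- The centraliser of a translate in the pointwise stabiliser. -/
theorem line_cent {k : ℤ} {o : α} (ho : o ∉ fixed c) (hko : (y * c ^ k) o = o) {h : Equiv.Perm α}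
    (hh : h ∈ C ⊓ Subgroup.centralizer {c}) (hhy : Commute h (y * c ^ k)) : h ∈ Subgroup.zpowers c := by
  obtain ⟨-, hfix, -⟩ := line_elt S X P L ho hko
  obtain ⟨hhG, hhc, hhF⟩ := of_C0 S X hh
  have h1 : h o ∈ fixed (y * c ^ k) := mem_fixed.2 (by
    rw [← Equiv.Perm.mul_apply, ← hhy.eq, Equiv.Perm.mul_apply, hko])
  have h2 : h o ∉ fixed c := fun h' => ho (h.injective (hhF _ h') ▸ h')
  rw [hfix, mem_union] at h1
  have h3 := h1.resolve_left fun h' => h2 (mem_sdiff.1 h').1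
  obtain ⟨i, hi⟩ : ∃ i : ℤ, h o = (c ^ i) o := by
    simp only [mem_insert, mem_singleton] at h3
    rcases h3 with e | e | e
    · exact ⟨0, by rw [e]; simp⟩
    · exact ⟨1, by rw [e]; simp⟩
    · exact ⟨2, by rw [e, zpow_two]; rfl⟩
  set g := c ^ (-i) * h with hg
  have hgC : g ∈ C ⊓ Subgroup.centralizer {c} :=
    mul_mem ⟨zpow_mem X.mem _, Subgroup.zpow_mem _ (Subgroup.mem_centralizer_singleton_iff.2 rfl) _⟩ hh
  have hgo : g o = o := by rw [hg, Equiv.Perm.mul_apply, hi, zpow_neg]; simp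
  by_cases hg1 : g = 1
  · rw [hg, zpow_neg, inv_mul_eq_one] at hg1
    exact hg1 ▸ Subgroup.zpow_mem _ (Subgroup.mem_zpowers c) i
  exfalso
  obtain ⟨w, hw, r, hr, hwo⟩ := exists_prime_order (Subgroup.zpowers_ne_bot.2 hg1)
  have hwC : w ∈ C ⊓ Subgroup.centralizer {c} := Subgroup.zpowers_le.2 hgC hw
  obtain ⟨hwG, hwc, hwF⟩ := of_C0 S X hwC
  obtain ⟨j, rfl⟩ := Subgroup.mem_zpowers_iff.1 hw
  have hwo' : o ∈ fixed (g ^ j) := mem_fixed.2 (Equiv.Perm.zpow_apply_eq_self_of_apply_eq_self hgo j)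
  have hsub : fixed c ∪ {o, c o, c (c o)} ⊆ fixed (g ^ j) := union_subset (fun z hz => mem_fixed.2 (hwF z hz)) (by
    have h1 := commute_apply_fixed hwc.symm hwo'
    simp [insert_subset_iff, hwo', h1, commute_apply_fixed hwc.symm h1])
  obtain ⟨hc3, hdis⟩ := orb_card S X ho
  have hle := card_le_card hsub
  rw [card_union_of_disjoint hdis, hc3] at hle
  have hl := three_small S X
  have ew : Elt G m (g ^ j) r :=
    ⟨hwG, hr, hwo, by rw [← X.hCm, ← hwo, ← Subgroup.orderOf_mk _ hwC.1]; exact orderOf_dvd_natCard _, by omega⟩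
  exact ho (mem_fixed.2 ((fix_four S ew (cent_le_NG X.ec.mem hwc.symm) X.hq
    (X.sub.trans (subset_union_left.trans hsub)) (X.hC.le X.mem).2).2 (.inl (by omega)) o hwo'))

omit P L in
/-- The complements have order three. -/
theorem compl_three : m = 3 ∧ C = Subgroup.zpowers c := by
  classical
  haveI := Fact.mk Nat.prime_three
  obtain ⟨T, hTq, hT⟩ := exists_subset_card_eq (show 3 ≤ (fixed c).card by have := X.ec.four; omega)
  obtain ⟨a, b, x, hab, hax, hbx, rfl⟩ := card_eq_three.1 hT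
  simp only [insert_subset_iff, singleton_subset_iff] at hTq
  obtain ⟨d, hd, e, he, hde⟩ := one_lt_card.1 (show 1 < (fixed c \ {a, b, x}).card by
    rw [card_sdiff_of_subset (by simp [insert_subset_iff, hTq]), hT]; have := three_small S X; omega)
  obtain ⟨δ, P⟩ := pair_exists S X hTq.1 hTq.2.1 hTq.2.2 (mem_sdiff.1 hd).1 (mem_sdiff.1 he).1 hab hax hbx hde
    (mem_sdiff.1 hd).2 (mem_sdiff.1 he).2
  obtain ⟨y, L, R, hR0, hRp, hRc, hcR, hyR, hmax⟩ := line_exists S X P
  obtain ⟨k, o, ho, hko⟩ := line_point S X P L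
  set C₀ := C ⊓ Subgroup.centralizer {c}
  have hR : ∀ g ∈ R, g ∈ Subgroup.zpowers c := fun g hg =>
    line_cent S X P L ho hko (hR0 hg) ((hyR g hg).symm.mul_right ((of_C0 S X (hR0 hg)).2.1.zpow_right k))
  obtain ⟨N, hN0, hNn, hNcop, hN⟩ := exists_complement (X := C₀) hR0 hRp hmax hcR X.ec.order
    (fun g hg _ _ => (of_C0 S X hg).2.1)
  have hNbot : N = ⊥ := by
    by_contra hne
    obtain ⟨z, hz, r, hr, hzo, hzc⟩ := X.hC.exists_central (hN0.trans inf_le_left) hne
      ((X.hCm.symm ▸ S.odd).of_dvd_nat (Subgroup.card_dvd_of_le (hN0.trans inf_le_left)))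
    haveI := Fact.mk hr
    have hr3 : r.Coprime 3 := by
      refine Nat.Coprime.coprime_dvd_left ?_ hNcop
      rw [← hzo, ← Subgroup.orderOf_mk z hz]
      exact orderOf_dvd_natCard _
    have hn : ∀ σ ∈ G, Commute σ c → σ * z * σ⁻¹ ∈ Subgroup.zpowers z := fun σ hσ hσc => by
      have ho' : orderOf (σ * z * σ⁻¹) = r := by
        rw [show σ * z * σ⁻¹ = MulAut.conj σ z from rfl, MulEquiv.orderOf_eq, hzo]
      obtain ⟨g, hg, hm⟩ := X.hC.prime_conj (hN0.trans inf_le_left) hz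
        (hN _ (conj_C0 S X hσ hσc (hN0 hz)) (by rw [ho']; exact hr3)) hzo ho'
      rwa [(hzc g hg).eq, mul_inv_cancel_right] at hm
    have hcomm := comm_commute (hn δ P.mem P.comm) (hn y L.mem L.comm)
    rw [L.inv, show y⁻¹ * y⁻¹ = y by
      rw [← mul_inv_rev]; refine inv_eq_of_mul_eq_one_left ?_; rw [← mul_assoc, ← pow_three']; exact L.cube] at hcomm
    have := line_cent S X P L ho hko (hN0 hz) (hcomm.symm.mul_right ((of_C0 S X (hN0 hz)).2.1.zpow_right k))
    have hd : r ∣ 3 := by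
      rw [← hzo, ← X.ec.order, ← Nat.card_zpowers c, ← Subgroup.orderOf_mk z this]
      exact orderOf_dvd_natCard _
    exact hr.ne_one (Nat.dvd_one.1 (hr3 ▸ Nat.dvd_gcd dvd_rfl hd))
  have hC0 : ∀ g ∈ C₀, g ∈ Subgroup.zpowers c := fun g hg => by
    obtain ⟨i, j, hj, hij⟩ := Nat.exists_eq_pow_mul_and_not_dvd (orderOf_pos g).ne' 3 (by norm_num)
    have h1 : g ^ 3 ^ i ∈ N := hN _ (pow_mem hg _) (by
      rw [orderOf_pow' _ (pow_ne_zero i three_ne_zero), hij, Nat.gcd_mul_right_left,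
        Nat.mul_div_cancel_left _ (pow_pos (by norm_num) i)]
      exact (Nat.prime_three.coprime_iff_not_dvd.2 hj).symm)
    rw [hNbot, Subgroup.mem_bot] at h1
    refine hR g (hmax g hg (mem_normalizer_of_forall fun u hu => ?_) ⟨i, h1⟩)
    obtain ⟨l, rfl⟩ := Subgroup.mem_zpowers_iff.1 (hR u hu)
    rw [((of_C0 S X hg).2.1.zpow_right l).eq, mul_inv_cancel_right]
    exact hu
  obtain ⟨z, hz, r, hr, hzo, hzc⟩ := X.hC.exists_central le_rfl X.hC.ne_bot (X.hCm.symm ▸ S.odd)
  have hz' := hC0 z ⟨hz, Subgroup.mem_centralizer_singleton_iff.2 (hzc c X.mem).symm.eq⟩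
  have hd : r ∣ 3 := by
    rw [← hzo, ← X.ec.order, ← Nat.card_zpowers c, ← Subgroup.orderOf_mk z hz']
    exact orderOf_dvd_natCard _
  have hzz : c ∈ Subgroup.zpowers z := by
    rw [Subgroup.eq_of_le_of_card_ge (Subgroup.zpowers_le.2 hz') (by
      rw [Nat.card_zpowers, Nat.card_zpowers, hzo, X.ec.order,
        (Nat.prime_dvd_prime_iff_eq hr Nat.prime_three).1 hd])]
    exact Subgroup.mem_zpowers c
  have hCeq : C = Subgroup.zpowers c := le_antisymm (fun g hg => by
    obtain ⟨l, hl⟩ := Subgroup.mem_zpowers_iff.1 hzz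
    refine hC0 g ⟨hg, Subgroup.mem_centralizer_singleton_iff.2 ?_⟩
    rw [← hl]
    exact ((hzc g hg).zpow_right l).eq) (Subgroup.zpowers_le.2 X.mem)
  exact ⟨by rw [← X.hCm, hCeq, Nat.card_zpowers, X.ec.order], hCeq⟩

end K4

end CfsgLib.FourFrob
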