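import Cfsg.Agent.Lib.FourFrob.FourNoThreeMain

/-!
Blocks of four points, three dividing the complements: fixed sets of four, seven and eleven points.
-/

set_option autoImplicit false
set_option linter.unusedSectionVars false
set_option linter.style.haveILetI false

namespace CfsgLib.FourFrob

open Finset
open CfsgSharpTrans (D4 fixed mem_fixed)

universe u

variable {α : Type u} [Fintype α] [DecidableEq α]

theorem zpow_fixed {v : Equiv.Perm α} {w : Equiv.Perm α} (hw : w ∈ Subgroup.zpowers v)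
    (ho : orderOf w = orderOf v) : fixed w = fixed v := by
  have h : Subgroup.zpowers w = Subgroup.zpowers v :=
    Subgroup.eq_of_le_of_card_ge (Subgroup.zpowers_le.2 hw) (by rw [Nat.card_zpowers, Nat.card_zpowers, ho])
  rw [← fixS_zpowers, h, fixS_zpowers]

theorem conj_iter {Γ : Type u} [Group Γ] {g c : Γ} {k : ℤ} (h : g * c * g⁻¹ = c ^ k) :
    ∀ j : ℕ, g ^ j * c * (g ^ j)⁻¹ = c ^ (k ^ j)
  | 0 => by simp
  | j + 1 => by
    calc g ^ (j + 1) * c * (g ^ (j + 1))⁻¹ = g * (g ^ j * c * (g ^ j)⁻¹) * g⁻¹ := by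
          rw [pow_succ']; group
      _ = g * c ^ (k ^ j) * g⁻¹ := by rw [conj_iter h j]
      _ = c ^ (k ^ (j + 1)) := by rw [← conj_zpow, h, ← zpow_mul, pow_succ']

/-- Elements of odd order normalising a subgroup of order three centralise it. -/
theorem odd_commute {Γ : Type u} [Group Γ] {g c : Γ} (hc : orderOf c = 3) (hg : Odd (orderOf g))
    (h : g * c * g⁻¹ ∈ Subgroup.zpowers c) : Commute g c := by
  obtain ⟨k, hk⟩ := Subgroup.mem_zpowers_iff.1 h
  refine mul_inv_eq_iff_eq_mul.1 ?_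
  rw [← hk]
  have h1 : c ^ (k ^ orderOf g) = c := by
    rw [← conj_iter hk.symm, pow_orderOf_eq_one, one_mul, inv_one, mul_one]
  obtain ⟨j, hj⟩ := hg
  have h2 : (3 : ℤ) ∣ k ^ orderOf g - 1 := by
    rw [show (3 : ℤ) = (orderOf c : ℤ) by rw [hc]; rfl]
    refine orderOf_dvd_iff_zpow_eq_one.2 ?_
    rw [zpow_sub_one, h1, mul_inv_cancel]
  have h3 : (3 : ℤ) ∣ k - 1 := by
    have hmod : ∀ z : ℤ, (3 : ℤ) ∣ z - 1 ↔ ((z : ZMod 3) = 1) := fun z => by
      rw [← sub_eq_zero, show ((z : ZMod 3) - 1) = ((z - 1 : ℤ) : ZMod 3) by push_cast; ring,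
        ZMod.intCast_zmod_eq_zero_iff_dvd]
      rfl
    rw [hmod] at h2 ⊢
    push_cast at h2
    generalize (k : ZMod 3) = x at h2 ⊢
    have hsq : ∀ y : ZMod 3, y ^ 3 = y := by decide
    have hodd : ∀ (y : ZMod 3) (n : ℕ), y ^ (2 * n + 1) = y := fun y n => by
      induction n with
      | zero => rw [Nat.mul_zero, Nat.zero_add, pow_one]
      | succ n ih =>
        rw [show 2 * (n + 1) + 1 = (2 * n + 1) + 2 by ring, pow_add, ih, ← pow_succ']
        exact hsq y
    rw [hj, hodd] at h2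
    exact h2
  rw [show (3 : ℤ) = (orderOf c : ℤ) by rw [hc]; rfl] at h3
  calc c ^ k = c ^ (k - 1) * c := by rw [← zpow_add_one]; congr 1; ring
    _ = c := by rw [orderOf_dvd_iff_zpow_eq_one.1 h3, one_mul]

/-- A point, a complement and an element of order three in it. -/
structure Ctx3 (G : Subgroup (Equiv.Perm α)) (m : ℕ) (q : Finset α) (C : Subgroup (Equiv.Perm α))
    (c : Equiv.Perm α) : Prop where
  hq : q.card = 4
  hC : IsCompl (fixG G q) C
  hCm : Nat.card C = m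
  ec : Elt G m c 3
  mem : c ∈ C
  sub : q ⊆ fixed c

namespace K4

variable {G : Subgroup (Equiv.Perm α)} {m : ℕ} {q : Finset α} {C : Subgroup (Equiv.Perm α)}
  {c : Equiv.Perm α} (S : K4 G m)
include S

theorem ctx3_exists {q : Finset α} (hq : q.card = 4) : ∃ C c, Ctx3 G m q C c := by
  haveI := Fact.mk Nat.prime_three
  obtain ⟨C, hC, hCm⟩ := S.compl q hq
  obtain ⟨⟨c, hc⟩, ho⟩ := exists_prime_orderOf_dvd_card' (G := C) 3 (by rw [hCm]; exact S.three_dvd)
  rw [Subgroup.orderOf_mk] at ho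
  have hsub : q ⊆ fixed c := fun x hx => mem_fixed.2 ((hC.le hc).2 x hx)
  exact ⟨C, c, hq, hC, hCm, ⟨(hC.le hc).1, Nat.prime_three, ho, S.three_dvd, hq ▸ card_le_card hsub⟩, hc, hsub⟩

theorem elt3_card {c c' : Equiv.Perm α} (e : Elt G m c 3) (e' : Elt G m c' 3) :
    (fixed c).card = (fixed c').card := by
  obtain ⟨q, hqc, hq⟩ := exists_subset_card_eq e.four
  obtain ⟨q', hqc', hq'⟩ := exists_subset_card_eq e'.four
  obtain ⟨g, hg, himg⟩ := S.set.trans.exists_image hq hq'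
  have hord : orderOf (g * c * g⁻¹) = 3 := by
    rw [show g * c * g⁻¹ = MulAut.conj g c from rfl, MulEquiv.orderOf_eq, e.order]
  have hmem : g * c * g⁻¹ ∈ fixG G q' := ⟨mul_mem (mul_mem hg e.mem) (inv_mem hg), fun x hx => by
    rw [← himg] at hx
    obtain ⟨y, hy, rfl⟩ := mem_image.1 hx
    rw [CfsgSharpTrans.conj_at g c rfl, mem_fixed.1 (hqc hy)]⟩
  obtain ⟨h, hh, hhc⟩ := conj_quad S hq' hmem (elt_mem S e' hqc') Nat.prime_three hord e'.order e'.dvd
  have h1 := zpow_fixed hhc (by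
    rw [show h * c' * h⁻¹ = MulAut.conj h c' from rfl, MulEquiv.orderOf_eq, e'.order, hord])
  rw [CfsgSharpTrans.fixed_conj, CfsgSharpTrans.fixed_conj] at h1
  have := congrArg Finset.card h1
  rwa [card_image_of_injective _ h.injective, card_image_of_injective _ g.injective, eq_comm] at this

/-- Centralising two-elements of three-point stabilisers when seven or eleven points are fixed. -/
theorem two_cent {c : Equiv.Perm α} {r : ℕ} (e : Elt G m c r) (hl : (fixed c).card = 7 ∨ (fixed c).card = 11)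
    {T : Finset α} (hT : T.card = 3) (hTc : T ⊆ fixed c) :
    ∃ t ∈ fixG G T, ∃ i : ℕ, t ^ 2 ^ i = 1 ∧ t ≠ 1 ∧ Commute t c := by
  classical
  haveI := Fact.mk Nat.prime_two
  set T' : Finset (fixed c) := univ.filter fun x => (x : α) ∈ T
  have hT' : T'.card = 3 := by
    rw [← hT]
    exact card_bij (fun x _ => (x : α)) (fun x hx => (mem_filter.1 hx).2) (fun _ _ _ _ h => Subtype.ext h)
      fun y hy => ⟨⟨y, hTc hy⟩, mem_filter.2 ⟨mem_univ _, hy⟩, rfl⟩
  obtain ⟨d, hd⟩ : ∃ d, d ∉ T' := by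
    by_contra h
    push Not at h
    have := congrArg Finset.card (eq_univ_of_forall h)
    rw [hT', card_univ, Fintype.card_coe] at this
    omega
  set Y := indG (NG G c) (fixed c)
  have hY : Trans4 Y := witt S e
  have h3 := hY.card_three hT' hd
  have h4 := hY.card (q := insert d T') (by rw [card_insert_of_notMem hd, hT'])
  have hev : 2 ∣ Nat.card (fixG Y T') := by
    rw [h3, Fintype.card_coe]
    rcases hl with hl | hl <;> rw [hl]
    · exact (show 2 ∣ 7 - 3 by norm_num).mul_right _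
    · exact (show 2 ∣ 11 - 3 by norm_num).mul_right _
  obtain ⟨⟨p, hp⟩, ho⟩ := exists_prime_orderOf_dvd_card' (G := fixG Y T') 2 hev
  rw [Subgroup.orderOf_mk] at ho
  have hpc : (fixed c).card = 11 ∧ p ∈ Y ∨ 5 ≤ (fixed c).card ∧ (fixed c).card ≠ 11 ∧ p ∈ alternatingGroup (fixed c) := by
    rcases hl with hl | hl
    · refine .inr ⟨by omega, by omega, ?_⟩
      rcases fixed_cases S e with ⟨h, -⟩ | ⟨-, h⟩ | ⟨h, -⟩
      · omega
      · exact h ▸ hp.1
      · omega
    · exact .inl ⟨hl, hp.1⟩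
  obtain ⟨u, hu, huc, hue⟩ := cent S e hpc
  have heven : 2 ∣ orderOf u := by
    rw [← ho]
    refine orderOf_dvd_of_pow_eq_one (Equiv.ext fun x => Subtype.ext ?_)
    rw [← indG_pow hue, pow_orderOf_eq_one]
    rfl
  obtain ⟨j, i, -, hji, hj1⟩ := exists_two_power heven
  have huT : u ∈ fixG G T := ⟨hu, fun x hx => by
    rw [show u x = u ((⟨x, hTc hx⟩ : fixed c) : α) from rfl, hue, hp.2 _ (mem_filter.2 ⟨mem_univ _, hx⟩)]⟩
  exact ⟨u ^ j, pow_mem huT j, i, hji, hj1, huc.pow_left j⟩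

/-- With seven or eleven fixed points every normalising element factors through the centraliser. -/
theorem norm_factor {c g : Equiv.Perm α} {r : ℕ} (e : Elt G m c r) (hl : (fixed c).card = 7 ∨ (fixed c).card = 11)
    (hg : g ∈ NG G c) {q : Finset α} (hq : q ⊆ fixed c) :
    ∃ u v : Equiv.Perm α, Commute u c ∧ g = u * v ∧ v ∈ fixG G q ∧
      v * c * v⁻¹ = g * c * g⁻¹ := by
  obtain ⟨p, hp, hpe⟩ := exists_perm hg (image_fixed_of_mem_NG hg)
  have hpc : (fixed c).card = 11 ∧ p ∈ indG (NG G c) (fixed c) ∨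
      5 ≤ (fixed c).card ∧ (fixed c).card ≠ 11 ∧ p ∈ alternatingGroup (fixed c) := by
    rcases hl with hl | hl
    · refine .inr ⟨by omega, by omega, ?_⟩
      rcases fixed_cases S e with ⟨h, -⟩ | ⟨-, h⟩ | ⟨h, -⟩
      · omega
      · exact h ▸ hp
      · omega
    · exact .inl ⟨hl, hp⟩
  obtain ⟨u, hu, huc, hue⟩ := cent S e hpc
  refine ⟨u, u⁻¹ * g, huc, by group, ⟨mul_mem (inv_mem hu) (mem_NG.1 hg).1, fun x hx => ?_⟩, ?_⟩
  · rw [Equiv.Perm.mul_apply, Equiv.Perm.inv_def, Equiv.symm_apply_eq, hue ⟨x, hq hx⟩, ← hpe]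
  · obtain ⟨i, hi⟩ := Subgroup.mem_zpowers_iff.1 (mem_NG.1 hg).2
    rw [show u⁻¹ * g * c * (u⁻¹ * g)⁻¹ = u⁻¹ * (g * c * g⁻¹) * u by group, ← hi, mul_assoc,
      ((huc.zpow_right i).eq).symm, inv_mul_cancel_left]

variable (X : Ctx3 G m q C c)
include X

theorem three_big (hl : (fixed c).card = 7 ∨ (fixed c).card = 11) : False := by
  obtain ⟨T, hTq, hT⟩ := exists_subset_card_eq (show 3 ≤ q.card by have := X.hq; omega)
  obtain ⟨t, ht, i, hti, ht1, htc⟩ := two_cent S X.ec hl hT (hTq.trans X.sub)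
  refine transfer_kill S hT le_rfl (fun g hg _ _ => hg) X.ec (fixG_anti hTq (X.hC.le X.mem))
    (by rcases hl with h | h <;> rw [h] <;> decide) (fun g hg hgc _ => ?_) ht ht1 hti htc
  obtain ⟨u, v, huc, hguv, hv, hconj⟩ := norm_factor S X.ec hl (mem_NG.2 ⟨hg.1, hgc⟩) X.sub
  have hvc : Commute v c := by
    refine odd_commute X.ec.order (S.odd.of_dvd_nat ?_) (hconj ▸ hgc)
    exact norm_odd S X.ec X.hq X.sub (mem_NG.2 ⟨hv.1, hconj ▸ hgc⟩) hv
  rw [hguv]
  exact huc.mul_left hvc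

theorem three_four (hl : (fixed c).card = 4) : False := by
  classical
  haveI := Fact.mk Nat.prime_three
  obtain ⟨T, hTq, hT⟩ := exists_subset_card_eq (show 3 ≤ q.card by have := X.hq; omega)
  have hF : fixed c = q := (eq_of_subset_of_card_le X.sub (by rw [hl, X.hq])).symm
  have hCM : C ≤ fixG G T := X.hC.le.trans (fixG_anti hTq)
  -- normalising an element fixing exactly the quadruple keeps the fourth point
  have hfour : ∀ {w g : Equiv.Perm α}, fixed w = q → g ∈ fixG G T → g * w * g⁻¹ ∈ Subgroup.zpowers w →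
      g ∈ fixG G q := fun {w g} hw hg hgw => ⟨hg.1, fun y hy => by
    have hFx : q.image g = q := hw ▸ image_fixed_of_mem_NG (mem_NG.2 ⟨hg.1, hgw⟩)
    by_cases hyT : y ∈ T
    · exact hg.2 y hyT
    obtain ⟨d, hd⟩ := card_eq_one.1 (show (q \ T).card = 1 by rw [card_sdiff_of_subset hTq, X.hq, hT])
    have h1 : y ∈ q \ T := mem_sdiff.2 ⟨hy, hyT⟩
    have h2 : g y ∈ q \ T := by
      refine mem_sdiff.2 ⟨hFx ▸ mem_image_of_mem g hy, fun h => hyT ?_⟩
      exact g.injective (hg.2 _ h) ▸ h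
    rw [hd, mem_singleton] at h1 h2
    rw [h2, h1]⟩
  have hc1 : c ≠ 1 := elt_ne X.ec
  obtain ⟨P, hP⟩ := (IsPGroup.of_card (n := 1)
    (by rw [Nat.card_zpowers, Subgroup.orderOf_mk, X.ec.order, pow_one]) :
    IsPGroup 3 (Subgroup.zpowers (⟨c, X.mem⟩ : C))).exists_le_sylow
  set R := (P : Subgroup C).map C.subtype
  have hRp : IsPGroup 3 R := P.isPGroup'.map C.subtype
  have hRC : R ≤ C := Subgroup.map_subtype_le _
  have hcR : c ∈ R := ⟨⟨c, X.mem⟩, hP (Subgroup.mem_zpowers _), rfl⟩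
  haveI : IsCyclic R := X.hC.cyclic (by norm_num) hRC hRp
  obtain ⟨N, hNM, hNn, hNcop, hN⟩ := exists_complement (X := fixG G T) (fun g hg => hCM (hRC hg)) hRp
    (fun y hy hyn hyp => by
      have hyc := normalizes_of_cyclic hyn hcR
      have hyC : y ∈ C := norm_mem S X.hC X.mem hc1 (hfour hF hy hyc) hyc
      have hY : IsPGroup 3 (Subgroup.zpowers y) := by
        obtain ⟨j, hj⟩ := hyp
        obtain ⟨l, -, hl⟩ := (Nat.dvd_prime_pow Nat.prime_three).1 (orderOf_dvd_of_pow_eq_one hj)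
        exact IsPGroup.of_card (n := l) (by rw [Nat.card_zpowers, hl])
      have hle : R ⊔ Subgroup.zpowers y ≤ C := sup_le hRC (Subgroup.zpowers_le.2 hyC)
      have he := P.is_maximal' (Q := (R ⊔ Subgroup.zpowers y).subgroupOf C)
        ((hRp.to_sup_of_normal_left' hY (Subgroup.zpowers_le.2 hyn)).of_equiv
          (Subgroup.subgroupOfEquivOfLe hle).symm)
        (fun z hz => Subgroup.mem_sup_left (⟨z, hz, rfl⟩ : (z : Equiv.Perm α) ∈ R))
      have hy' : (⟨y, hyC⟩ : C) ∈ (R ⊔ Subgroup.zpowers y).subgroupOf C :=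
        Subgroup.mem_sup_right (Subgroup.mem_zpowers y)
      rw [he] at hy'
      exact ⟨_, hy', rfl⟩)
    hcR X.ec.order (fun g hg hgc _ => odd_commute X.ec.order
      (S.odd.of_dvd_nat (norm_odd S X.ec X.hq X.sub (mem_NG.2 ⟨hg.1, hgc⟩) (hfour hF hg hgc))) hgc)
  have hC1 : ∀ w ∈ C, (orderOf w).Coprime 3 → w ∈ C ⊓ N := fun w hw h => ⟨hw, hN w (hCM hw) h⟩
  have hord : ∀ w ∈ C, orderOf w ∣ m := fun w hw => by
    rw [← X.hCm, ← Subgroup.orderOf_mk w hw]; exact orderOf_dvd_natCard _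
  have hsub : ∀ w ∈ C, q ⊆ fixed w := fun w hw x hx => mem_fixed.2 ((X.hC.le hw).2 x hx)
  -- all elements of prime order of the complement fix exactly the quadruple
  by_cases hall : ∀ w ∈ C, (orderOf w).Prime → fixed w = q
  · refine frob_kill S hT le_rfl (fun g hg _ _ => hg) X.hC X.hCm le_rfl hCM X.hC.ne_bot
      fun w hw hp g hg hgw => ?_
    exact norm_mem S X.hC hw (fun h => hp.ne_one (by rw [h, orderOf_one])) (hfour (hall w hw hp) hg hgw) hgw
  push Not at hall
  obtain ⟨w, hw, hwp, hwF⟩ := hall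
  have hw3 : orderOf w ≠ 3 := fun h3 => by
    obtain ⟨a, ha, hwa⟩ := X.hC.prime_conj le_rfl X.mem hw X.ec.order h3
    refine hwF ?_
    rw [zpow_fixed hwa (by rw [h3, show a * c * a⁻¹ = MulAut.conj a c from rfl, MulEquiv.orderOf_eq, X.ec.order]),
      CfsgSharpTrans.fixed_conj, hF]
    exact (image_congr fun x hx => (X.hC.le ha).2 x hx).trans image_id
  have hwC1 : w ∈ C ⊓ N := hC1 w hw ((hwp.coprime_iff_not_dvd).2 fun h =>
    hw3 ((Nat.prime_dvd_prime_iff_eq hwp Nat.prime_three).1 h))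
  have hne : C ⊓ N ≠ ⊥ := fun h => hwp.ne_one (by
    have hw1 := hwC1
    rw [h, Subgroup.mem_bot] at hw1
    rw [hw1, orderOf_one])
  obtain ⟨z, hz, r, hr, hzo, hzc⟩ := X.hC.exists_central inf_le_left hne
    ((X.hCm.symm ▸ S.odd).of_dvd_nat (Subgroup.card_dvd_of_le inf_le_left))
  haveI := Fact.mk hr
  have hr3 : ¬ r ∣ 3 := fun h => hr.ne_one (Nat.dvd_one.1 (hNcop ▸ Nat.dvd_gcd
    (by rw [← hzo, ← Subgroup.orderOf_mk z hz.2]; exact orderOf_dvd_natCard _) h))
  have ez : Elt G m z r :=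
    ⟨(X.hC.le hz.1).1, hr, hzo, hzo ▸ hord z hz.1, X.hq ▸ card_le_card (hsub z hz.1)⟩
  have hznorm : ∀ h ∈ C, h * z * h⁻¹ ∈ Subgroup.zpowers z := fun h hh => by
    obtain ⟨a, ha, hm⟩ := X.hC.prime_conj (A := C ⊓ N) inf_le_left hz
      ⟨C.mul_mem (C.mul_mem hh hz.1) (C.inv_mem hh), hNn h (hCM hh) z hz.2⟩ hzo
      (by rw [show h * z * h⁻¹ = MulAut.conj h z from rfl, MulEquiv.orderOf_eq, hzo])
    rwa [(hzc a ha).eq, mul_inv_cancel_right] at hm
  have hcF : (fixed z).card ≠ 7 → fixed z ⊆ q := fun h7 x hx => by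
    rw [← hF, mem_fixed]
    exact (fix_four S ez (mem_NG.2 ⟨X.ec.mem, hznorm c X.mem⟩) X.hq (hsub z hz.1) (X.hC.le X.mem).2).2 (.inl h7) x hx
  have hzl := S.fixed_mem ez
  simp only [mem_insert, mem_singleton] at hzl
  rcases (show (fixed z).card = 4 ∨ (fixed z).card = 5 ∨ (fixed z).card = 6 ∨
      ((fixed z).card = 7 ∨ (fixed z).card = 11) by tauto) with h | h | h | h
  · -- the central element carries everything
    refine hwF (Subset.antisymm (fun x hx => ?_) (hsub w hw))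
    have hzF : fixed z = q := (eq_of_subset_of_card_le (hsub z hz.1) (by rw [h, X.hq])).symm
    rw [← hzF, mem_fixed]
    have ew : Elt G m w (orderOf w) :=
      ⟨(X.hC.le hw).1, hwp, rfl, hord w hw, X.hq ▸ card_le_card (hsub w hw)⟩
    refine (fix_four S ew (cent_le_NG ez.mem (hzc w hwC1).symm) X.hq (hsub w hw) (X.hC.le hz.1).2).2 (.inr ?_) x hx
    rw [hzo]
    exact (hr.coprime_iff_not_dvd).2 hr3
  · have := card_le_card (hcF (by omega)); rw [h, X.hq] at this; omega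
  · have := card_le_card (hcF (by omega)); rw [h, X.hq] at this; omega
  obtain ⟨t, ht, i, hti, ht1, htc⟩ := two_cent S ez h hT (hTq.trans (hsub z hz.1))
  refine transfer_kill S hT hNM
    (fun g hg i hi => hN g hg (coprime_of_pow_eq_one Nat.prime_two hi (by norm_num))) ez hz.2 ?_
    (fun g hg hgz _ => ?_) ht ht1 hti htc
  · intro hd
    have h2 : r ≠ 2 := ne_two S ez
    have h4 : r ∣ 2 := hr.dvd_of_dvd_pow (n := 3) (hd.trans (by rcases h with h | h <;> rw [h] <;> norm_num))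
    exact h2 ((Nat.prime_dvd_prime_iff_eq hr Nat.prime_two).1 h4)
  · obtain ⟨u, v, huz, -, hv, hconj⟩ := norm_factor S ez h (mem_NG.2 ⟨(hNM hg).1, hgz⟩) (hsub z hz.1)
    have hvz : v * z * v⁻¹ ∈ Subgroup.zpowers z := hconj.symm ▸ hgz
    have hvC : v ∈ C := norm_mem S X.hC hz.1 (elt_ne ez) hv hvz
    obtain ⟨k, hk⟩ := Subgroup.mem_zpowers_iff.1 hgz
    -- a three-power of the element centralises
    obtain ⟨a, b, hb, hab⟩ := Nat.exists_eq_pow_mul_and_not_dvd (orderOf_pos v).ne' 3 (by norm_num)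
    have hva : v ^ 3 ^ a ∈ C ⊓ N := hC1 _ (pow_mem hvC _) (by
      rw [orderOf_pow' _ (pow_ne_zero a three_ne_zero), hab, Nat.gcd_mul_right_left,
        Nat.mul_div_cancel_left _ (pow_pos (by norm_num) a)]
      exact (Nat.prime_three.coprime_iff_not_dvd.2 hb).symm)
    have h1 : g ^ 3 ^ a * z * (g ^ 3 ^ a)⁻¹ = z := by
      rw [conj_iter hk.symm, ← conj_iter (hconj.trans hk.symm), (hzc _ hva).eq, mul_inv_cancel_right]
    have hgo : (3 ^ a).Coprime (orderOf g) := by
      refine Nat.Coprime.pow_left a ?_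
      refine Nat.Coprime.coprime_dvd_right ?_ hNcop.symm
      rw [← Subgroup.orderOf_mk g hg]
      exact orderOf_dvd_natCard _
    obtain ⟨j, hj⟩ := exists_pow_eq_self_of_coprime hgo
    rw [← hj]
    exact (show Commute (g ^ 3 ^ a) z from mul_inv_eq_iff_eq_mul.1 h1).pow_left j

end K4

end CfsgLib.FourFrob
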