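import Cfsg.Agent.Lib.FourFrob.FourKills

/-!
Restriction to invariant sets, orders of three-point stabilisers, lifts of three-cycles.
-/

set_option autoImplicit false
set_option linter.unusedSectionVars false
set_option linter.style.haveILetI false

namespace CfsgLib.FourFrob

open Finset
open CfsgSharpTrans (D4 fixed mem_fixed)

universe u

variable {α : Type u} [Fintype α] [DecidableEq α]

theorem exists_two_power {Γ : Type u} [Group Γ] [Finite Γ] {g : Γ} (h : 2 ∣ orderOf g) :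
    ∃ j i : ℕ, Odd j ∧ (g ^ j) ^ 2 ^ i = 1 ∧ g ^ j ≠ 1 := by
  obtain ⟨i, j, hj, ho⟩ := Nat.exists_eq_two_pow_mul_odd (orderOf_pos g).ne'
  refine ⟨j, i, hj, by rw [← pow_mul, mul_comm, ← ho, pow_orderOf_eq_one], fun hg => ?_⟩
  exact hj.not_two_dvd_nat (h.trans (orderOf_dvd_of_pow_eq_one hg))

/-- Elements of order three in a coset of a normalised subgroup of order prime to three are conjugate. -/
theorem conj_three {Γ : Type u} [Group Γ] [Finite Γ] {C : Subgroup Γ} (hC : ¬ 3 ∣ Nat.card C) {g g' : Γ}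
    (hn : g ∈ Subgroup.normalizer (C : Set Γ)) (hg : orderOf g = 3) (hg' : orderOf g' = 3) (h : g⁻¹ * g' ∈ C) :
    ∃ c ∈ C, c * g * c⁻¹ = g' := by
  haveI := Fact.mk Nat.prime_three
  set L := C ⊔ Subgroup.zpowers g with hL
  have hA : Subgroup.zpowers g ≤ Subgroup.normalizer (C : Set Γ) := Subgroup.zpowers_le.2 hn
  have hn' : g' ∈ Subgroup.normalizer (C : Set Γ) := by
    have := mul_mem hn (Subgroup.le_normalizer h)
    rwa [mul_inv_cancel_left] at this
  have hgL : g ∈ L := Subgroup.mem_sup_right (Subgroup.mem_zpowers g)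
  have hg'L : g' ∈ L := by
    have := mul_mem hgL (Subgroup.mem_sup_left h : g⁻¹ * g' ∈ L)
    rwa [mul_inv_cancel_left] at this
  have hC3 : ∀ x ∈ C, ∀ i : ℕ, x ^ 3 ^ i = 1 → x = 1 := fun x hx i hi =>
    eq_one_of_coprime_pow hi (congrArg Subtype.val (pow_card_eq_one' (x := (⟨x, hx⟩ : C))))
      ((Nat.prime_three.coprime_iff_not_dvd.2 hC).pow_left i)
  have key : ∀ x : Γ, orderOf x = 3 → x ∈ L → ∀ P : Sylow 3 L, ∀ hx : x ∈ L, (⟨x, hx⟩ : L) ∈ P →
      (P : Subgroup L) = Subgroup.zpowers ⟨x, hx⟩ := by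
    intro x hxo _ P hx hxP
    refine le_antisymm (fun y hy => ?_) (Subgroup.zpowers_le.2 hxP)
    have hdec : ∀ w ∈ L, ∃ c ∈ C, ∃ i : ℤ, c * g ^ i = w := fun w hw => by
      obtain ⟨c, hc, a, ha, e⟩ := CfsgLib.mem_sup_of_le_normalizer hA hw
      obtain ⟨i, rfl⟩ := Subgroup.mem_zpowers_iff.1 ha
      exact ⟨c, hc, i, e⟩
    obtain ⟨c, hc, i, e⟩ := hdec x hx
    obtain ⟨c', hc', i', e'⟩ := hdec y y.2
    have hi : ¬ (3 : ℤ) ∣ i := fun hd => by
      have h1 : g ^ i = 1 := by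
        rw [show (3 : ℤ) = (orderOf g : ℤ) by rw [hg]; rfl] at hd; exact orderOf_dvd_iff_zpow_eq_one.1 hd
      rw [h1, mul_one] at e
      subst e
      have := hC3 c hc 1 (by rw [pow_one, ← hxo, pow_orderOf_eq_one])
      rw [this, orderOf_one] at hxo
      exact absurd hxo (by norm_num)
    obtain ⟨k, hk⟩ : ∃ k : ℤ, (3 : ℤ) ∣ i' - i * k := by
      have hcop : IsCoprime i (3 : ℤ) :=
        ((Int.prime_three).coprime_iff_not_dvd.2 hi).symm
      obtain ⟨u, v, huv⟩ := hcop
      exact ⟨u * i', v * i', by linear_combination (-i') * huv⟩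
    have hmem : (y : Γ) * (x ^ k)⁻¹ ∈ C := by
      have hq : ∀ w ∈ L, ∀ c₁ ∈ C, ∀ j : ℤ, c₁ * g ^ j = w → ∀ n : ℤ, w ^ n * (g ^ (j * n))⁻¹ ∈ C := by
        intro w _ c₁ hc₁ j hw n
        induction n using Int.induction_on with
        | zero => simp
        | succ n ih =>
          have h1 : g ^ (j * (n : ℤ)) * c₁ * (g ^ (j * (n : ℤ)))⁻¹ ∈ C :=
            (Subgroup.mem_normalizer_iff.1 (zpow_mem hn _) c₁).1 hc₁
          have := mul_mem ih h1
          convert this using 1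
          rw [zpow_add_one, ← hw, mul_add, mul_one, zpow_add]
          group
        | pred n ih =>
          have h1 : g ^ (j * (-(n : ℤ) - 1)) * c₁⁻¹ * (g ^ (j * (-(n : ℤ) - 1)))⁻¹ ∈ C :=
            (Subgroup.mem_normalizer_iff.1 (zpow_mem hn _) _).1 (inv_mem hc₁)
          have := mul_mem ih h1
          convert this using 1
          rw [zpow_sub_one, ← hw, mul_sub, mul_one, zpow_sub]
          group
      have h2 := hq x hx c hc i e k
      obtain ⟨l, hl⟩ := hk
      have hgl : g ^ i' = g ^ (i * k) := by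
        have h3 : g ^ (3 : ℤ) = 1 := by
          rw [show (3 : ℤ) = ((3 : ℕ) : ℤ) by rfl, zpow_natCast, ← hg, pow_orderOf_eq_one]
        rw [show i' = i * k + 3 * l by linarith, zpow_add, zpow_mul g 3 l, h3, one_zpow, mul_one]
      have := mul_mem hc' (inv_mem h2)
      convert this using 1
      rw [← e', hgl]
      group
    obtain ⟨j, hj⟩ := P.isPGroup' ⟨_, P.1.mul_mem hy (P.1.inv_mem (P.1.zpow_mem hxP k))⟩
    have h1 := hC3 _ hmem j (by simpa using congrArg (fun w : (P : Subgroup L) => ((w : L) : Γ)) hj)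
    exact Subgroup.mem_zpowers_iff.2 ⟨k, Subtype.ext (mul_inv_eq_one.1 h1).symm⟩
  obtain ⟨P, hP⟩ := (IsPGroup.of_card (n := 1) (by rw [Nat.card_zpowers, Subgroup.orderOf_mk, hg, pow_one]) :
    IsPGroup 3 (Subgroup.zpowers (⟨g, hgL⟩ : L))).exists_le_sylow
  obtain ⟨Q, hQ⟩ := (IsPGroup.of_card (n := 1) (by rw [Nat.card_zpowers, Subgroup.orderOf_mk, hg', pow_one]) :
    IsPGroup 3 (Subgroup.zpowers (⟨g', hg'L⟩ : L))).exists_le_sylow
  obtain ⟨l, hl⟩ := MulAction.exists_smul_eq L P Q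
  obtain ⟨c, hc, a, ha, hca⟩ := CfsgLib.mem_sup_of_le_normalizer hA l.2
  have h1 : (l * ⟨g, hgL⟩ * l⁻¹ : L) ∈ Subgroup.zpowers (⟨g', hg'L⟩ : L) := by
    rw [← key g' hg' hg'L Q hg'L (hQ (Subgroup.mem_zpowers _)), ← hl, Sylow.coe_subgroup_smul]
    exact ⟨⟨g, hgL⟩, hP (Subgroup.mem_zpowers _), rfl⟩
  obtain ⟨k, hk⟩ := Subgroup.mem_zpowers_iff.1 h1
  have hk' : g' ^ k = c * g * c⁻¹ := by
    have h2 : g' ^ k = (l : Γ) * g * (l : Γ)⁻¹ := by simpa using congrArg Subtype.val hk
    obtain ⟨i, rfl⟩ := Subgroup.mem_zpowers_iff.1 ha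
    rw [h2, ← hca]; group
  refine ⟨c, hc, ?_⟩
  -- modulo the subgroup the exponent is one
  suffices h31 : (3 : ℤ) ∣ k - 1 by
    rw [← hk']
    calc g' ^ k = g' ^ (k - 1) * g' := (zpow_sub_one g' k ▸ by group : _)
      _ = g' := by
        rw [show (3 : ℤ) = (orderOf g' : ℤ) by rw [hg']; rfl] at h31
        rw [orderOf_dvd_iff_zpow_eq_one.1 h31, one_mul]
  by_contra h31
  have hN := Subgroup.le_normalizer (H := C)
  have hmem : g' ^ (k - 1) ∈ C := by
    have h2 : c * g * c⁻¹ * g'⁻¹ ∈ C := by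
      have h4 : g * c⁻¹ * g⁻¹ ∈ C := (Subgroup.mem_normalizer_iff.1 hn _).1 (inv_mem hc)
      have h5 : g * g'⁻¹ ∈ C := by
        have := (Subgroup.mem_normalizer_iff.1 hn _).1 (inv_mem h)
        have e2 : g * (g⁻¹ * g')⁻¹ * g⁻¹ = g * g'⁻¹ := by group
        rwa [e2] at this
      have := mul_mem (mul_mem hc h4) h5
      convert this using 1
      group
    rwa [← hk', ← zpow_sub_one] at h2
  have h3 := hC3 _ hmem 1 (by
    rw [pow_one, ← zpow_natCast, ← zpow_mul, mul_comm, zpow_mul, zpow_natCast, ← hg', pow_orderOf_eq_one,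
      one_zpow])
  exact h31 (by rw [show (3 : ℤ) = (orderOf g' : ℤ) by rw [hg']; rfl]; exact orderOf_dvd_iff_zpow_eq_one.2 h3)

/-- The index of a four-point stabiliser in a three-point stabiliser. -/
theorem Trans4.card_three {G : Subgroup (Equiv.Perm α)} (hG : Trans4 G) {T : Finset α} (hT : T.card = 3) {d : α}
    (hd : d ∉ T) : Nat.card (fixG G T) = (Fintype.card α - 3) * Nat.card (fixG G (insert d T)) := by
  classical
  set M := fixG G T
  have horb : MulAction.orbit M d = ((univ \ T : Finset α) : Set α) := by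
    ext x
    rw [mem_coe, mem_sdiff]
    constructor
    · rintro ⟨g, rfl⟩
      refine ⟨mem_univ _, fun h => hd ?_⟩
      have h1 : (g : Equiv.Perm α) ((g : Equiv.Perm α) d) = (g : Equiv.Perm α) d := g.2.2 _ h
      have h2 := (g : Equiv.Perm α).injective h1
      exact h2 ▸ h
    · rintro ⟨-, hx⟩
      obtain ⟨a, b, c, hab, hac, hbc, rfl⟩ := card_eq_three.1 hT
      simp only [mem_insert, mem_singleton, not_or] at hd hx
      obtain ⟨g, hg, e1, e2, e3, e4⟩ := hG a b c d a b c x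
        ⟨hab, hac, Ne.symm hd.1, hbc, Ne.symm hd.2.1, Ne.symm hd.2.2⟩
        ⟨hab, hac, Ne.symm hx.1, hbc, Ne.symm hx.2.1, Ne.symm hx.2.2⟩
      refine ⟨⟨g, hg, fun y hy => ?_⟩, e4⟩
      simp only [mem_insert, mem_singleton] at hy
      rcases hy with rfl | rfl | rfl <;> assumption
  have h1 := Subgroup.index_mul_card (MulAction.stabilizer M d)
  rw [MulAction.index_stabilizer, horb, Set.ncard_coe_finset, card_sdiff_of_subset (subset_univ T), card_univ,
    hT] at h1
  rw [← h1]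
  congr 1
  refine Nat.card_congr
    { toFun := fun g => ⟨(g.1 : Equiv.Perm α), g.1.2.1, fun y hy => ?_⟩
      invFun := fun g => ⟨⟨g.1, fixG_anti (subset_insert d T) g.2⟩, g.2.2 d (mem_insert_self d T)⟩
      left_inv := fun _ => rfl
      right_inv := fun _ => rfl }
  rcases mem_insert.1 hy with rfl | h
  · exact g.2
  · exact g.1.2.2 y h

namespace K4

variable {G : Subgroup (Equiv.Perm α)} {m : ℕ} (S : K4 G m)
include S

theorem card_quad_eq {q q' : Finset α} (hq : q.card = 4) (hq' : q'.card = 4) :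
    Nat.card (fixG G q) = Nat.card (fixG G q') := by
  obtain ⟨g, hg, rfl⟩ := S.set.trans.exists_image hq hq'
  rw [← map_fixG hg]
  exact Nat.card_congr ((fixG G q).equivMapOfInjective _ (MulAut.conj g).injective).toEquiv

/-- Restriction to a set permuted by everything carrying one of its quadruples into it. -/
theorem restrict {E : Finset α} (hE : 4 < E.card)
    (hstab : ∀ g ∈ G, ∀ q : Finset α, q.card = 4 → q ⊆ E → q.image g ⊆ E → E.image g = E) :
    K4 (indG G E) m := by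
  classical
  -- quadruples of the set
  let up : Finset E → Finset α := fun q => q.map (Function.Embedding.subtype _)
  have hup : ∀ q : Finset E, (up q).card = q.card ∧ up q ⊆ E := fun q =>
    ⟨card_map _, fun x hx => by obtain ⟨y, -, rfl⟩ := mem_map.1 hx; exact y.2⟩
  have hpres : ∀ q : Finset E, q.card = 4 → ∀ g ∈ fixG G (up q), E.image g = E := fun q hq g hg => by
    refine hstab g hg.1 (up q) ((hup q).1.trans hq) (hup q).2 fun x hx => ?_
    obtain ⟨y, hy, rfl⟩ := mem_image.1 hx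
    rw [hg.2 y hy]
    exact (hup q).2 hy
  have hf : ∀ q : Finset E, q.card = 4 → ∀ g : fixG G (up q), ∀ x : E, (g : Equiv.Perm α) x ∈ E :=
    fun q hq g x => by
      have h := mem_image_of_mem (g : Equiv.Perm α) x.2
      rwa [hpres q hq g g.2] at h
  let res : ∀ q : Finset E, q.card = 4 → fixG G (up q) →* Equiv.Perm E := fun q hq =>
    { toFun := fun g => (g : Equiv.Perm α).subtypePerm (fun x => ⟨fun h => by
        have := hf q hq g⁻¹ ⟨_, h⟩
        simpa using this, fun h => hf q hq g ⟨x, h⟩⟩)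
      map_one' := rfl
      map_mul' := fun _ _ => rfl }
  have hres : ∀ (q : Finset E) (hq : q.card = 4) (g : fixG G (up q)) (x : E),
      ((res q hq g) x : α) = (g : Equiv.Perm α) x := fun _ _ _ _ => rfl
  have hrange : ∀ (q : Finset E) (hq : q.card = 4), fixG (indG G E) q = (res q hq).range := fun q hq => by
    ext p
    constructor
    · rintro ⟨⟨g, hg, hge⟩, hp⟩
      refine ⟨⟨g, hg, fun x hx => ?_⟩, Equiv.ext fun x => Subtype.ext (hge x)⟩
      obtain ⟨y, hy, rfl⟩ := mem_map.1 hx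
      show g (y : α) = y
      rw [hge, hp y hy]
    · rintro ⟨g, rfl⟩
      exact ⟨⟨g, g.2.1, fun x => rfl⟩, fun x hx => Subtype.ext (g.2.2 _ (mem_map_of_mem _ hx))⟩
  have hPP : ∀ (q : Finset E) (hq : q.card = 4), PP (indG G E) q =
      ((PP G (up q)).subgroupOf (fixG G (up q))).map (res q hq) := fun q hq => by
    refine le_antisymm ((Subgroup.closure_le _).2 ?_) ?_
    · rintro p ⟨hp, i, hi⟩
      rw [hrange q hq] at hp
      obtain ⟨g, rfl⟩ := hp
      obtain ⟨a, j, hj, ho⟩ := Nat.exists_eq_two_pow_mul_odd (orderOf_pos g).ne'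
      have hgj : g ^ j ∈ (PP G (up q)).subgroupOf (fixG G (up q)) := by
        refine Subgroup.subset_closure ⟨(g ^ j).2, a, ?_⟩
        exact congrArg Subtype.val (show (g ^ j) ^ 2 ^ a = 1 by rw [← pow_mul, mul_comm, ← ho, pow_orderOf_eq_one])
      have hord : orderOf (res q hq g) ∣ 2 ^ i := orderOf_dvd_of_pow_eq_one hi
      obtain ⟨k, hk⟩ := exists_pow_eq_self_of_coprime (x := res q hq g) (n := j)
        ((Nat.coprime_two_right.2 hj).pow_right i |>.coprime_dvd_right hord)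
      rw [← hk, ← map_pow, ← map_pow]
      exact Subgroup.mem_map_of_mem _ (pow_mem hgj k)
    · rintro _ ⟨g, hg, rfl⟩
      obtain ⟨i, hi⟩ := S.set.two _ ((hup q).1.trans hq) ⟨g, hg⟩
      refine Subgroup.subset_closure ⟨(hrange q hq).symm ▸ ⟨g, rfl⟩, i, ?_⟩
      have : g ^ 2 ^ i = 1 := Subtype.ext (by simpa using congrArg Subtype.val hi)
      rw [← map_pow, this, map_one]
  have hblk : ∀ q : Finset E, q.card = 4 → Blk (indG G E) q = q := fun q hq => by
    refine Subset.antisymm (fun x hx => ?_) (subset_blk _ _)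
    have hx' : (x : α) ∈ Blk G (up q) := mem_fixS.2 fun g hg => by
      have h1 := mem_fixS.1 hx (res q hq ⟨g, twoPart_le _ hg⟩)
        ((hPP q hq).symm ▸ Subgroup.mem_map_of_mem (res q hq)
          (show (⟨g, twoPart_le _ hg⟩ : fixG G (up q)) ∈ (PP G (up q)).subgroupOf _ from hg))
      exact congrArg Subtype.val h1
    rw [S.blk _ ((hup q).1.trans hq)] at hx'
    exact (mem_map' _).1 hx'
  have hne : ∀ q : Finset E, q.card = 4 → PP (indG G E) q ≠ ⊥ := fun q hq hb => by
    have h := hblk q hq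
    rw [Blk, show PP (indG G E) q = ⊥ from hb] at h
    have hu : q = univ := by
      rw [← h]; exact eq_univ_of_forall fun x => mem_fixS.2 fun g hg => by rw [Subgroup.mem_bot.1 hg]; rfl
    rw [hu, card_univ, Fintype.card_coe] at hq
    omega
  have htrans : Trans4 (indG G E) := by
    intro a b c d a' b' c' d' hd hd'
    have h2 : ∀ {a b c d : E}, D4 a b c d → D4 (a : α) b c d := fun {a b c d} hd => by
      obtain ⟨h1, h2, h3, h4, h5, h6⟩ := hd
      exact ⟨Subtype.coe_ne_coe.2 h1, Subtype.coe_ne_coe.2 h2, Subtype.coe_ne_coe.2 h3, Subtype.coe_ne_coe.2 h4,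
        Subtype.coe_ne_coe.2 h5, Subtype.coe_ne_coe.2 h6⟩
    obtain ⟨g, hg, e1, e2, e3, e4⟩ := S.set.trans a b c d a' b' c' d' (h2 hd) (h2 hd')
    have hE' := hstab g hg {(a : α), (b : α), (c : α), (d : α)} (card_quad (h2 hd))
      (by simp [insert_subset_iff]) (by simp [image_insert, e1, e2, e3, e4, insert_subset_iff])
    obtain ⟨p, hp, e⟩ := exists_perm hg hE'
    exact ⟨p, hp, Subtype.ext ((e a).symm.trans e1), Subtype.ext ((e b).symm.trans e2),
      Subtype.ext ((e c).symm.trans e3), Subtype.ext ((e d).symm.trans e4)⟩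
  refine ⟨⟨htrans, fun q hq => ?_, hne⟩, by rw [Fintype.card_coe]; omega, hblk, S.odd, fun q hq => ?_⟩
  · rw [show twoPart (fixG (indG G E) q) = _ from hPP q hq]
    exact ((S.set.two _ ((hup q).1.trans hq)).of_equiv
      (Subgroup.subgroupOfEquivOfLe (twoPart_le _)).symm).map _
  · obtain ⟨C, hC, hCm⟩ := S.compl (up q) ((hup q).1.trans hq)
    obtain ⟨t, ht, hteq⟩ : ∃ t ∈ (PP G (up q)).subgroupOf (fixG G (up q)), res q hq t ≠ 1 := by
      by_contra hcon
      push Not at hcon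
      refine hne q hq ((hPP q hq).trans ((Subgroup.eq_bot_iff_forall _).2 ?_))
      rintro _ ⟨t, ht, rfl⟩
      exact hcon t ht
    obtain ⟨i, hi⟩ := S.set.two _ ((hup q).1.trans hq) ⟨t, ht⟩
    have hi' : t ^ 2 ^ i = 1 := Subtype.ext (by simpa using congrArg Subtype.val hi)
    obtain ⟨hC', hcard⟩ := hC.map (res q hq) ⟨t, hCm ▸ coprime_of_pow_eq_one Nat.prime_two hi'
      S.odd.not_two_dvd_nat, hteq⟩
    rw [hrange q hq]
    exact ⟨_, hC', hcard.trans hCm⟩

/-- A three-cycle on fixed points lifts to a centralising element of order three. -/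
theorem lift_three {c : Equiv.Perm α} {r : ℕ} (e : Elt G m c r) (h3 : ¬ 3 ∣ m) (hl : 5 ≤ (fixed c).card)
    (hl' : (fixed c).card ≠ 11) {x y w : α} (hx : x ∈ fixed c) (hy : y ∈ fixed c) (hw : w ∈ fixed c)
    (hxy : x ≠ y) (hxw : x ≠ w) (hyw : y ≠ w) :
    ∃ ρ ∈ G, Commute ρ c ∧ ρ ^ 3 = 1 ∧ ρ x = y ∧ ρ y = w ∧ ρ w = x ∧
      ∀ v ∈ fixed c, v ≠ x → v ≠ y → v ≠ w → ρ v = v := by
  classical
  let X : fixed c := ⟨x, hx⟩
  let Y : fixed c := ⟨y, hy⟩
  let W : fixed c := ⟨w, hw⟩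
  have hXY : X ≠ Y := fun h => hxy (congrArg Subtype.val h)
  have hYW : Y ≠ W := fun h => hyw (congrArg Subtype.val h)
  have hXW : X ≠ W := fun h => hxw (congrArg Subtype.val h)
  set p := Equiv.swap X Y * Equiv.swap Y W with hp
  have hpA : p ∈ alternatingGroup (fixed c) := by
    rw [Equiv.Perm.mem_alternatingGroup, map_mul, Equiv.Perm.sign_swap hXY, Equiv.Perm.sign_swap hYW]; rfl
  obtain ⟨u, hu, huc, hue⟩ := cent S e (.inr ⟨hl, hl', hpA⟩)
  have hp3 : p ^ 3 = 1 := by
    have h : p.IsThreeCycle := by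
      rw [hp, Equiv.swap_comm X Y]
      exact Equiv.Perm.isThreeCycle_swap_mul_swap_same hXY.symm hYW hXW
    rw [← h.orderOf, pow_orderOf_eq_one]
  -- the cube lies in a complement
  obtain ⟨q, hqF, hq⟩ := exists_subset_card_eq e.four
  have hu3 : orderOf (u ^ 3) ∣ m := by
    refine norm_odd S e hq hqF (pow_mem (cent_le_NG hu huc) 3) ⟨pow_mem hu 3, fun v hv => ?_⟩
    have := indG_pow hue 3 ⟨v, hqF hv⟩
    rw [hp3] at this
    exact this
  have hu3' : u ^ (3 * m) = 1 := by rw [pow_mul]; exact orderOf_dvd_iff_pow_eq_one.1 hu3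
  have hmm : m * m % 3 = 1 := by
    have h1 : m % 3 ≠ 0 := fun h => h3 (Nat.dvd_of_mod_eq_zero h)
    rw [Nat.mul_mod]
    rcases (show m % 3 = 1 ∨ m % 3 = 2 by omega) with h | h <;> rw [h]
  have hact : ∀ v : fixed c, (u ^ (m * m)) v = p v := fun v => by
    rw [indG_pow hue, ← Nat.div_add_mod (m * m) 3, hmm, pow_add, pow_mul, hp3, one_pow, one_mul, pow_one]
  refine ⟨u ^ (m * m), pow_mem hu _, huc.pow_left _, ?_, ?_, ?_, ?_, fun v hv h1 h2 h4 => ?_⟩
  · rw [← pow_mul, show m * m * 3 = 3 * m * m by ring, pow_mul, hu3', one_pow]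
  · refine (hact X).trans (congrArg Subtype.val (show p X = Y from ?_))
    rw [hp, Equiv.Perm.mul_apply, Equiv.swap_apply_of_ne_of_ne hXY hXW, Equiv.swap_apply_left]
  · refine (hact Y).trans (congrArg Subtype.val (show p Y = W from ?_))
    rw [hp, Equiv.Perm.mul_apply, Equiv.swap_apply_left, Equiv.swap_apply_of_ne_of_ne hXW.symm hYW.symm]
  · refine (hact W).trans (congrArg Subtype.val (show p W = X from ?_))
    rw [hp, Equiv.Perm.mul_apply, Equiv.swap_apply_right, Equiv.swap_apply_right]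
  · refine (hact ⟨v, hv⟩).trans (congrArg Subtype.val (show p ⟨v, hv⟩ = ⟨v, hv⟩ from ?_))
    have k1 : (⟨v, hv⟩ : fixed c) ≠ X := fun h => h1 (congrArg Subtype.val h)
    have k2 : (⟨v, hv⟩ : fixed c) ≠ Y := fun h => h2 (congrArg Subtype.val h)
    have k3 : (⟨v, hv⟩ : fixed c) ≠ W := fun h => h4 (congrArg Subtype.val h)
    rw [hp, Equiv.Perm.mul_apply, Equiv.swap_apply_of_ne_of_ne k2 k3, Equiv.swap_apply_of_ne_of_ne k1 k2]

end K4

end CfsgLib.FourFrob
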